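import Cfsg.Agent.S86.BaseB

set_option autoImplicit false
set_option linter.unusedSectionVars false

namespace Cfsg.Agent.S86

open Subgroup H49 Matrix F42
open Cfsg.Agent.L72 (O2N)

variable {G : Type*} [Group G] [Finite G] {a : V4 → G} {ψ ψ' : S6 →* G} {ρ : Fin 4 → G} {t : Fin 4 → Fin 4 → G}
  {e E : ℕ → G} {φ : S8 →* G}

namespace AffA

variable {n m g : G} {f f' : V4 → V4} {w : Fin 3 → G}

/-- `n` acts as `f` -/
def Ax (a : V4 → G) (n : G) (f : V4 → V4) : Prop := ∀ u, n * a u * n⁻¹ = a (f u)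

theorem Ax.mul (h : Ax a n f) (h' : Ax a m f') : Ax a (n * m) (fun u => f (f' u)) := fun u => by
  rw [← h, ← h']; group

theorem Ax.inv (h : Ax a n f) (e : ∀ u, f (f' u) = u) : Ax a n⁻¹ f' := fun u => by
  conv_lhs => rw [← e u, ← h]
  group

theorem Ax.of (h : Ax a n f) (e : ∀ u, f u = f' u) : Ax a n f' := fun u => e u ▸ h u

theorem Ax.comm (h : Ax a n f) {u : V4} (e : f u = u) : Commute n (a u) :=
  mul_inv_eq_iff_eq_mul.1 ((h u).trans (by rw [e]))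

theorem ax_one : Ax a 1 id := fun u => by simp

def ta (x u : V4) : V4 := u + u 0 • x

def s (i : Fin 3) (u : V4) : V4 := fun j => if j = i.succ then -u j else u j

def io (u : V4) : V4 := ![u 0, -u 1, -u 2, -u 3]

def sh (u : V4) : V4 := ![u 0, u 3, u 1, u 2]

/-- `g` commutes with the `3'`-elements of `C(A)` -/
def Dd (a : V4 → G) (g : G) : Prop := ∀ k, (∀ u, Commute k (a u)) → (orderOf k).Coprime 3 → Commute k g

theorem Dd.mul (h : Dd a n) (h' : Dd a m) : Dd a (n * m) := fun k b c => (h k b c).mul_right (h' k b c)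

theorem Dd.inv (h : Dd a n) : Dd a n⁻¹ := fun k b c => (h k b c).inv_right

theorem Dd.cj (hg : Dd a g) (hn : Ax a n f) : Dd a (n * g * n⁻¹) := fun k b c => by
  have := hg (n⁻¹ * k * n⁻¹⁻¹) (fun u => (qt_comm (g := n)).1 (by rw [hn]; simpa [mul_assoc] using b _))
    (by rwa [← MulAut.conj_apply, MulEquiv.orderOf_eq])
  simpa [mul_assoc] using (qt_comm (g := n)).2 this

theorem dψ (h : St a ψ) (γ : S6) : Dd a (ψ γ) := fun _ b c => h.k0 b c γ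

theorem inv (h : St a ψ) {y : G} (hy : ∀ u, Commute y (a u)) (hs : Ax a n f) (hg : Ax a g f') (ds : Dd a n)
    (dg : Dd a g) (f0 : ∀ u, f u 0 = u 0) (f0' : ∀ u, f' u 0 = u 0) (e : n * y * n⁻¹ = g * y⁻¹ * g⁻¹) :
    ∃ u : V4, u 0 = 0 ∧ y = a u := by
  obtain ⟨u, k, rfl, ho, hk⟩ := h.cenA hy
  have c3 : (orderOf k).Coprime 3 := ho.coprime_dvd_right (by norm_num)
  have e1 : n * (a u * k) * n⁻¹ = a (f u) * k := by
    rw [← hs, mul_assoc (n * a u), ← (ds k hk c3).inv_right.eq]; group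
  have e2 : g * (a u * k)⁻¹ * g⁻¹ = a (f' (-u)) * k⁻¹ := by
    rw [← hg, mul_assoc (g * a _), ← (dg k hk c3).inv_inv.eq, ← (hk u).eq, h.neg]; group
  have e3 : k ^ 2 = a (-f u + f' (-u)) := by
    rw [e1, e2] at e
    rw [h.add, h.neg, eq_inv_mul_iff_mul_eq, sq, ← mul_assoc, e]; group
  have e4 : k = 1 := orderOf_eq_one_iff.1 (Nat.Coprime.eq_one_of_dvd ho (orderOf_dvd_of_pow_eq_one (by
    rw [show 6 = 2 * 3 from rfl, pow_mul, e3, h.cube])))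
  refine ⟨u, ?_, by rw [e4, mul_one]⟩
  have := congrFun (h.inj _ (by rw [← e3, e4, one_pow])) 0
  rw [Pi.add_apply, Pi.neg_apply, f0, f0', Pi.neg_apply] at this
  exact (by decide : ∀ c : ZMod 3, -c + -c = 0 → c = 0) _ this

theorem xm_comm (i j : Fin 3) : Commute (xm i) (xm j) :=
  comm_iff.2 (by simp only [xm, cd_tv]; revert i j; decide +kernel)

/-- the involution inverting `J` -/
def iv : S6 := xm 0 * (xm 1 * xm 2)

theorem iv_xm (i : Fin 3) : Commute iv (xm i) := (xm_comm _ _).mul_left ((xm_comm _ _).mul_left (xm_comm _ _))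

theorem iv_sq : iv * iv = 1 := by
  rw [← sq, iv, ((xm_comm 0 1).mul_right (xm_comm 0 2)).mul_pow, (xm_comm 1 2).mul_pow]
  simp only [sq, xm, tv_sq, mul_one]

theorem iv_q3 : q3 * iv * q3⁻¹ = iv := by
  rw [iv, ← conj_mul, ← conj_mul, (q3_cm 0).2.1, (q3_cm 1).2.1, (q3_cm 2).2.1, ← mul_assoc]
  exact ((xm_comm 0 1).mul_right (xm_comm 0 2)).eq.symm

theorem ar (h : St a ψ) (i : Fin 3) : Ax a (ψ (xm i)) (s i) :=
  Ax.of (h.rfx i).2 ((by decide +kernel : ∀ (i : Fin 3) u, sv (ee i.succ) u = s i u) i)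

theorem ri (h : St a ψ) (i : Fin 3) : (ψ (xm i))⁻¹ = ψ (xm i) := inv_eq_of_mul_eq_one_left (h.rfx i).1

theorem ai (h : St a ψ) : Ax a (ψ iv) io := by
  rw [iv, map_mul, map_mul]; exact ((ar h 0).mul ((ar h 1).mul (ar h 2))).of (by decide +kernel)

theorem ii : (ψ iv)⁻¹ = ψ iv := inv_eq_of_mul_eq_one_left (by rw [← map_mul, iv_sq, map_one])

theorem aq (h : St a ψ) : Ax a (ψ q3) sh := fun u => by
  have e0 : ψ q3 * a (ee 0) * (ψ q3)⁻¹ = a (ee 0) := mul_inv_eq_iff_eq_mul.2 (h.bL q3).eq.symm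
  have e : ∀ i : Fin 3, ψ q3 * a (ee i.succ) * (ψ q3)⁻¹ = a (ee (i + 1).succ) := fun i => by
    rw [← h.c, ← h.c, ← (q3_cm i).1, map_mul, map_mul, map_inv]
  obtain ⟨e1, e2⟩ := (by decide +kernel : ∀ u : V4,
    u = u 0 • ee 0 + u 1 • ee (Fin.succ 0) + u 2 • ee (Fin.succ 1) + u 3 • ee (Fin.succ 2) ∧
    sh u = u 0 • ee 0 + u 1 • ee (Fin.succ (0 + 1)) + u 2 • ee (Fin.succ (1 + 1)) + u 3 • ee (Fin.succ (2 + 1))) u
  rw [e2]
  conv_lhs => rw [e1]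
  simp only [h.add, h.smul, ← conj_mul, ← conj_pow, e0, e]

/-- normal form of an element of `N(A)` -/
theorem nf (h : St a ψ) (ha : ∀ n θ, Ac a n θ → Aff θ) {θ : M4} (hn : Ac a n θ) :
    (θ *ᵥ ee 0) 0 ≠ 0 ∧ ∃ m, Ax a m (ta (θ *ᵥ ee 0 - ee 0)) := by
  obtain ⟨β, hβ, e⟩ := ha n θ hn
  obtain ⟨η, hη, e1⟩ := hβ.inv
  obtain ⟨γ, hγ⟩ := h.iso0 hη
  have k : Ax a (n * ψ γ) (ta (θ *ᵥ ee 0 - ee 0)) := fun u => by
    rw [hn.mul hγ u, ← mulVec_mulVec]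
    have u0 : (u - u 0 • ee 0) 0 = 0 := by simp [ee]
    have := e _ ((hη.zero _).trans u0)
    rw [mulVec_mulVec _ β, e1, one_mulVec, mulVec_sub, mulVec_smul, hη.2, mulVec_sub, mulVec_smul,
      sub_eq_iff_eq_add] at this
    rw [this, ta, smul_sub]
    congr 1; abel
  refine ⟨fun e0 => ?_, _, k⟩
  have h1 := k (ee 0)
  have h2 := k (θ *ᵥ ee 0)
  rw [ta, e0, zero_smul, add_zero] at h2
  rw [ta, show ee 0 0 = 1 from rfl, one_smul, add_sub_cancel, ← h2, mul_left_inj, mul_right_inj] at h1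
  rw [← h.injective h1] at e0
  exact absurd e0 (by decide)

theorem ta_add {x y : V4} (y0 : y 0 = 0) (h : Ax a n (ta x)) (h' : Ax a m (ta y)) : Ax a (n * m) (ta (x + y)) :=
  (h.mul h').of fun u => by
    simp only [ta, Pi.add_apply, Pi.smul_apply, y0, smul_zero, add_zero, smul_add]; abel

theorem ta_pow {x : V4} (x0 : x 0 = 0) (h : Ax a n (ta x)) (k : ℕ) : Ax a (n ^ k) (ta ((k : ZMod 3) • x)) := by
  induction k with
  | zero => exact (pow_zero n).symm ▸ ax_one.of fun u => by simp [ta]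
  | succ k ih => rw [pow_succ, Nat.cast_succ, add_smul, one_smul]; exact ta_add x0 ih h

theorem ta_inv (i : Fin 3) (h : Ax a n (ta (ee i.succ))) : Ax a n⁻¹ (ta (-ee i.succ)) :=
  h.inv (by clear * -; revert i; decide +kernel)

theorem ta_q (h : St a ψ) (i : Fin 3) (hn : Ax a n (ta (ee i.succ))) :
    Ax a (ψ q3 * n * (ψ q3)⁻¹) (ta (ee (i + 1).succ)) :=
  (((aq h).mul hn).mul ((aq h).inv (f' := fun u => sh (sh u)) (by decide +kernel))).of
    (by clear * -; revert i; decide +kernel)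

theorem ex1 (h : St a ψ) (hm : Mv a) (ha : ∀ n θ, Ac a n θ → Aff θ) : ∃ n, Ax a n (ta (ee (Fin.succ 0))) := by
  obtain ⟨g, u, e, u1, u2⟩ := hm
  obtain ⟨n, θ, hn, rfl⟩ := h.fusb e
  obtain ⟨u0, m, hm⟩ := nf h ha hn
  generalize θ *ᵥ ee 0 = u at u0 u1 u2 hm
  obtain ⟨x, x0, x1, m, hm⟩ : ∃ x : V4, x 0 = 0 ∧ x ≠ 0 ∧ ∃ m, Ax a m (ta x) := by
    rcases (by decide : ∀ c : ZMod 3, c ≠ 0 → c = 1 ∨ c = -1) _ u0 with e | e
    · exact ⟨_, by simp [e, ee], sub_ne_zero.2 u1, m, hm⟩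
    · refine ⟨u + ee 0, by simp [e, ee], fun e => u2 (eq_neg_of_add_eq_zero_left e), _,
        ((hm.mul (ai h)).mul (hm.mul (ai h))).of ?_⟩
      refine qt_all fun b c d f => ?_
      clear * - e
      revert b c d f u
      exact qt_all (by decide +kernel)
  obtain ⟨i, k, e⟩ := (by decide +kernel : ∀ x : V4, x 0 = 0 → x ≠ 0 → ∃ i : Fin 3, ∃ k : Fin 3,
    ((k.val : ℕ) : ZMod 3) • (x + x + s i x) = ee i.succ) x x0 x1
  obtain ⟨b1, b2⟩ := (by decide +kernel : ∀ x : V4, x 0 = 0 → ∀ i, s i x 0 = 0 ∧ (x + x + s i x) 0 = 0) x x0 i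
  have b3 : ∀ v, s i (ta x (s i v)) = ta (s i x) v := fun v => funext fun j => by
    by_cases e : j = i.succ <;> simp [s, ta, e, (Fin.succ_ne_zero i).symm, add_comm]
  have h1 := ta_pow b2 (ta_add b1 (ta_add x0 hm hm) ((((ar h i).mul hm).mul (ar h i)).of b3)) k
  rw [e] at h1
  fin_cases i
  exacts [⟨_, h1⟩, ⟨_, ta_q h 2 (ta_q h 1 h1)⟩, ⟨_, ta_q h 2 h1⟩]

/-- the three elements -/
structure Wp (a : V4 → G) (ψ : S6 →* G) (w : Fin 3 → G) : Prop extends St a ψ where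
  ac : ∀ i, Ax a (w i) (ta (ee i.succ))
  dd : ∀ i, Dd a (w i)
  iw : ∀ i, ψ iv * w i * (ψ iv)⁻¹ = (w i)⁻¹
  qw : ∀ i, ψ q3 * w i * (ψ q3)⁻¹ = w (i + 1)

theorem exW (h : St a ψ) (hn : Ax a n (ta (ee (Fin.succ 0)))) : ∃ w, Wp a ψ w := by
  let P : G → Fin 3 → Prop := fun x i => Ax a x (ta (ee i.succ)) ∧ Dd a x ∧ ψ iv * x * (ψ iv)⁻¹ = x⁻¹
  have st : ∀ x i, P x i → P (ψ q3 * x * (ψ q3)⁻¹) (i + 1) := fun x i ⟨p1, p2, p3⟩ =>
    ⟨ta_q h i p1, p2.cj (aq h), by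
      rw [← iv_q3, map_mul, map_mul, map_inv, conj_inv, conj_mul, conj_mul, p3, conj_inv]⟩
  have p0 : P (ψ iv * (n * ψ iv * n⁻¹)) 0 :=
    ⟨((ai h).mul ((hn.mul (ai h)).mul (ta_inv 0 hn))).of (by decide +kernel), (dψ h _).mul ((dψ h _).cj hn), by
      rw [← mul_assoc, ← map_mul, iv_sq, map_one, one_mul, _root_.mul_inv_rev, conj_inv, ii]⟩
  generalize ψ iv * (n * ψ iv * n⁻¹) = x at p0
  have p : ∀ i, P (![x, ψ q3 * x * (ψ q3)⁻¹, ψ q3 * (ψ q3 * x * (ψ q3)⁻¹) * (ψ q3)⁻¹] i) i := fun i => by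
    fin_cases i
    exacts [p0, st _ _ p0, st _ _ (st _ _ p0)]
  refine ⟨_, h, fun i => (p i).1, fun i => (p i).2.1, fun i => (p i).2.2, fun i => ?_⟩
  fin_cases i
  · rfl
  · rfl
  · have : ψ q3 ^ 3 = 1 := by rw [← map_pow, (q3_cm 0).2.2, map_one]
    calc ψ q3 * (ψ q3 * (ψ q3 * x * (ψ q3)⁻¹) * (ψ q3)⁻¹) * (ψ q3)⁻¹ = ψ q3 ^ 3 * x * (ψ q3 ^ 3)⁻¹ := by
          rw [pow_three]; group
      _ = x := by rw [this]; simp

theorem io0 : ∀ u, io u 0 = u 0 := by decide +kernel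

theorem ta0 : ∀ (i : Fin 3) (u : V4), ta (ee i.succ) u 0 = u 0 ∧ ta (-ee i.succ) u 0 = u 0 := by decide +kernel

namespace Wp

theorem cJ (h : Wp a ψ w) (i : Fin 3) {u : V4} (u0 : u 0 = 0) : Commute (w i) (a u) :=
  (h.ac i).comm (by rw [ta, u0, zero_smul, add_zero])

theorem c3 (h : Wp a ψ w) (i : Fin 3) : ∃ u : V4, u 0 = 0 ∧ w i ^ 3 = a u :=
  inv h.toSt (fun u => (ta_pow (by revert i; decide) (h.ac i) 3).comm (by
    rw [ta, show ((3 : ℕ) : ZMod 3) = 0 from rfl]; simp)) (ai h.toSt) ax_one (dψ h.toSt _)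
    (fun _ _ _ => Commute.one_right _) io0 (fun _ => rfl) (by rw [← conj_pow, h.iw]; simp)

theorem ir (i : Fin 3) : ψ iv * ψ (xm i) * (ψ iv)⁻¹ = ψ (xm i) := mul_inv_eq_iff_eq_mul.2 ((iv_xm i).map ψ).eq

theorem rne (h : Wp a ψ w) {i j : Fin 3} (ij : i ≠ j) :
    ∃ u : V4, u 0 = 0 ∧ ψ (xm j) * w i * (ψ (xm j))⁻¹ = w i * a u := by
  obtain ⟨u, u0, e⟩ := inv h.toSt (y := (w i)⁻¹ * (ψ (xm j) * w i * ψ (xm j)))
    (fun u => ((ta_inv i (h.ac i)).mul (((ar h.toSt j).mul (h.ac i)).mul (ar h.toSt j))).comm (by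
      revert i j u; decide +kernel)) (ai h.toSt) (h.ac i) (dψ h.toSt _) (h.dd i) io0 (fun u => (ta0 i u).1) (by
      rw [← conj_mul, ← conj_mul, ← conj_mul, ← conj_inv, h.iw, ir]
      simp only [_root_.mul_inv_rev, ri h.toSt]; group)
  exact ⟨u, u0, by rw [← e, ri h.toSt]; group⟩

theorem req (h : Wp a ψ w) (i : Fin 3) :
    ∃ u : V4, u 0 = 0 ∧ ψ (xm i) * w i * (ψ (xm i))⁻¹ = (w i)⁻¹ * a u := by
  obtain ⟨u, u0, e⟩ := inv h.toSt (y := w i * (ψ (xm i) * w i * ψ (xm i)))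
    (fun u => ((h.ac i).mul (((ar h.toSt i).mul (h.ac i)).mul (ar h.toSt i))).comm (by
      revert i u; decide +kernel)) (ai h.toSt) (ta_inv i (h.ac i)) (dψ h.toSt _) (h.dd i).inv io0
      (fun u => (ta0 i u).2) (by
      rw [← conj_mul, ← conj_mul, ← conj_mul, h.iw, ir]
      simp only [_root_.mul_inv_rev, ri h.toSt]; group)
  exact ⟨u, u0, by rw [← e, ri h.toSt]; group⟩

theorem wc (h : Wp a ψ w) (i j : Fin 3) : Commute (w i) (w j) := by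
  by_cases ij : j = i
  · rw [ij]
  obtain ⟨u, u0, e1⟩ := h.req i
  obtain ⟨v, v0, e2⟩ := h.rne ij
  obtain ⟨x, x0, e⟩ := inv h.toSt (y := w i * w j * (w i)⁻¹ * (w j)⁻¹)
    (fun u => ((((h.ac i).mul (h.ac j)).mul (ta_inv i (h.ac i))).mul (ta_inv j (h.ac j))).comm (by
      revert u; clear * -; revert i j; decide +kernel)) (ar h.toSt i) (ta_inv i (h.ac i)) (dψ h.toSt _) (h.dd i).inv
      (by clear * -; revert i; decide +kernel) (fun u => (ta0 i u).2) (by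
      rw [← conj_mul, ← conj_mul, ← conj_mul, ← conj_inv, ← conj_inv, e1, e2]
      have c1 : a u * (w j * a v) * (a u)⁻¹ = w j * a v :=
        mul_inv_eq_iff_eq_mul.2 ((h.cJ j u0).symm.mul_right (h.comm u v)).eq
      have c2 : a v * w i * (a v)⁻¹ = w i := mul_inv_eq_iff_eq_mul.2 (h.cJ i v0).symm.eq
      calc _ = (w i)⁻¹ * (a u * (w j * a v) * (a u)⁻¹) * w i * (a v)⁻¹ * (w j)⁻¹ := by group
        _ = (w i)⁻¹ * w j * (a v * w i * (a v)⁻¹) * (w j)⁻¹ := by rw [c1]; group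
        _ = _ := by rw [c2]; group)
  have e3 : a (io x) = a x := by
    refine Eq.trans ?_ (mul_inv_eq_iff_eq_mul.2 ((h.cJ j x0).mul_left (h.cJ i x0)).inv_left.eq)
    rw [← ai h.toSt, ← e, ← conj_mul, ← conj_mul, ← conj_mul, ← conj_inv, ← conj_inv, h.iw, h.iw]
    group
  rw [(by decide +kernel : ∀ x : V4, x 0 = 0 → io x = x → x = 0) x x0 (h.injective e3), h.zero] at e
  exact mul_inv_eq_iff_eq_mul.1 (mul_inv_eq_one.1 e)

theorem c3' (h : Wp a ψ w) (i : Fin 3) : w i ^ 3 = 1 ∨ w i ^ 3 = a (ee i.succ) ∨ w i ^ 3 = a (-ee i.succ) := by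
  obtain ⟨u, u0, e⟩ := h.c3 i
  have : ∀ j, i ≠ j → s j u = u := fun j ij => by
    obtain ⟨v, v0, e2⟩ := h.rne ij
    refine h.injective ?_
    rw [← ar h.toSt, ← e, ← conj_pow, e2, (h.cJ i v0).mul_pow, h.cube, mul_one]
  rw [e, ← h.zero]
  rcases (by decide +kernel : ∀ (i : Fin 3) (u : V4), u 0 = 0 → (∀ j, i ≠ j → s j u = u) →
    u = 0 ∨ u = ee i.succ ∨ u = -ee i.succ) i u u0 this with e | e | e <;> simp only [e, true_or, or_true]

theorem pv {x : G} (h : x ^ 3 = 1) (c d : ZMod 3) : x ^ (c + d).val = x ^ c.val * x ^ d.val := by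
  rw [ZMod.val_add, ← pow_add, ← pow_eq_pow_mod _ h]

theorem ne1 (h : Wp a ψ w) (i : Fin 3) : w i ^ 3 ≠ 1 := fun e => by
  have st : ∀ j, w j ^ 3 = 1 → w (j + 1) ^ 3 = 1 := fun j e => by rw [← h.qw, conj_pow, e]; simp
  have all : ∀ j, w j ^ 3 = 1 := fun j => by
    rcases (by decide : ∀ i j : Fin 3, j = i ∨ j = i + 1 ∨ j = i + 1 + 1) i j with rfl | rfl | rfl
    exacts [e, st _ e, st _ (st _ e)]
  have k : ∀ j : Fin 3, j ≠ 0 → ∃ u : V4, u 0 = 0 ∧ Commute (ψ (xm 0)) (w j * w j * a u) := fun j hj => by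
    obtain ⟨u, u0, e⟩ := h.rne hj
    refine ⟨u, u0, mul_inv_eq_iff_eq_mul.1 ?_⟩
    calc _ = ψ (xm 0) * w j * (ψ (xm 0))⁻¹ * (ψ (xm 0) * (w j * a u) * (ψ (xm 0))⁻¹) := by group
      _ = w j * a u * w j := by
        rw [e, ← e, mul_right_inj, ri h.toSt]
        calc _ = ψ (xm 0) * ψ (xm 0) * w j * (ψ (xm 0) * ψ (xm 0)) := by group
          _ = _ := by rw [(h.rfx 0).1]; simp
      _ = _ := by rw [mul_assoc, ← (h.cJ j u0).eq, mul_assoc]
  obtain ⟨u, u0, c1⟩ := k 1 (by decide)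
  obtain ⟨v, v0, c2⟩ := k 2 (by decide)
  have f : ∀ j u, u 0 = 0 → (w j * w j * a u) ^ 3 = 1 ∧ Ax a (w j * w j * a u) (ta (ee j.succ + ee j.succ)) ∧
      ∀ v : V4, v 0 = 0 → Commute (w j * w j * a u) (a v) := fun j u u0 =>
    ⟨by rw [((h.cJ j u0).mul_left (h.cJ j u0)).mul_pow, (Commute.refl _).mul_pow, all, h.cube]; simp,
      ((ta_add (by revert j; decide) (h.ac j) (h.ac j)).mul (f' := id) fun v =>
        mul_inv_eq_iff_eq_mul.2 (h.comm u v).eq).of fun _ => rfl,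
      fun v v0 => ((h.cJ j v0).mul_left (h.cJ j v0)).mul_left (h.comm u v)⟩
  obtain ⟨x3, xa, xc⟩ := f 1 u u0
  obtain ⟨y3, ya, yc⟩ := f 2 v v0
  have xy : Commute (w 1 * w 1 * a u) (w 2 * w 2 * a v) :=
    .mul_right (.mul_left (.mul_left (.mul_right (h.wc _ _) (h.wc _ _)) (.mul_right (h.wc _ _) (h.wc _ _)))
      (.mul_right (h.cJ 2 u0).symm (h.cJ 2 u0).symm)) (xc v v0)
  generalize w 1 * w 1 * a u = x at *
  generalize w 2 * w 2 * a v = y at *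
  let p : V4 → V4 := fun u => ![0, 0, u 2, u 3]
  have T : TA fun u : V4 => x ^ (u 0).val * y ^ (u 1).val * a (p u) := ⟨fun u v => by
      have c1 : Commute (y ^ (u 1).val * a (p u)) (x ^ (v 0).val) :=
        (xy.symm.pow_pow _ _).mul_left ((xc _ rfl).symm.pow_right _)
      have c2 : Commute (a (p u)) (y ^ (v 1).val) := (yc _ rfl).symm.pow_right _
      rw [Pi.add_apply, Pi.add_apply, pv x3, pv y3, show p (u + v) = p u + p v from
        funext fun j => by fin_cases j <;> simp [p], h.add]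
      calc _ = x ^ (u 0).val * (x ^ (v 0).val * (y ^ (u 1).val * (y ^ (v 1).val * a (p u)))) * a (p v) := by group
        _ = _ := by rw [← c2.eq, ← mul_assoc (y ^ _), ← mul_assoc (x ^ (v 0).val), ← c1.eq]; group,
    fun u e => by
      have h1 := (ta_add (by simp [ee]) (ta_pow (by decide) xa (u 0).val) (ta_pow (by decide) ya (u 1).val)) (ee 0)
      rw [eq_inv_of_mul_eq_one_left e, mul_inv_eq_iff_eq_mul.2 (h.comm _ _).inv_left.eq,
        ZMod.natCast_zmod_val, ZMod.natCast_zmod_val] at h1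
      obtain ⟨e0, e1⟩ := (by decide +kernel : ∀ c d : ZMod 3, ee 0 = ta (c • (ee (Fin.succ 1) + ee (Fin.succ 1)) +
        d • (ee (Fin.succ 2) + ee (Fin.succ 2))) (ee 0) → c = 0 ∧ d = 0) _ _ (h.injective h1)
      rw [e0, e1, ZMod.val_zero, pow_zero, pow_zero, one_mul, one_mul] at e
      exact (by decide +kernel : ∀ u : V4, u 0 = 0 → u 1 = 0 → p u = 0 → u = 0) u e0 e1 (h.inj _ e)⟩
  have := h.toGl.rkA T (isP_zp (h.rfx 0).1) (by
    rw [norm_zp (h.rfx 0).1]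
    intro g hg
    obtain ⟨u, rfl⟩ := T.mem_Jg.1 hg
    exact mem_centralizer_singleton_iff.2 (((c1.pow_right _).mul_right (c2.pow_right _)).mul_right
      ((ar h.toSt 0).comm ((by decide +kernel : ∀ u, s 0 (p u) = p u) u))).symm.eq)
  have h2 := ar h.toSt 0 (ee 1)
  rw [zpowers_eq_bot.1 this, one_mul, inv_one, mul_one] at h2
  exact absurd (h.injective h2) (by decide +kernel)

theorem cube (h : Wp a ψ w) (i : Fin 3) : w i ^ 3 = a (ee i.succ) ∨ w i ^ 3 = a (-ee i.succ) :=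
  (h.c3' i).resolve_left (h.ne1 i)

theorem one (h : Wp a ψ w) (ha : ∀ n θ, Ac a n θ → Aff θ) {θ : M4} (hn : Ac a n θ) : (θ *ᵥ ee 0) 0 = 1 := by
  obtain ⟨u0, m, hm⟩ := nf h.toSt ha hn
  generalize θ *ᵥ ee 0 = x at u0 hm
  refine ((by decide : ∀ c : ZMod 3, c ≠ 0 → c = 1 ∨ c = -1) _ u0).resolve_right fun e => ?_
  have b : ∀ v, ta (x - ee 0) (ta (x - ee 0) v) = v ∧
      ta (x - ee 0) (ta (ee (Fin.succ 0)) (ta (x - ee 0) (ta (ee (Fin.succ 0)) v))) = v := by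
    refine qt_all fun b c d f => ?_
    clear * - e
    revert b c d f x
    exact qt_all (by decide +kernel)
  obtain ⟨u, k, e1, ho, hk⟩ := h.cenA fun v => (((hm.mul (h.ac 0)).mul (hm.inv fun v => (b v).1)).mul (h.ac 0)).comm (b v).2
  have c3 : (orderOf k).Coprime 3 := ho.coprime_dvd_right (by norm_num)
  have ck := h.dd 0 k hk c3
  obtain ⟨y, y0, e2⟩ := h.c3 0
  have hw := ta_inv 0 (h.ac 0)
  have e3 : (a u * (w 0)⁻¹) ^ 3 = (w 0 ^ 3)⁻¹ := by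
    calc _ = a u * ((w 0)⁻¹ * (a u * ((w 0)⁻¹ * a u * (w 0)⁻¹⁻¹)) * (w 0)⁻¹⁻¹) * (w 0 ^ 3)⁻¹ := by
          rw [pow_three, pow_three]; group
      _ = _ := by
        rw [hw, ← h.add, hw, ← h.add, (by decide +kernel : ∀ u, u + ta (-ee (Fin.succ 0))
          (u + ta (-ee (Fin.succ 0)) u) = 0), h.zero, one_mul]
  have e4 : a y = k ^ 3 * (a y)⁻¹ := by
    have : (m * w 0 * m⁻¹) ^ 3 = (a u * k * (w 0)⁻¹) ^ 3 := congrArg (· ^ 3) (eq_mul_inv_of_mul_eq e1)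
    rw [conj_pow, e2, hm, ta, y0, zero_smul, add_zero, ← (hk u).eq, mul_assoc,
      ((hk u).mul_right ck.inv_right).mul_pow, e3, e2] at this
    exact this
  have e5 : k ^ 3 = a y ^ 2 := by rw [sq]; exact (eq_mul_inv_iff_mul_eq.1 e4).symm
  have e6 : k = 1 := orderOf_eq_one_iff.1 (Nat.Coprime.eq_one_of_dvd (c3.pow_right 2) (orderOf_dvd_of_pow_eq_one (by
    rw [sq, pow_mul, e5, ← pow_mul, mul_comm, pow_mul, h.toTA.cube, one_pow])))
  refine h.ne1 0 ?_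
  rw [e6, one_pow] at e5
  rw [e2, ← h.toTA.cube y, pow_succ, ← e5, one_mul]

end Wp

end AffA

theorem St.af (h : St a ψ) (hm : Mv a) (ha : ∀ n θ, Ac a n θ → Aff θ) : ∃ w, AF a ψ w := by
  obtain ⟨n, hn⟩ := AffA.ex1 h hm ha
  obtain ⟨w, hw⟩ := AffA.exW h hn
  exact ⟨w, h, hw.ac, hw.wc, hw.cube, fun i => ⟨0, rfl, by rw [hw.qw, h.zero, mul_one]⟩, fun _ _ hn => hw.one ha hn⟩

end Cfsg.Agent.S86
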