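import Cfsg.Agent.S86.BaseB
import Cfsg.Agent.L72.NineB

set_option autoImplicit false

namespace Cfsg.Agent.S86

open Subgroup H49 Matrix F42
open Cfsg.Agent.L72 (O2N)

variable {G : Type*} [Group G] [Finite G] {a : V4 → G} {ψ ψ' : S6 →* G} {ρ : Fin 4 → G} {t : Fin 4 → Fin 4 → G}
  {e E : ℕ → G} {φ : S8 →* G}

namespace AffB

theorem mem_sup {H : Subgroup G} {g x : G} (hg : g ∈ 𝒩(H)) (hx : x ∈ H ⊔ zpowers g) :
    ∃ s ∈ H, ∃ k : ℕ, x = s * g ^ k := by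
  have e := coe_mul_of_right_le_normalizer_left H (zpowers g) (zpowers_le.2 hg)
  have hx' : x ∈ ((H ⊔ zpowers g : Subgroup G) : Set G) := hx
  rw [e] at hx'
  obtain ⟨s, hs, y, hy, rfl⟩ := hx'
  obtain ⟨k, rfl⟩ := mem_powers_iff_mem_zpowers.2 hy
  exact ⟨s, hs, k, rfl⟩

omit [Finite G] in
theorem isP_zp3 {g : G} (h : g ^ 3 = 1) : IsPGroup 3 (zpowers g) := fun x => ⟨1, Subtype.ext (by
  obtain ⟨k, hk⟩ := x.2
  have hk' : g ^ k = x.1 := hk
  rw [pow_one, SubgroupClass.coe_pow, ← hk', ← zpow_natCast, ← _root_.zpow_mul, mul_comm, _root_.zpow_mul,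
    zpow_natCast, h, _root_.one_zpow]; rfl)⟩

/-- `s` acts on `A` as the transvection `u ↦ u + u₀ x` -/
def Tr (a : V4 → G) (s : G) (x : V4) : Prop := x 0 = 0 ∧ ∀ u, s * a u * s⁻¹ = a (u + u 0 • x)

omit [Finite G] in
theorem Tr.mul {s s' : G} {x x' : V4} (h : Tr a s x) (h' : Tr a s' x') : Tr a (s * s') (x + x') := by
  refine ⟨by rw [Pi.add_apply, h.1, h'.1, add_zero], fun u => ?_⟩
  calc _ = s * (s' * a u * s'⁻¹) * s⁻¹ := by group
    _ = _ := by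
      rw [h'.2, h.2, Pi.add_apply, Pi.smul_apply, h'.1, smul_zero, add_zero, smul_add, add_assoc, add_comm (u 0 • x')]

omit [Finite G] in
theorem Tr.inv {s : G} {x : V4} (h : Tr a s x) : Tr a s⁻¹ (-x) := by
  refine ⟨by rw [Pi.neg_apply, h.1, neg_zero], fun u => ?_⟩
  have e := h.2 (u + u 0 • -x)
  rw [Pi.add_apply, Pi.smul_apply, Pi.neg_apply, h.1, neg_zero, smul_zero, add_zero, smul_neg,
    neg_add_cancel_right] at e
  rw [← e, smul_neg]; group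

omit [Finite G] in
theorem Tr.pow {s : G} {x : V4} (h : Tr a s x) (k : ℕ) : Tr a (s ^ k) ((k : ZMod 3) • x) := by
  induction k with
  | zero => exact ⟨by simp, fun u => by simp⟩
  | succ k ih => rw [pow_succ, Nat.cast_succ, add_smul, one_smul]; exact ih.mul h

omit [Finite G] in
theorem Tr.comm {s : G} {x u : V4} (h : Tr a s x) (u0 : u 0 = 0) : Commute s (a u) := by
  have e := h.2 u
  rw [u0, zero_smul, add_zero] at e
  exact mul_inv_eq_iff_eq_mul.1 e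

omit [Finite G] in
theorem Tr.of_a (h : TA a) (v : V4) : Tr a (a v) 0 :=
  ⟨rfl, fun u => by rw [(h.comm v u).eq, mul_inv_cancel_right, smul_zero, add_zero]⟩

/-- the abelian group `⟨w, J⟩` -/
def S1 (a : V4 → G) (w : Fin 3 → G) : Subgroup G := Subgroup.closure (Set.range w ∪ a '' {u | u 0 = 0})

def M1 (a : V4 → G) (ψ : S6 →* G) (w : Fin 3 → G) : Subgroup G := S1 a w ⊔ zpowers (ψ q3)

def SS (a : V4 → G) (ψ : S6 →* G) (w : Fin 3 → G) : Subgroup G := M1 a ψ w ⊔ zpowers (a (ee 0))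

variable {w : Fin 3 → G}

omit [Finite G] in
theorem w_mem (i : Fin 3) : w i ∈ S1 a w := subset_closure (Or.inl ⟨i, rfl⟩)

omit [Finite G] in
theorem a_mem {u : V4} (u0 : u 0 = 0) : a u ∈ S1 a w := subset_closure (Or.inr ⟨u, u0, rfl⟩)

theorem ee0 : ∀ i : Fin 3, ee i.succ 0 = 0 := by decide

omit [Finite G] in
theorem trw (h : AF a ψ w) (i : Fin 3) : Tr a (w i) (ee i.succ) := ⟨ee0 i, h.ac i⟩

omit [Finite G] in
theorem S1_comm (h : AF a ψ w) {x y : G} (hx : x ∈ S1 a w) (hy : y ∈ S1 a w) : Commute x y := by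
  have : S1 a w ≤ 𝒞(S1 a w) := (closure_le _).2 fun x hx => le_cent1_iff.1 ((closure_le _).2 fun y hy => by
    refine mem_cent1.2 ?_
    rcases hx with ⟨i, rfl⟩ | ⟨u, u0, rfl⟩ <;> rcases hy with ⟨j, rfl⟩ | ⟨v, v0, rfl⟩
    · exact h.wc j i
    · exact ((trw h i).comm v0).symm
    · exact (trw h j).comm u0
    · exact h.toTA.comm v u)
  exact le_cent_iff.1 this y hy x hx

omit [Finite G] in
theorem S1_spec (h : AF a ψ w) : ∃ δ : V4, (∀ j, δ j ≠ 0) ∧ ∀ s ∈ S1 a w, ∃ x, Tr a s x ∧ s ^ 3 = a (δ * x) := by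
  obtain ⟨δ, d0, hd⟩ : ∃ δ : V4, (∀ j, δ j ≠ 0) ∧ ∀ i, w i ^ 3 = a (δ * ee i.succ) := by
    have : ∀ i, ∃ ε : ZMod 3, ε ≠ 0 ∧ w i ^ 3 = a (ε • ee i.succ) := fun i => by
      rcases h.cube i with e | e
      · exact ⟨1, by decide, by rw [e, one_smul]⟩
      · exact ⟨-1, by decide, by rw [e, neg_one_smul]⟩
    choose ε e0 he using this
    refine ⟨Fin.cons 1 ε, fun j => Fin.cases (show (1 : ZMod 3) ≠ 0 by decide) e0 j, fun i => ?_⟩
    rw [he]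
    congr 1
    funext j
    by_cases hj : j = i.succ
    · subst hj; simp
    · simp [ee, Pi.single_eq_of_ne hj]
  refine ⟨δ, d0, fun s hs => ?_⟩
  induction hs using closure_induction with
  | mem x hx =>
    rcases hx with ⟨i, rfl⟩ | ⟨u, -, rfl⟩
    · exact ⟨_, trw h i, hd i⟩
    · exact ⟨0, Tr.of_a h.toTA u, by rw [h.toTA.cube, mul_zero, h.toTA.zero]⟩
  | one => exact ⟨0, h.toTA.zero ▸ Tr.of_a h.toTA 0, by rw [one_pow, mul_zero, h.toTA.zero]⟩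
  | mul x y hx hy ix iy =>
    obtain ⟨u, h1, h2⟩ := ix
    obtain ⟨v, h3, h4⟩ := iy
    exact ⟨u + v, h1.mul h3, by rw [(S1_comm h hx hy).mul_pow, h2, h4, mul_add, h.toTA.add]⟩
  | inv x _ ix =>
    obtain ⟨u, h1, h2⟩ := ix
    exact ⟨-u, h1.inv, by rw [inv_pow, h2, mul_neg, h.toTA.neg]⟩

omit [Finite G] in
theorem S1_tr (h : AF a ψ w) {s : G} (hs : s ∈ S1 a w) : ∃ x, Tr a s x :=
  let ⟨_, _, H⟩ := S1_spec h
  let ⟨x, hx, _⟩ := H s hs
  ⟨x, hx⟩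

omit [Finite G] in
theorem S1_isP (h : AF a ψ w) : IsPGroup 3 (S1 a w) := fun s => ⟨2, Subtype.ext (by
  obtain ⟨δ, -, H⟩ := S1_spec h
  obtain ⟨x, -, e⟩ := H s s.2
  rw [SubgroupClass.coe_pow, pow_two 3, pow_mul, e, h.toTA.cube]; rfl)⟩

theorem dec4 : ∀ u : V4, u = ((u 0).val : ZMod 3) • ee 0 + ((u 1).val : ZMod 3) • ee (Fin.succ 0) +
    ((u 2).val : ZMod 3) • ee (Fin.succ 1) + ((u 3).val : ZMod 3) • ee (Fin.succ 2) := by decide +kernel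

omit [Finite G] in
theorem S1_surj (h : AF a ψ w) {x : V4} (x0 : x 0 = 0) : ∃ s ∈ S1 a w, Tr a s x := by
  refine ⟨w 0 ^ (x 1).val * w 1 ^ (x 2).val * w 2 ^ (x 3).val,
    mul_mem (mul_mem (pow_mem (w_mem 0) _) (pow_mem (w_mem 1) _)) (pow_mem (w_mem 2) _), ?_⟩
  have e := dec4 x
  rw [x0, ZMod.val_zero, Nat.cast_zero, zero_smul, zero_add] at e
  have := (((trw h 0).pow (x 1).val).mul ((trw h 1).pow (x 2).val)).mul ((trw h 2).pow (x 3).val)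
  rwa [← e] at this

/-- the action of `q` -/
def sg3 (u : V4) : V4 := ![u 0, u 3, u 1, u 2]

theorem sg3_dec : ∀ u : V4, sg3 u = ((u 0).val : ZMod 3) • ee 0 + ((u 1).val : ZMod 3) • ee (Fin.succ (0 + 1)) +
    ((u 2).val : ZMod 3) • ee (Fin.succ (1 + 1)) + ((u 3).val : ZMod 3) • ee (Fin.succ (2 + 1)) := by
  decide +kernel

omit [Finite G] in
theorem q_ac (h : St a ψ) (u : V4) : ψ q3 * a u * (ψ q3)⁻¹ = a (sg3 u) := by
  have e0 : ψ q3 * a (ee 0) * (ψ q3)⁻¹ = a (ee 0) := by rw [← (h.bL q3).eq, mul_inv_cancel_right]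
  have e1 : ∀ i : Fin 3, ψ q3 * a (ee i.succ) * (ψ q3)⁻¹ = a (ee (i + 1).succ) := fun i => by
    rw [← h.c, ← h.c, ← (q3_cm i).1, map_mul, map_mul, map_inv]
  rw [sg3_dec, dec4 u]
  simp only [h.toTA.add, ← h.toTA.pow, ← e1]
  conv_rhs => rw [← e0]
  rw [← dec4 u]
  simp only [conj_pow, conj_mul]

omit [Finite G] in
theorem q_cube : ψ q3 ^ 3 = 1 := by rw [← map_pow, (q3_cm 0).2.2, map_one]

omit [Finite G] in
theorem q_pow (h : St a ψ) (m : ℕ) (u : V4) : ψ q3 ^ m * a u * (ψ q3 ^ m)⁻¹ = a (sg3^[m] u) := by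
  induction m with
  | zero => simp
  | succ m ih =>
    rw [Function.iterate_succ_apply', ← q_ac h, ← ih, pow_succ']; group

theorem q_norm (h : AF a ψ w) : ψ q3 ∈ 𝒩(S1 a w) := by
  refine (inv_mem_iff).1 (mem_norm_of_le_cj ((closure_le _).2 fun x hx => mem_cj.2 ?_))
  rw [inv_inv]
  rcases hx with ⟨i, rfl⟩ | ⟨u, u0, rfl⟩
  · obtain ⟨u, u0, e⟩ := h.qw i
    rw [e]; exact mul_mem (w_mem _) (a_mem u0)
  · rw [q_ac h.toSt]; exact a_mem u0

theorem b_norm1 (h : AF a ψ w) : a (ee 0) ∈ 𝒩(S1 a w) := by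
  refine mem_norm_of_le_cj fun s hs => mem_cj.2 ?_
  obtain ⟨x, hx⟩ := S1_tr h hs
  have e := hx.2 (ee 0)
  rw [show ee 0 0 = 1 from rfl, one_smul, h.toTA.add] at e
  have : (a (ee 0))⁻¹ * s * a (ee 0) = a x * s := by
    calc _ = (a (ee 0))⁻¹ * (s * a (ee 0) * s⁻¹) * s := by group
      _ = _ := by rw [e]; group
  rw [this]
  exact mul_mem (a_mem hx.1) hs

theorem b_norm (h : AF a ψ w) : a (ee 0) ∈ 𝒩(M1 a ψ w) := by
  rw [mem_norm_iff_cj, M1, cj_sup, cj_eq_of_mem_norm (b_norm1 h), cj_zpowers, (h.bL q3).eq, mul_inv_cancel_right]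

theorem SS_isP (h : AF a ψ w) : IsPGroup 3 (SS a ψ w) :=
  haveI : Fact (Nat.Prime 3) := ⟨Nat.prime_three⟩
  IsPGroup.to_sup_of_normal_left' (IsPGroup.to_sup_of_normal_left' (S1_isP h) (isP_zp3 q_cube)
    (zpowers_le.2 (q_norm h))) (isP_zp3 (h.toTA.cube _)) (zpowers_le.2 (b_norm h))

omit [Finite G] in
theorem S1_le : S1 a w ≤ SS a ψ w := le_sup_left.trans le_sup_left

omit [Finite G] in
theorem b_mem : a (ee 0) ∈ SS a ψ w := mem_sup_right (mem_zpowers _)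

omit [Finite G] in
theorem q_mem : ψ q3 ∈ SS a ψ w := mem_sup_left (mem_sup_right (mem_zpowers _))

omit [Finite G] in
theorem split (h : TA a) (u : V4) : ∃ x : V4, x 0 = 0 ∧ a u = a x * a (ee 0) ^ (u 0).val :=
  ⟨u - u 0 • ee 0, by simp [ee], by rw [← h.smul, ← h.add, sub_add_cancel]⟩

omit [Finite G] in
theorem A_le (h : TA a) : Jg a ≤ SS a ψ w := fun g hg => by
  obtain ⟨u, rfl⟩ := h.mem_Jg.1 hg
  obtain ⟨x, x0, e⟩ := split h u
  rw [e]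
  exact mul_mem (S1_le (a_mem x0)) (pow_mem b_mem _)

theorem sg3_0 (m : ℕ) (u : V4) : sg3^[m] u 0 = u 0 := by
  induction m with
  | zero => rfl
  | succ m ih => rw [Function.iterate_succ_apply', ← ih]; rfl

theorem sg3_three : ∀ u : V4, sg3^[3] u = u := by decide +kernel

theorem sg3_mod (m : ℕ) (u : V4) : sg3^[m] u = sg3^[m % 3] u := by
  conv_lhs => rw [← Nat.mod_add_div m 3, Function.iterate_add_apply, Function.iterate_mul,
    Function.iterate_fixed (sg3_three u)]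

theorem sg3_e1 : ∀ m < 3, sg3^[m] (ee 1) = ee 1 → m = 0 := by decide +kernel

theorem sg3_fix (m : ℕ) (m3 : m < 3) (m0 : m ≠ 0) : ∀ u : V4, sg3^[m] u = u → u 0 = 0 → u 1 = 0 → u = 0 := by
  obtain rfl | rfl : m = 1 ∨ m = 2 := by omega
  all_goals decide +kernel

/-- `g` acts on `J` as `q ^ m` -/
def Ty (a : V4 → G) (g : G) (m : ℕ) : Prop := ∀ u : V4, u 0 = 0 → g * a u * g⁻¹ = a (sg3^[m] u)

omit [Finite G] in
theorem Ty.mul {g g' : G} {m m' : ℕ} (h : Ty a g m) (h' : Ty a g' m') : Ty a (g * g') (m + m') := fun u u0 => by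
  calc _ = g * (g' * a u * g'⁻¹) * g⁻¹ := by group
    _ = _ := by rw [h' u u0, h _ ((sg3_0 _ u).trans u0), Function.iterate_add_apply]

omit [Finite G] in
theorem Ty.pow {g : G} {m : ℕ} (h : Ty a g m) (k : ℕ) : Ty a (g ^ k) (k * m) := by
  induction k with
  | zero => exact fun u _ => by simp
  | succ k ih => rw [pow_succ, Nat.succ_mul]; exact ih.mul h

theorem SS_dec (h : AF a ψ w) {g : G} (hg : g ∈ SS a ψ w) :
    ∃ s ∈ S1 a w, ∃ m k : ℕ, g = s * ψ q3 ^ m * a (ee 0) ^ k ∧ Ty a g m := by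
  obtain ⟨n, hn, k, rfl⟩ := mem_sup (b_norm h) hg
  obtain ⟨s, hs, m, rfl⟩ := mem_sup (q_norm h) hn
  refine ⟨s, hs, m, k, rfl, fun u u0 => ?_⟩
  obtain ⟨x, hx⟩ := S1_tr h hs
  calc _ = s * (ψ q3 ^ m * (a (ee 0) ^ k * a u * (a (ee 0) ^ k)⁻¹) * (ψ q3 ^ m)⁻¹) * s⁻¹ := by group
    _ = _ := by
      rw [((h.toTA.comm (ee 0) u).pow_left k).eq, mul_inv_cancel_right, q_pow h.toSt,
        (hx.comm ((sg3_0 m u).trans u0)).eq, mul_inv_cancel_right]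

omit [Finite G] in
theorem q_one (h : TA a) {g : G} {m : ℕ} (hg : Ty a g m) (e : g * a (ee 1) * g⁻¹ = a (ee 1)) : ψ q3 ^ m = 1 := by
  have e1 := h.injective ((hg (ee 1) rfl).symm.trans e)
  rw [sg3_mod] at e1
  obtain ⟨c, rfl⟩ := Nat.dvd_of_mod_eq_zero (sg3_e1 _ (Nat.mod_lt _ (by decide)) e1)
  rw [pow_mul, q_cube, one_pow]

theorem omega (h : AF a ψ w) {g : G} (hg : g ∈ SS a ψ w) (g3 : g ^ 3 = 1) (e : g * a (ee 1) * g⁻¹ = a (ee 1)) :
    ∃ u, g = a u := by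
  obtain ⟨s, hs, m, k, rfl, ty⟩ := SS_dec h hg
  rw [q_one (ψ := ψ) h.toTA ty e, mul_one, h.toTA.pow] at g3 ⊢
  generalize (k : ZMod 3) • ee 0 = v at *
  obtain ⟨δ, d0, H⟩ := S1_spec h
  obtain ⟨x, hx, s3⟩ := H s hs
  have y0 : (v 0 • -x) 0 = 0 := by rw [Pi.smul_apply, hx.inv.1, smul_zero]
  have e1 : a v * s = s * a v * a (v 0 • -x) := by
    have := hx.inv.2 v
    rw [inv_inv, h.toTA.add] at this
    rw [mul_assoc, ← this]; group
  rw [L72.NineB.cube_aux e1 (hx.comm y0).symm (h.toTA.comm _ _) (h.toTA.cube _) (h.toTA.cube _)] at g3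
  have x0 : x = 0 := by
    have := h.toTA.inj _ (s3.symm.trans g3)
    funext j
    exact (mul_eq_zero.1 (congrFun this j)).resolve_left (d0 j)
  obtain ⟨u, rfl⟩ := h.toSt.cen3 ⟨1, by rw [pow_one, g3]⟩ (fun u => by
    have := hx.2 u
    rw [x0, smul_zero, add_zero] at this
    exact mul_inv_eq_iff_eq_mul.1 this)
  exact ⟨u + v, (h.toTA.add u v).symm⟩

theorem b_not (h : AF a ψ w) : a (ee 0) ∉ M1 a ψ w := fun hb => by
  obtain ⟨s, hs, m, e⟩ := mem_sup (q_norm h) hb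
  obtain ⟨x, hx⟩ := S1_tr h hs
  have ty : Ty a (a (ee 0)) m := fun u u0 => by
    rw [e]
    calc _ = s * (ψ q3 ^ m * a u * (ψ q3 ^ m)⁻¹) * s⁻¹ := by group
      _ = _ := by rw [q_pow h.toSt, (hx.comm ((sg3_0 m u).trans u0)).eq, mul_inv_cancel_right]
  rw [q_one (ψ := ψ) h.toTA ty (by rw [(h.toTA.comm _ _).eq, mul_inv_cancel_right]), mul_one] at e
  have e1 := h.ac 0 (ee 0)
  rw [(S1_comm h (w_mem 0) (e ▸ hs)).eq, mul_inv_cancel_right] at e1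
  exact absurd (h.toTA.injective e1) (by decide)

/-- `A` is weakly closed in `S` -/
theorem wcl (h : AF a ψ w) {g : G} (hg : cj g (Jg a) ≤ SS a ψ w) : g ∈ 𝒩(Jg a) := by
  refine mem_norm_of_cj_le fun y hy => ?_
  by_contra hn
  set B := cj g (Jg a) with hB
  have b3 : ∀ z ∈ B, z ^ 3 = 1 := fun z hz => by
    obtain ⟨v, hv, rfl⟩ := mem_cj'.1 hz
    obtain ⟨u, rfl⟩ := h.toTA.mem_Jg.1 hv
    rw [conj_pow, h.toTA.cube, mul_one, mul_inv_cancel]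
  have bc : ∀ z ∈ B, ∀ z' ∈ B, Commute z z' := fun z hz z' hz' => by
    obtain ⟨v, hv, rfl⟩ := mem_cj'.1 hz
    obtain ⟨v', hv', rfl⟩ := mem_cj'.1 hz'
    obtain ⟨u, rfl⟩ := h.toTA.mem_Jg.1 hv
    obtain ⟨u', rfl⟩ := h.toTA.mem_Jg.1 hv'
    rw [Commute, SemiconjBy, conj_mul, conj_mul, (h.toTA.comm u u').eq]
  have om : ∀ z ∈ B, ∀ m, Ty a z m → m % 3 = 0 → ∃ u, z = a u := fun z hz m ty m0 =>
    omega h (hg hz) (b3 z hz) (by rw [ty _ rfl, sg3_mod, m0]; rfl)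
  obtain ⟨-, -, m, -, -, ty⟩ := SS_dec h (hg hy)
  have m0 : m % 3 ≠ 0 := fun m0 => hn (h.toTA.mem_Jg.2 (om y hy m ty m0))
  have ex : ∀ z : B, ∃ j : Fin 3, ∃ u, z.1 * y ^ (j : ℕ) = a u := fun z => by
    obtain ⟨-, -, m', -, -, ty'⟩ := SS_dec h (hg z.2)
    obtain ⟨j, hj⟩ : ∃ j : Fin 3, (m' + j * m) % 3 = 0 := by
      by_cases h0 : m' % 3 = 0
      · exact ⟨0, by simpa using h0⟩
      by_cases h1 : (m' + m) % 3 = 0
      · exact ⟨1, by simpa using h1⟩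
      · refine ⟨2, show (m' + 2 * m) % 3 = 0 from ?_⟩
        obtain e1 | e1 : m % 3 = 1 ∨ m % 3 = 2 := by omega
        all_goals obtain e2 | e2 : m' % 3 = 1 ∨ m' % 3 = 2 := by omega
        all_goals omega
    exact ⟨j, om _ (mul_mem z.2 (pow_mem hy _)) _ (ty'.mul (ty.pow j)) hj⟩
  choose j u hu using ex
  have inj : Function.Injective fun z : B => (j z, u z 0, u z 1) := fun z z' e => by
    obtain ⟨e1, e2, e3⟩ : j z = j z' ∧ u z 0 = u z' 0 ∧ u z 1 = u z' 1 := by simpa using e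
    have e4 : a (u z - u z') = z.1 * z'.1⁻¹ := by
      rw [sub_eq_add_neg, h.toTA.add, h.toTA.neg, ← hu, ← hu, e1]; group
    have u0 : (u z - u z') 0 = 0 := by rw [Pi.sub_apply, e2, sub_self]
    have e5 := ty _ u0
    rw [(bc y hy _ (e4 ▸ mul_mem z.2 (inv_mem z'.2))).eq, mul_inv_cancel_right, sg3_mod] at e5
    have e6 := sg3_fix _ (Nat.mod_lt _ (by decide)) m0 _ (h.toTA.injective e5).symm u0
      (by rw [Pi.sub_apply, e3, sub_self])
    rw [e6, h.toTA.zero] at e4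
    exact Subtype.ext (mul_inv_eq_one.1 e4.symm)
  have := Nat.card_le_card_of_injective _ inj
  rw [hB, card_cj, h.toTA.card_Jg] at this
  simp at this

theorem norm_b (h : AF a ψ w) {n : G} (hn : n ∈ 𝒩(Jg a)) :
    ∃ x : V4, x 0 = 0 ∧ n * a (ee 0) * n⁻¹ = a (ee 0 + x) := by
  obtain ⟨θ, hθ⟩ := h.toTA.acN.1 hn
  exact ⟨θ *ᵥ ee 0 - ee 0, by rw [Pi.sub_apply, h.one n θ hθ]; rfl, by rw [hθ, add_sub_cancel]⟩

theorem syl (h : AF a ψ w) : ¬ 3 ∣ (SS a ψ w).index := by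
  have : Fact (Nat.Prime 3) := ⟨Nat.prime_three⟩
  obtain ⟨P, hP⟩ := (SS_isP h).exists_le_sylow
  suffices e : SS a ψ w = P by rw [e]; exact P.not_dvd_index
  by_contra hne
  refine (H46.lt_inf_normalizer_of_isPGroup P.isPGroup' (lt_of_le_of_ne hP hne)).not_ge fun n hn => ?_
  obtain ⟨x, x0, e⟩ := norm_b h (wcl h (cj_le_of_mem_norm (A_le h.toTA) hn.2))
  obtain ⟨s, hs, tr⟩ := S1_surj h x0
  have e1 := tr.2 (ee 0)
  rw [show ee 0 0 = 1 from rfl, one_smul, ← e] at e1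
  have hc : s⁻¹ * n ∈ 𝒞[a (ee 0)] := mem_cent1.2 (by
    calc _ = s⁻¹ * (n * a (ee 0) * n⁻¹) * n := by group
      _ = _ := by rw [← e1]; group)
  have hle := h.toSt.sylC (P := (P : Subgroup G) ⊓ 𝒞[a (ee 0)]) P.isPGroup'.to_inf_left inf_le_right
    (le_inf ((A_le h.toTA).trans hP) fun g hg => by
      obtain ⟨u, rfl⟩ := h.toTA.mem_Jg.1 hg
      exact mem_cent1.2 (h.toTA.comm _ _))
    ⟨hP q_mem, mem_cent1.2 (h.bL q3).symm⟩
  have hsP : s⁻¹ * n ∈ (P : Subgroup G) := mul_mem (inv_mem (hP (S1_le hs))) hn.1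
  have := sup_le (A_le h.toTA) (zpowers_le.2 (q_mem (w := w))) (hle ⟨hsP, hc⟩)
  exact (mul_mem_cancel_left (inv_mem (S1_le hs))).1 this

end AffB

open AffB in
theorem AF.false {w : Fin 3 → G} (h : AF a ψ w) (h3 : ∀ N : Subgroup G, N.Normal → N.index = 3 → False) : False := by
  have := normal_subgroupOf (N := M1 a ψ w) (M := SS a ψ w) (sup_le le_normalizer (zpowers_le.2 (b_norm h)))
  obtain ⟨f, f1, f2⟩ := L72.NineB.exists_hom (A := (M1 a ψ w).subgroupOf (SS a ψ w)) (b := ⟨a (ee 0), b_mem⟩)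
    (Subtype.ext (h.toTA.cube _)) (b_not h) (fun n => by
      obtain ⟨s, hs, k, e⟩ := mem_sup (b_norm h) n.2
      exact ⟨⟨s, mem_sup_left hs⟩, hs, k, Subtype.ext e⟩)
  refine f1 (transfer3 h3 (syl h) f h.toTA.isP (h.toTA.cube (ee 0)) (h.toTA.mem_Jg.2 ⟨_, rfl⟩) (fun b hb => ?_)
    fun g hg hb => ?_)
  · obtain ⟨u, rfl⟩ := h.toTA.mem_Jg.1 hb
    exact h.toTA.comm _ _
  · obtain ⟨x, x0, e⟩ := norm_b h (wcl (g := g⁻¹) h fun y hy => by
      obtain ⟨v, hv, rfl⟩ := mem_cj'.1 hy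
      rw [inv_inv]; exact hg v hv)
    rw [inv_inv, h.toTA.add] at e
    have : (⟨_, hb⟩ : SS a ψ w) = ⟨a (ee 0), b_mem⟩ * ⟨a x, S1_le (a_mem x0)⟩ := Subtype.ext e
    rw [this, map_mul, f2 ⟨a x, _⟩ (mem_sup_left (a_mem x0) : a x ∈ M1 a ψ w), mul_one]

end Cfsg.Agent.S86
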