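import Cfsg.Agent.S86.BaseB
import Cfsg.Agent.F42.LocR

set_option autoImplicit false

namespace Cfsg.Agent.S86

open Subgroup H49 Matrix F42
open Cfsg.Agent.L72 (O2N)

variable {G : Type*} [Group G] [Finite G] {a : V4 → G} {ψ ψ' : S6 →* G} {ρ : Fin 4 → G} {t : Fin 4 → Fin 4 → G}
  {e E : ℕ → G} {φ : S8 →* G}

omit [Finite G] in
theorem out_one {x : G} {k : ℕ} (h2 : x ^ 2 ^ k = 1) (h3 : x ^ 3 = 1) : x = 1 := by
  have h := Nat.dvd_gcd (orderOf_dvd_of_pow_eq_one h2) (orderOf_dvd_of_pow_eq_one h3)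
  rw [(Nat.Coprime.pow_left k (by decide : Nat.Coprime 2 3)).gcd_eq_one, Nat.dvd_one] at h
  exact orderOf_eq_one_iff.1 h

omit [Finite G] in
theorem out_el {Y : Subgroup G} (hY : IsPGroup 2 Y) {y : G} (hy : y ∈ Y) : ∃ k : ℕ, y ^ 2 ^ k = 1 := by
  obtain ⟨k, hk⟩ := hY ⟨y, hy⟩
  exact ⟨k, by simpa using congrArg Subtype.val hk⟩

theorem MS.swap_inv {z r1 r2 γ : G} {Q1 Q2 R1 R2 Y : Subgroup G} (h : MS z Q1 Q2 R1 R2 r1 r2) (γ2 : γ * γ = 1)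
    (hz : γ ∈ 𝒞[z]) (hn : γ ∉ 𝒩(Q1)) (hY : IsPGroup 2 Y) (hc : Y ≤ 𝒞[z] ⊓ 𝒞[γ]) (hN : 𝒞[z] ⊓ 𝒞[γ] ≤ 𝒩(Y)) :
    Y ≤ zpowers γ := by
  obtain ⟨s1, s2⟩ := (h.perm γ hz).resolve_left fun e => hn e.1
  have γi : γ⁻¹ = γ := inv_eq_of_mul_eq_one_right γ2
  have m2 : ∀ q ∈ Q1, γ * q * γ⁻¹ ∈ Q2 := fun q hq => s1 ▸ conj_mem_cj.2 hq
  have dQ : ∀ q ∈ Q1, q * (γ * q * γ⁻¹) ∈ Q1 ⊔ Q2 := fun q hq =>
    mul_mem (mem_sup_left hq) (mem_sup_right (m2 q hq))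
  have dγ : ∀ q ∈ Q1, Commute γ (q * (γ * q * γ⁻¹)) := fun q hq => by
    have e1 := (h.lr_c hq (m2 q hq)).eq
    calc γ * (q * (γ * q * γ⁻¹)) = γ * (γ * q * γ⁻¹ * q) := by rw [e1]
      _ = (γ * γ) * q * γ⁻¹ * q := by group
      _ = q * (γ * q * γ⁻¹) * γ := by rw [γ2]; nth_rewrite 1 [γi]; group
  have Qz : Q1 ⊔ Q2 ≤ 𝒞[z] := sup_le h.x1.Qc h.x2.Qc
  have K : ∀ w ∈ 𝒞[z], w ∈ 𝒩(Q1) → (∀ q ∈ Q1, Commute w (q * (γ * q * γ⁻¹))) → w ^ 3 = 1 := by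
    intro w hw n1 hd
    have n2 := (h.norm_iff hw).1 n1
    have k : ∀ q ∈ Q1, q⁻¹ * (w * q * w⁻¹) = γ * q * γ⁻¹ * (w * (γ * q * γ⁻¹) * w⁻¹)⁻¹ ∧
        q⁻¹ * (w * q * w⁻¹) ∈ zpowers z := fun q hq => by
      have e1 : q⁻¹ * (w * q * w⁻¹) = γ * q * γ⁻¹ * (w * (γ * q * γ⁻¹) * w⁻¹)⁻¹ := by
        generalize hq' : γ * q * γ⁻¹ = q'
        have e2 := (hd q hq).eq
        rw [hq'] at e2
        calc _ = q⁻¹ * (w * (q * q')) * q'⁻¹ * w⁻¹ := by group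
          _ = _ := by rw [e2]; group
      exact ⟨e1, h.inf (mul_mem (inv_mem hq) (conj_mem_of_norm le_rfl n1 hq))
        (e1 ▸ mul_mem (m2 q hq) (inv_mem (conj_mem_of_norm le_rfl n2 (m2 q hq))))⟩
    refine h.expQ w (h.faith' hw (fun q hq => ?_) fun q' hq' => ?_)
    · have e1 := lr_conj (h.x1.Qc hq) (k q hq).2
      have := (k q hq).2
      rw [← e1] at this
      convert this using 1
      group
    · rw [← s1, mem_cj'] at hq'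
      obtain ⟨q, hq, rfl⟩ := hq'
      have := inv_mem ((k q hq).1 ▸ (k q hq).2)
      convert this using 1
      group
  intro y hy
  obtain ⟨k, hk⟩ := out_el hY hy
  have yz : y ∈ 𝒞[z] := (hc hy).1
  have yγ : Commute y γ := mem_cent1.1 (hc hy).2
  have yd : ∀ q ∈ Q1, Commute y (q * (γ * q * γ⁻¹)) := fun q hq => by
    have h1 := dQ q hq
    have h2 := dγ q hq
    generalize q * (γ * q * γ⁻¹) = d at h1 h2
    have h3 : y * (d * y⁻¹ * d⁻¹) ∈ Y :=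
      mul_mem hy (conj_mem_of_norm hN ⟨Qz h1, mem_cent1.2 h2.symm.eq⟩ (inv_mem hy))
    have h4 : y * d * y⁻¹ * d⁻¹ ∈ Q1 ⊔ Q2 := mul_mem (conj_mem_of_norm h.normQ yz h1) (inv_mem h1)
    obtain ⟨l, hl⟩ := out_el hY h3
    have h5 := out_one (k := l) (by simpa only [mul_assoc] using hl) (h.expQ _ h4)
    exact mul_inv_eq_iff_eq_mul.1 (mul_inv_eq_one.1 h5)
  rcases h.perm y yz with ⟨n1, -⟩ | ⟨-, n2⟩
  · rw [out_one hk (K y yz n1 yd)]; exact one_mem _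
  · have n1 : y * γ ∈ 𝒩(Q1) := by rw [mem_norm_iff_cj, cj_mul, s1, n2]
    have e3 := K _ (mul_mem yz hz) n1 fun q hq => (yd q hq).mul_left (dγ q hq)
    have e2 : (y * γ) ^ 2 ^ (k + 1) = 1 := by
      rw [yγ.mul_pow, pow_succ, pow_mul, hk, one_pow, one_mul, mul_comm, pow_mul, sq, γ2, one_pow]
    rw [eq_inv_of_mul_eq_one_left (out_one e2 e3)]
    exact inv_mem (mem_zpowers γ)

omit [Finite G] in
theorem out_gam (h : TJ0 a) {n : G} {θ : M4} (hn : Ac a n θ) (hθ : θᵀ * θ = -1) :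
    ∃ γ : G, γ * γ = 1 ∧ Ac a γ wey_eta := by
  obtain ⟨e1, e2, -⟩ := wey_eta_spec
  have h1 : θ * -θᵀ = 1 := mul_eq_one_comm.mp (by rw [Matrix.neg_mul, hθ, neg_neg])
  have h2 : (-θᵀ * wey_eta)ᵀ * (-θᵀ * wey_eta) = 1 := by
    rw [transpose_mul, transpose_neg, transpose_transpose, Matrix.mul_assoc, ← Matrix.mul_assoc (-θ),
      Matrix.neg_mul θ, h1, Matrix.neg_mul, Matrix.one_mul, Matrix.mul_neg, e2, neg_neg]
  obtain ⟨m, -, h3⟩ := h.iso_gen (H := ⊤) ⟨le_top, fun _ _ _ _ => mem_top _⟩ h2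
  have h4 := hn.mul h3
  rw [← Matrix.mul_assoc, h1, Matrix.one_mul] at h4
  have h5 := h4.mul h4
  have h6 := h5.mul h4
  rw [e1] at h5 h6
  rw [Matrix.one_mul] at h6
  obtain ⟨u, hu⟩ := h.ac_uniq (n := 1) (fun u => by rw [one_mulVec, one_mul, inv_one, mul_one]) h5
  refine ⟨_, ?_, h6⟩
  calc _ = (n * m * (n * m)) ^ 3 := by simp only [pow_succ, pow_zero, one_mul, mul_assoc]
    _ = 1 := by rw [hu, one_mul, h.cube]

set_option synthInstance.maxSize 2000 in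
theorem out_w : ∀ w : V4, w ⬝ᵥ w = 1 → w ⬝ᵥ zv = 0 →
    ∃ i k : ZMod 3, w = i • (-ee 0) + k • zv ∧ ∀ l : ZMod 3, w ≠ l • zv := by decide +kernel

theorem out_f : (∀ w : V4, ∀ i k : ZMod 3, ![1, 1, 1, 0] = i • w → ![0, 1, -1, 1] ≠ k • w) ∧
    wey_eta *ᵥ ![1, 1, 1, 0] = ![1, 1, 1, 0] ∧ wey_eta *ᵥ ![0, 1, -1, 1] = ![0, 1, -1, 1] ∧
    (∀ u : V4, wey_eta *ᵥ u = u → u ⬝ᵥ u = zv ⬝ᵥ zv) ∧ zv ≠ 0 ∧ wey_eta *ᵥ ee 0 ≠ ee 0 ∧
    (![1, 1, 1, 0] : V4) ≠ 0 ∧ -1 * (cv ⬝ᵥ cv) = 1 ∧ -1 * (cv ⬝ᵥ zv) = 0 := by decide +kernel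

theorem out_n : ∀ v : V4, v ⬝ᵥ v ≠ 0 → ee 1 ⬝ᵥ ee 1 = v ⬝ᵥ v ∨ cv ⬝ᵥ cv = v ⬝ᵥ v := by decide +kernel

theorem out_n0 : ee 1 ≠ 0 ∧ cv ≠ 0 := by decide +kernel

theorem out_zp (tj : TJ0 a) {u : V4} {g : G} (hg : g ∈ zpowers (a u)) : ∃ l : ZMod 3, g = a (l • u) := by
  obtain ⟨k, rfl⟩ := mem_powers_iff_mem_zpowers.mpr hg
  exact ⟨k, tj.pow k u⟩

theorem St.no2 {r1 r2 : G} {Q1 Q2 R1 R2 : Subgroup G} (h : St a ψ) (tj : TJ0 a) (ms : MS (a zv) Q1 Q2 R1 R2 r1 r2)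
    (hc : a cv ∈ Q1) (hb : a (-ee 0) ∈ Q2) (N : Subgroup G) : N.index ≠ 2 := by
  intro hN
  have : Fact (Nat.Prime 3) := ⟨Nat.prime_three⟩
  have : N.Normal := normal_of_index_eq_two hN
  have odd : ∀ g : G, Odd (orderOf g) → g ∈ N := fun g => lr_odd (mul_self_mem_of_index_two hN g)
  have three : ∀ P : Subgroup G, IsPGroup 3 P → P ≤ N := fun P hP g hg => odd g (by
    obtain ⟨k, hk⟩ := lr_odd3 hP hg
    rw [hk]; exact Odd.pow (by decide))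
  have AN : Jg a ≤ N := three _ tj.isP
  have aN : ∀ u, a u ∈ N := fun u => AN (tj.mem_Jg.2 ⟨u, rfl⟩)
  have LN : ∀ γ, ψ γ ∈ N := fun γ => by
    have := simple_S6
    rcases (inferInstance : (N.comap ψ).Normal).eq_bot_or_eq_top with e | e
    · have h1 : cm 0 ∈ N.comap ψ := by rw [mem_comap, h.c]; exact aN _
      rw [e, mem_bot] at h1
      have h2 := h.c 0
      rw [h1, map_one] at h2
      exact absurd (tj.inj _ h2.symm) (by decide +kernel)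
    · exact (e ▸ mem_top γ : γ ∈ N.comap ψ)
  have wT : HasW a (⊤ : Subgroup G) := ⟨le_top, fun _ _ _ _ => mem_top _⟩
  have hW : HasW a N := ⟨AN, fun v r hv hr => by
    have k : ∀ w γ, w ≠ 0 → Rf a w (ψ γ) → w ⬝ᵥ w = v ⬝ᵥ v → r ∈ N := fun w γ w0 hw e => by
      obtain ⟨θ, h1, h2⟩ := exists_iso w0 (wey_ne hv) e
      obtain ⟨n, -, h3⟩ := tj.iso_gen wT h1
      have h4 := hw.cj h3 (Or.inl h1)
      rw [h2] at h4
      obtain ⟨k, h5, -⟩ := tj.rf_uniq hv h4 hr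
      rw [h5]
      exact mul_mem (Normal.conj_mem inferInstance _ (LN γ) n) (pow_mem (aN v) k)
    rcases out_n v hv with e | e
    · exact k (ee 1) _ out_n0.1 (h.rfx 0) e
    · exact k cv _ out_n0.2 h.rfs.1 e⟩
  obtain ⟨n, nA, nN⟩ : ∃ n ∈ 𝒩(Jg a), n ∉ N := by
    by_contra! hle
    obtain ⟨P, hP⟩ := tj.isP.exists_le_sylow
    have h1 := P.normalizer_sup_eq_top' (three _ P.isPGroup')
    have h2 : N = ⊤ := by
      rw [eq_top_iff, ← h1]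
      exact sup_le (fun g hg => hle g (tj.norm_of_le P.isPGroup' hP hg)) le_rfl
    rw [h2, index_top] at hN
    omega
  obtain ⟨θ, hθ, hn⟩ := tj.sim n nA
  obtain ⟨γ, γ2, hγ⟩ := out_gam tj hn (hθ.resolve_left fun e => nN (tj.iso_mem hW e hn))
  obtain ⟨f0, f1, f2, f3, f4, f5, f6, f7, f8⟩ := out_f
  have cγ : ∀ u, Commute (a u) γ ↔ wey_eta *ᵥ u = u := fun u => by
    rw [← tj.injective.eq_iff, ← hγ u, mul_inv_eq_iff_eq_mul]
    exact ⟨fun e => e.symm.eq, fun e => e.symm⟩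
  have γ1 : γ ≠ 1 := fun e => f5 ((cγ _).1 (e ▸ Commute.one_right _))
  have nz := norm_zp γ2
  have hO : O2N (zpowers γ) ≤ zpowers γ := by
    refine H46.le_of_forall_element (p := 3) (A := Jg a ⊓ 𝒞[γ]) (tj.isP.to_le inf_le_left)
      (abelian_of_le (abelian_iff.2 tj.cent_Jg.ge) inf_le_left) (fun hcy => ?_) (fun hd => ?_)
      (inf_le_right.trans (nz ▸ L72.norm_O2N _)) fun x hx x1 => ?_
    · obtain ⟨⟨g, hg⟩, hz⟩ := hcy.exists_generator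
      obtain ⟨w, rfl⟩ := tj.mem_Jg.1 hg.1
      have k : ∀ u, wey_eta *ᵥ u = u → ∃ i : ZMod 3, u = i • w := fun u hu => by
        obtain ⟨m, hm⟩ := hz ⟨a u, tj.mem_Jg.2 ⟨u, rfl⟩, mem_cent1.2 ((cγ u).2 hu).eq⟩
        obtain ⟨l, hl⟩ := out_zp tj (u := w) (g := a u) ⟨m, by simpa using congrArg Subtype.val hm⟩
        exact ⟨l, tj.injective hl⟩
      obtain ⟨i, hi⟩ := k _ f1
      obtain ⟨l, hl⟩ := k _ f2
      exact f0 w i l hi hl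
    · have : Fact (Nat.Prime 2) := ⟨Nat.prime_two⟩
      obtain ⟨k, hk⟩ := IsPGroup.iff_card.1 (L72.O2N_isP (zpowers γ))
      rw [hk] at hd
      exact absurd (Nat.prime_three.dvd_of_dvd_pow hd) (by decide)
    · obtain ⟨u, rfl⟩ := tj.mem_Jg.1 hx.1
      have hu := (cγ u).1 (mem_cent1.1 hx.2)
      have u0 : u ≠ 0 := fun e => x1 (by rw [e, tj.zero])
      obtain ⟨β, b1, b2⟩ := exists_iso u0 f4 (f3 u hu)
      obtain ⟨m, -, hm⟩ := tj.iso_gen wT b1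
      obtain ⟨β', -, b3, b4, -⟩ := Sim.inv (Or.inl b1 : Sim β)
      have hz : m * a u * m⁻¹ = a zv := by rw [hm u, b2]
      have b5 : β' *ᵥ zv = u := by rw [← b2, mulVec_mulVec, b4, one_mulVec]
      have hγ' := (hm.mul hγ).mul (hm.inv b3)
      have d1 : ∀ x y : V4, (β * wey_eta * β') *ᵥ x ⬝ᵥ (β * wey_eta * β') *ᵥ y = -1 * (x ⬝ᵥ y) := fun x y => by
        rw [← mulVec_mulVec, ← mulVec_mulVec, ← mulVec_mulVec, ← mulVec_mulVec, iso_dot b1, bas_dot,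
          wey_eta_spec.2.1, neg_mulVec, one_mulVec, dotProduct_neg, ← iso_dot b1, mulVec_mulVec, mulVec_mulVec, b3,
          one_mulVec, one_mulVec, neg_one_mul]
      have d2 : (β * wey_eta * β') *ᵥ zv = zv := by rw [← mulVec_mulVec, ← mulVec_mulVec, b5, hu, b2]
      have gz : m * γ * m⁻¹ ∈ 𝒞[a zv] := by
        have := hγ' zv
        rw [d2] at this
        exact mem_cent1.2 (mul_inv_eq_iff_eq_mul.1 this)
      have gn : m * γ * m⁻¹ ∉ 𝒩(Q1) := fun hq => by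
        have h1 := conj_mem_of_norm le_rfl hq hc
        rw [hγ' cv] at h1
        obtain ⟨i, k, e, ne⟩ := out_w ((β * wey_eta * β') *ᵥ cv) (by rw [d1, f7]) (by
          have := d1 cv zv
          rwa [d2, f8] at this)
        have h2 : a ((β * wey_eta * β') *ᵥ cv) ∈ Q2 := by
          rw [e, tj.add, tj.smul, tj.smul]
          exact mul_mem (pow_mem hb _) (pow_mem ms.x2.zQ _)
        obtain ⟨l, hl⟩ := out_zp tj (ms.inf h1 h2)
        exact ne l (tj.injective hl)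
      have e1 : cj m (𝒞[a u] ⊓ 𝒞[γ]) = 𝒞[a zv] ⊓ 𝒞[m * γ * m⁻¹] := by rw [cj_inf, cj_cent1, cj_cent1, hz]
      have key := MS.swap_inv (Y := cj m (O2N (zpowers γ) ⊓ 𝒞[a u])) ms
        (show m * γ * m⁻¹ * (m * γ * m⁻¹) = 1 by
          calc _ = m * (γ * γ) * m⁻¹ := by group
            _ = 1 := by rw [γ2]; group) gz gn
        (isPGroup_cj.2 ((L72.O2N_isP _).to_le inf_le_left))
        (e1 ▸ cj_mono m (le_inf inf_le_right (inf_le_left.trans (nz ▸ L72.O2N_le _))))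
        (by
          rw [← e1, ← cj_normalizer]
          exact cj_mono m (norm_inf (inf_le_right.trans (nz ▸ L72.norm_O2N _)) (norm_of_le inf_le_left)))
      rw [← cj_zpowers, cj_le_iff, cj_cj, inv_mul_cancel] at key
      simpa using key
  have h1 := h.toGl.cen γ2 γ1 ((cγ _).2 f1) fun q hq => by
    obtain ⟨k, rfl⟩ := hO hq
    exact ((cγ _).2 f1).zpow_right k
  obtain ⟨k, hk⟩ := out_el (L72.O2N_isP _) h1
  exact f6 (tj.inj _ (out_one hk (tj.cube _)))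

end Cfsg.Agent.S86
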