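import Cfsg.Agent.S86.ZsC
import Cfsg.Agent.L72.GenB

set_option autoImplicit false

namespace Cfsg.Agent.S86

open Subgroup H49 Matrix F42
open Cfsg.Agent.L72 (O2N)

variable {G : Type*} [Group G] [Finite G] {a : V4 → G} {ψ ψ' : S6 →* G} {ρ : Fin 4 → G} {t : Fin 4 → Fin 4 → G}
  {e E : ℕ → G} {φ : S8 →* G}

omit [Finite G] in
theorem zsd_pow {x y z : G} (h : x * y * x⁻¹ = y * z) (hz : x ∈ 𝒞[z]) (n : ℕ) :
    x ^ n * y * (x ^ n)⁻¹ = y * z ^ n := by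
  induction n with
  | zero => simp
  | succ n ih =>
    calc _ = x * (x ^ n * y * (x ^ n)⁻¹) * x⁻¹ := by group
      _ = x * y * x⁻¹ * (x * z ^ n * x⁻¹) := by rw [ih]; group
      _ = _ := by rw [h, lr_conj hz (npow_mem_zpowers z n)]; group

theorem zsd_conj {z r p q : G} {Q R : Subgroup G} (h : XQ z Q R r) (z3 : orderOf z = 3) (hp : p ∈ Q) (hq : q ∈ Q)
    (pz : p ∉ zpowers z) (qz : q ∉ zpowers z) : ∃ g ∈ Q ⊔ R, g * p * g⁻¹ = q := by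
  obtain ⟨g, hg, e⟩ := h.tr p hp q hq pz qz
  obtain ⟨b, hb, e1⟩ := (h.xp z3).exists_b hq qz
  obtain ⟨n, hn⟩ := (lr_mem z3).1 e
  have e2 := zsd_pow e1 (h.Qc hb) n.val
  rw [(lr_comm (h.Qc hq) (npow_mem_zpowers z _)).eq, ← hn] at e2
  refine ⟨(b ^ n.val)⁻¹ * g, mul_mem (mem_sup_left (inv_mem (pow_mem hb _))) (mem_sup_right hg), ?_⟩
  calc _ = (b ^ n.val)⁻¹ * (g * p * g⁻¹ * q⁻¹ * q) * b ^ n.val := by group
    _ = q := by rw [← e2]; group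

theorem zsd_inner {z r g : G} {Q R : Subgroup G} (h : XQ z Q R r) (z3 : orderOf z = 3) (hg : g ∈ 𝒞[z])
    (ht : ∀ q ∈ Q, g * q * g⁻¹ * q⁻¹ ∈ zpowers z) : ∃ p ∈ Q, p⁻¹ * g ∈ 𝒞(Q) := by
  obtain ⟨a0, ha0, ha0'⟩ := (h.xp z3).lr_ex
  obtain ⟨a, ha, b, hb, -, e, -, -, nf⟩ := h.gens z3 ha0 ha0'
  obtain ⟨i, hi⟩ := (lr_mem z3).1 (ht a ha)
  obtain ⟨k, hk⟩ := (lr_mem z3).1 (ht b hb)
  have e' : a⁻¹ * b * a⁻¹⁻¹ = b * z := by
    calc _ = a⁻¹ * (b * a * b⁻¹) * b := by group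
      _ = z * b := by rw [e]; group
      _ = _ := (mem_cent1.1 (h.Qc hb)).symm
  have e1 := zsd_pow e (h.Qc hb) i.val
  have e2 := zsd_pow e' (h.Qc (inv_mem ha)) k.val
  have hp : b ^ i.val * a⁻¹ ^ k.val ∈ Q := mul_mem (pow_mem hb _) (pow_mem (inv_mem ha) _)
  have pa : b ^ i.val * a⁻¹ ^ k.val * a * (b ^ i.val * a⁻¹ ^ k.val)⁻¹ = g * a * g⁻¹ := by
    calc _ = b ^ i.val * a * (b ^ i.val)⁻¹ := by group
      _ = _ := by rw [e1, (lr_comm (h.Qc ha) (npow_mem_zpowers z _)).eq, ← hi]; group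
  have pb : b ^ i.val * a⁻¹ ^ k.val * b * (b ^ i.val * a⁻¹ ^ k.val)⁻¹ = g * b * g⁻¹ := by
    calc _ = b ^ i.val * (a⁻¹ ^ k.val * b * (a⁻¹ ^ k.val)⁻¹) * (b ^ i.val)⁻¹ := by group
      _ = b * (b ^ i.val * z ^ k.val * (b ^ i.val)⁻¹) := by rw [e2]; group
      _ = _ := by
        rw [lr_conj (h.Qc (pow_mem hb _)) (npow_mem_zpowers z _), (lr_comm (h.Qc hb) (npow_mem_zpowers z _)).eq, ← hk]
        group
  refine ⟨_, hp, fun q hq => ?_⟩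
  generalize b ^ i.val * a⁻¹ ^ k.val = p at hp pa pb
  have key : ∀ x, p * x * p⁻¹ = g * x * g⁻¹ → Commute x (p⁻¹ * g) := fun x hx => by
    calc x * (p⁻¹ * g) = p⁻¹ * (p * x * p⁻¹) * g := by group
      _ = _ := by rw [hx]; group
  have cz : Commute z (p⁻¹ * g) := (mem_cent1.1 (mul_mem (inv_mem (h.Qc hp)) hg)).symm
  obtain ⟨i, k, l, rfl⟩ := nf q hq
  exact (((cz.pow_left i).mul_left ((key a pa).pow_left k)).mul_left ((key b pb).pow_left l)).eq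

/-- the elements acting trivially on `Q/⟨z⟩` -/
def TZ (z : G) (Q : Subgroup G) : Subgroup G where
  carrier := {g | g ∈ 𝒞[z] ∧ g ∈ 𝒩(Q) ∧ ∀ q ∈ Q, g * q * g⁻¹ * q⁻¹ ∈ zpowers z}
  one_mem' := ⟨one_mem _, one_mem _, fun q _ => by simp⟩
  mul_mem' {g k} hg hk := ⟨mul_mem hg.1 hk.1, mul_mem hg.2.1 hk.2.1, fun q hq => by
    have h1 := hk.2.2 q hq
    have := mul_mem ((lr_conj hg.1 h1).symm ▸ h1 : g * (k * q * k⁻¹ * q⁻¹) * g⁻¹ ∈ zpowers z) (hg.2.2 q hq)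
    convert this using 1
    group⟩
  inv_mem' {g} hg := ⟨inv_mem hg.1, inv_mem hg.2.1, fun q hq => by
    have := inv_mem (hg.2.2 _ (conj_mem_of_norm le_rfl (inv_mem hg.2.1) hq))
    convert this using 1
    group⟩

omit [Finite G] in
theorem TZ_cent {z : G} {Q : Subgroup G} (hz : z ∈ Q) : 𝒞(Q) ≤ TZ z Q := fun g hg =>
  ⟨cent_le_cent1 hz hg, cent_le_norm Q hg, fun q hq => by rw [← hg q hq]; simp⟩

omit [Finite G] in
theorem TZ_conj {z u g : G} {Q : Subgroup G} (uz : u ∈ 𝒞[z]) (un : u ∈ 𝒩(Q)) (hg : g ∈ TZ z Q) :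
    u * g * u⁻¹ ∈ TZ z Q :=
  ⟨mul_mem (mul_mem uz hg.1) (inv_mem uz), mul_mem (mul_mem un hg.2.1) (inv_mem un), fun q hq => by
    have h1 := hg.2.2 _ (conj_mem_of_norm le_rfl (inv_mem un) hq)
    rw [← lr_conj uz h1] at h1
    convert h1 using 1
    group⟩

theorem FZ.ms {z j c b r1 r2 : G} {A Q1 Q2 R1 R2 : Subgroup G} (h : FZ z j c b r1 r2 A Q1 Q2 R1 R2) :
    MS z Q1 Q2 R1 R2 r1 r2 := by
  have : Fact (Nat.Prime 3) := ⟨Nat.prime_three⟩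
  have nQ := h.normQ
  have Z1 := (h.x1.xp h.z3).lr_le
  have Z2 := (h.x2.xp h.z3).lr_le
  have ms : ∀ q ∈ Q1 ⊔ Q2, ∃ p1 ∈ Q1, ∃ p2 ∈ Q2, q = p1 * p2 := fun q hq =>
    (mem_sup_of_norm_right (norm_of_cent h.QQ)).1 hq
  have QQ' := cent_symm h.QQ
  have ne : Q1 ≠ Q2 := fun e => h.cz (h.x1.cen c h.cQ fun q hq => (h.QQ h.cQ q (e ▸ hq)).symm)
  have un : ∀ q ∈ Q1 ⊔ Q2, ¬ IsConj z q → q ∈ Q1 ∨ q ∈ Q2 := fun q hq nc => by
    obtain ⟨p1, h1, p2, h2, rfl⟩ := ms q hq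
    by_cases z1 : p1 ∈ zpowers z
    · exact Or.inr (mul_mem (Z2 z1) h2)
    by_cases z2 : p2 ∈ zpowers z
    · exact Or.inl (mul_mem h1 (Z1 z2))
    obtain ⟨g1, m1, e1⟩ := zsd_conj h.x1 h.z3 h.cQ h1 h.cz z1
    obtain ⟨g2, m2, e2⟩ := zsd_conj h.x2 h.z3 h.bQ h2 h.bz z2
    have c1 := sup_le h.QQ h.R1c m1 p2 h2
    have c2 := sup_le QQ' h.R2c m2 c h.cQ
    refine absurd (h.mix.trans (isConj_iff.2 ⟨g1 * g2, ?_⟩)) nc
    calc _ = g1 * (g2 * c) * g2⁻¹ * (g2 * b * g2⁻¹) * g1⁻¹ := by group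
      _ = g1 * c * g1⁻¹ * (g1 * p2) * g1⁻¹ := by rw [← c2, e2]; group
      _ = _ := by rw [e1, ← c1]; group
  have pm : ∀ g ∈ 𝒞[z], ∀ (Q R : Subgroup G) (r x : G), XQ z Q R r → Q ≤ Q1 ⊔ Q2 → x ∈ Q → x ∉ zpowers z →
      ¬ IsConj z x → cj g Q = Q1 ∨ cj g Q = Q2 := fun g hg Q R r x hx hle xQ xz nc => by
    have h1 : (cj g Q : Set G) ⊆ Q1 ∪ Q2 := fun y hy => by
      obtain ⟨q, hq, rfl⟩ := mem_cj'.1 hy
      by_cases qz : q ∈ zpowers z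
      · exact Or.inl (by rw [lr_conj hg qz]; exact Z1 qz)
      obtain ⟨k, -, e⟩ := zsd_conj hx h.z3 xQ hq xz qz
      refine un _ (conj_mem_of_norm nQ hg (hle hq)) fun hc => nc (hc.trans (isConj_iff.2 ⟨(g * k)⁻¹, ?_⟩))
      rw [← e]; group
    have h2 : Nat.card (cj g Q) = 27 := by rw [← hx.card]; exact (Nat.card_congr (cjEquiv g Q).toEquiv).symm
    exact (SubgroupClass.subset_union.1 h1).imp (fun e => eq_of_le_of_card_eq e (by rw [h2, h.x1.card]))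
      fun e => eq_of_le_of_card_eq e (by rw [h2, h.x2.card])
  have z3 : z ^ 3 = 1 := (h.x1.xp h.z3).lr_z3
  have SZ : ∀ s ∈ Q1 ⊔ Q2 ⊔ zpowers j, s ∈ 𝒞(Q1 ⊔ Q2) → s ∈ zpowers z := fun s hs sc => by
    rw [cent_sup] at sc
    obtain ⟨q, hq, x, hx, rfl⟩ := (mem_sup_of_norm_left (zpowers_le_of_mem
      (norm_sup (A := zpowers j) (zpowers_le_of_mem h.jQ1) (zpowers_le_of_mem h.jQ2) (mem_zpowers j)))).1 hs
    obtain ⟨p1, h1, p2, h2, rfl⟩ := ms q hq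
    have t1 : x ∈ TZ z Q1 := by
      have := mul_mem (inv_mem (mul_mem (show p1 ∈ TZ z Q1 from ⟨h.x1.Qc h1, le_normalizer h1, h.x1.comm p1 h1⟩)
        (TZ_cent h.x1.zQ (QQ' h2)))) (TZ_cent h.x1.zQ sc.1)
      rwa [inv_mul_cancel_left] at this
    have t2 : ∀ u ∈ R1, Commute x u := fun u hu => by
      have m1 := mul_mem t1 (TZ_conj (h.x1.Rc hu) (h.x1.Rn hu) (inv_mem t1))
      have m2 : x * (u * x⁻¹ * u⁻¹) ∈ R1 := by
        have := mul_mem (conj_mem_of_norm (zpowers_le_of_mem h.jR1) hx hu) (inv_mem hu)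
        convert this using 1
        group
      have m3 := h.x1.free h.z3 m2 h.cQ h.cz (m1.2.2 c h.cQ)
      calc x * u = x * (u * x⁻¹ * u⁻¹) * (u * x) := by group
        _ = _ := by rw [m3, one_mul]
    obtain ⟨u, hu, nc⟩ := h.jm
    rcases L72.GenB.mem3 h.j3 hx with rfl | rfl | rfl
    · rw [mul_one] at sc ⊢
      refine mul_mem (h.x1.cen p1 h1 fun q hq => ?_) (h.x2.cen p2 h2 fun q hq => ?_)
      · have c1 : Commute q (p1 * p2) := sc.1 q hq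
        have c2 : Commute q p2 := QQ' h2 q hq
        simpa using (c1.mul_right c2.inv_right).symm
      · have c1 : Commute q (p1 * p2) := sc.2 q hq
        have c2 : Commute q p1 := h.QQ h1 q hq
        simpa using (c2.inv_right.mul_right c1).symm
    · exact absurd (t2 u hu) nc
    · exact absurd (by simpa using (t2 u hu).inv_left) nc
  have CZ : 𝒞(Q1 ⊔ Q2) ≤ zpowers z := by
    have cz : 𝒞(Q1 ⊔ Q2) ≤ 𝒞[z] := cent_le_cent1 (mem_sup_left h.x1.zQ)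
    have nC := norm_cent nQ
    have hW : 𝒞(Q1 ⊔ Q2) ⊔ A ≤ 𝒞[z] := sup_le cz h.AX
    obtain ⟨P, hP, AP⟩ := H42.exists_sylIn h.A3 (le_sup_right : A ≤ 𝒞(Q1 ⊔ Q2) ⊔ A)
    have hD := hP.inf_normal le_sup_left (hW.trans nC)
    have DZ : P ⊓ 𝒞(Q1 ⊔ Q2) ≤ zpowers z := fun s hs =>
      SZ s (h.three P hP.isP AP (hP.le.trans hW) hs.1) hs.2
    obtain ⟨N, N1, -, N3, N4⟩ := L72.GenB.burnside hD fun g hg d hd => (lr_comm (cz hg.1) (DZ hd)).symm.eq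
    have cp : (Nat.card N).Coprime 3 := ((Nat.Prime.coprime_iff_not_dvd Nat.prime_three).2 N3).symm
    have pw : ∀ n ∈ N, n ^ Nat.card N = 1 := fun n hn =>
      congrArg Subtype.val (pow_card_eq_one' (G := N) (x := ⟨n, hn⟩))
    have NB := h.sig N cp (le_norm_iff.2 fun x hx n hn => by
      obtain ⟨n', hn', d, hd, e⟩ := N4 _ (conj_mem_of_norm nC (h.AX hx) (N1 hn))
      have e1 : (n' * d) ^ Nat.card N = 1 := by rw [← e, conj_pow, pw n hn]; group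
      rw [(lr_comm (cz (N1 hn')) (DZ hd)).mul_pow, pw n' hn', one_mul] at e1
      have e2 := Nat.dvd_gcd (orderOf_dvd_of_pow_eq_one e1) (orderOf_dvd_of_pow_eq_one (h.x1.exp d (Z1 (DZ hd))))
      rw [cp.gcd_eq_one, Nat.dvd_one, orderOf_eq_one_iff] at e2
      rw [e, e2, mul_one]; exact hn')
    intro g hg
    obtain ⟨n, hn, d, hd, rfl⟩ := N4 g hg
    rw [NB, mem_bot] at hn
    rw [hn, one_mul]; exact DZ hd
  refine ⟨h.z3, h.x1, h.x2, h.QQ, h.R1c, h.R2c, h.RR, fun g hg => ?_, fun g hg ht => ?_⟩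
  · rcases pm g hg Q1 R1 r1 c h.x1 le_sup_left h.cQ h.cz h.nc with e1 | e1 <;>
      rcases pm g hg Q2 R2 r2 b h.x2 le_sup_right h.bQ h.bz h.nb with e2 | e2
    · exact absurd (cj_injective g (e1.trans e2.symm)) ne
    · exact Or.inl ⟨mem_norm_iff_cj.2 e1, mem_norm_iff_cj.2 e2⟩
    · exact Or.inr ⟨e1, e2⟩
    · exact absurd (cj_injective g (e1.trans e2.symm)) ne
  · obtain ⟨p1, h1, c1⟩ := zsd_inner h.x1 h.z3 hg fun q hq => ht q (mem_sup_left hq)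
    have g2 : g ∈ TZ z Q2 := ⟨hg, H42.mem_normalizer_of_conj_mem fun q hq => by
      simpa using mul_mem (Z2 (ht q (mem_sup_right hq))) hq, fun q hq => ht q (mem_sup_right hq)⟩
    have t2 := mul_mem (inv_mem (TZ_cent h.x2.zQ (h.QQ h1))) g2
    obtain ⟨p2, h2, c2⟩ := zsd_inner h.x2 h.z3 t2.1 t2.2.2
    have c3 : p2⁻¹ * (p1⁻¹ * g) ∈ 𝒞(Q1 ⊔ Q2) := by
      rw [cent_sup]; exact mem_inf.2 ⟨mul_mem (inv_mem (QQ' h2)) c1, c2⟩
    have := mul_mem (mem_sup_left h1) (mul_mem (mem_sup_right h2) (mem_sup_left (Z1 (CZ c3)) : _ ∈ Q1 ⊔ Q2))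
    simpa using this

end Cfsg.Agent.S86
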