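import Cfsg.Agent.S86.BaseA

/-! The stabiliser of `b` in the normaliser of the torus, uniqueness of the torus, fusion of `b`. -/

set_option autoImplicit false

namespace Cfsg.Agent.S86

open Subgroup H49 Matrix F42
open Cfsg.Agent.L72 (O2N)

variable {G : Type*} [Group G] [Finite G] {a : V4 → G} {ψ ψ' : S6 →* G} {ρ : Fin 4 → G} {t : Fin 4 → Fin 4 → G}
  {e E : ℕ → G} {φ : S8 →* G}

theorem BaseB_split (u : V4) : ∃ v : V4, v 0 = 0 ∧ u = u 0 • ee 0 + v :=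
  ⟨u - u 0 • ee 0, by simp [ee], by simp⟩

theorem BaseB_ac (h : St a ψ) {β : M4} (hβ : Iso0 β) {γ : S6}
    (H : ∀ u : V4, u 0 = 0 → γ * jm u * γ⁻¹ = jm (β *ᵥ u)) : Ac a (ψ γ) β := fun u => by
  obtain ⟨v, v0, e⟩ := BaseB_split u
  have h1 : ψ γ * a v * (ψ γ)⁻¹ = a (β *ᵥ v) := by
    rw [← h.pjm v0, ← h.pjm ((hβ.zero v).trans v0), ← H v v0, map_mul, map_mul, map_inv]
  rw [e, mulVec_add, mulVec_smul, hβ.2, h.add, h.add, ← h1, h.toTA.smul, ← mul_assoc,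
    ← ((h.bL γ).pow_left _).eq]
  group

theorem St.stab (h : St a ψ) {n : G} {θ : M4} (hn : Ac a n θ) (e : θ *ᵥ ee 0 = ee 0) : Iso0 θ := by
  obtain ⟨γ, hγ⟩ := h.normL (n := n) (.inl (by rw [hn, e]))
  have h1 : ∀ u : V4, u 0 = 0 → ψ (γ * jm u * γ⁻¹) = a (θ *ᵥ u) := fun u u0 => by rw [← hγ, h.pjm u0, hn]
  have h2 : γ ∈ 𝒩(Jm) := mem_norm_of_cj_le fun x hx => by
    obtain ⟨y, hy, rfl⟩ := mem_cj'.1 hx
    obtain ⟨u, u0, rfl⟩ := mem_Jm.1 hy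
    refine cenM fun i => h.ψi ?_
    rw [map_mul, map_mul ψ (cm i), h1 u u0, h.c]
    exact h.toTA.comm _ _
  obtain ⟨β, hβ, h3⟩ := normM h2
  have h4 : θ = β := mulVec_injective (funext fun u => by
    obtain ⟨v, v0, e'⟩ := BaseB_split u
    have h5 : θ *ᵥ v = β *ᵥ v := h.toTA.injective (by rw [← h1 v v0, h3 v v0, h.pjm ((hβ.zero v).trans v0)])
    rw [e', mulVec_add, mulVec_add, mulVec_smul, mulVec_smul, e, hβ.2, h5])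
  exact h4 ▸ hβ

theorem St.iso0 (h : St a ψ) {β : M4} (hβ : Iso0 β) : ∃ γ, Ac a (ψ γ) β :=
  let ⟨γ, H⟩ := isoM hβ
  ⟨γ, BaseB_ac h hβ H⟩

omit [Finite G] in
theorem BaseB_el {p : ℕ} {P : Subgroup G} (hP : IsPGroup p P) {x : G} (hx : x ∈ P) : El p x :=
  let ⟨k, hk⟩ := hP ⟨x, hx⟩
  ⟨k, congrArg Subtype.val hk⟩

theorem BaseB_Jm (h : St a ψ) {P : Subgroup G} (hA : Jg a ≤ P) : Jm ≤ P.comap ψ := by
  rw [← map_le_iff_le_comap, h.Ig_eq]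
  exact h.toTA.Ig_le.trans hA

/-- the elements of a 3-subgroup of `C(b)` containing `b` -/
theorem BaseB_dec (h : St a ψ) {P Q : Subgroup G} (hP : IsPGroup 3 P) (hb : P ≤ 𝒞[a (ee 0)]) (hQ : a (ee 0) ∈ Q) {x : G}
    (hx : x ∈ P) (hx' : x ∈ Q) : ∃ (c : ZMod 3) (γ : Q.comap ψ), x = a (c • ee 0) * ψ γ := by
  obtain ⟨k, γ, -, e⟩ := h.three (BaseB_el hP hx) (mem_cent1.1 (hb hx))
  exact ⟨k, ⟨γ, (mul_mem_cancel_left (pow_mem hQ k)).1 (e ▸ hx')⟩, by rw [← h.toTA.pow]; exact e⟩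

theorem St.uqb (h : St a ψ) {P B : Subgroup G} (hP : IsPGroup 3 P) (hA : Jg a ≤ P) (hb : P ≤ 𝒞[a (ee 0)]) (hB : B ≤ P)
    (hc : B ≤ 𝒞(B)) (h81 : Nat.card B = 81) : B ≤ Jg a := by
  have hm : ∀ u, a u ∈ Jg a := fun u => h.toTA.mem_Jg.2 ⟨u, rfl⟩
  let Q := B ⊔ zpowers (a (ee 0))
  have h1 : Q ≤ P := sup_le hB (zpowers_le.2 (hA (hm _)))
  have h2 : Q ≤ 𝒞(Q) := sup_le
    (le_centralizer_iff.1 (sup_le hc (zpowers_le.2 (le_cent1_iff.1 (hB.trans hb)))))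
    (zpowers_le.2 (le_cent1_iff.1 (h1.trans hb)))
  have h3 : Q.comap ψ ≤ 𝒞(Q.comap ψ) := fun x hx y hy => h.ψi (by rw [map_mul, map_mul]; exact h2 hx _ hy)
  have h4 : IsPGroup 3 (P.comap ψ) := hP.comap_of_injective ψ h.ψi
  choose c γ H using fun x : B => BaseB_dec h (Q := Q) hP hb (mem_sup_right (mem_zpowers _)) (hB x.2) (mem_sup_left x.2)
  have h5 := Nat.card_le_card_of_injective (fun x => (c x, γ x)) fun x y e => Subtype.ext (by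
    rw [H x, H y, (Prod.mk.inj e).1, (Prod.mk.inj e).2])
  rw [h81, Nat.card_prod, Nat.card_zmod] at h5
  have h6 := (abM (h4.to_le (comap_mono h1)) h3).1
  have h7 := uqM h4 (BaseB_Jm h hA) (comap_mono h1) h3 (by omega)
  intro x hx
  rw [show x = _ from H ⟨x, hx⟩]
  exact mul_mem (hm _) (h.toTA.Ig_le (h.Ig_eq ▸ mem_map_of_mem ψ (h7 ▸ (γ ⟨x, hx⟩).2)))

theorem St.fusb (h : St a ψ) {g : G} {u : V4} (e : g * a (ee 0) * g⁻¹ = a u) : ∃ n θ, Ac a n θ ∧ θ *ᵥ ee 0 = u := by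
  have h0 : ∀ v, Jg a ≤ 𝒞[a v] := fun v x hx => by
    obtain ⟨w, rfl⟩ := h.toTA.mem_Jg.mp hx
    exact mem_cent1.mpr (h.toTA.comm w v)
  have h2 : cj g⁻¹ (Jg a) ≤ 𝒞[a (ee 0)] := by
    rw [cj_le_iff, inv_inv, cj_cent1, e]
    exact h0 u
  obtain ⟨P, hP, h3⟩ := exists_sylowOf_ge ((isPi_singleton_iff Nat.prime_three).mpr h.toTA.isP) (h0 (ee 0))
  obtain ⟨c, hc, h4⟩ := sylowOf_subJ hP h2
    ((isPi_singleton_iff Nat.prime_three).mpr (isPGroup_cj.mpr h.toTA.isP))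
  rw [cj_cj] at h4
  have h5 := (sylowOf_iff Nat.prime_three).mp hP
  obtain ⟨θ, h6⟩ := h.toTA.acN.1 (inv_mem (mem_norm_of_cj_le (h.uqb h5.2.1 h3 h5.1 h4
    (by rw [← cj_centralizer]; exact cj_mono _ h.toTA.Jg_comm) (by rw [card_cj, h.toTA.card_Jg]))))
  refine ⟨_, θ, h6, h.toTA.injective ?_⟩
  rw [← h6, ← e]
  calc _ = g * (c⁻¹ * (a (ee 0) * c)) * g⁻¹ := by group
    _ = _ := by rw [← mem_cent1.mp hc, inv_mul_cancel_left]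

theorem St.sylC (h : St a ψ) {P : Subgroup G} (hP : IsPGroup 3 P) (hb : P ≤ 𝒞[a (ee 0)]) (hA : Jg a ≤ P)
    (hq : ψ q3 ∈ P) : P ≤ Jg a ⊔ zpowers (ψ q3) := fun x hx => by
  have hm : ∀ u, a u ∈ Jg a := fun u => h.toTA.mem_Jg.2 ⟨u, rfl⟩
  obtain ⟨c, γ, rfl⟩ := BaseB_dec h hP hb (hA (hm _)) hx hx
  have h1 := mem_map_of_mem ψ (sylM' (hP.comap_of_injective ψ h.ψi) (BaseB_Jm h hA) hq γ.2)
  rw [Subgroup.map_sup, h.Ig_eq, MonoidHom.map_zpowers] at h1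
  exact mul_mem (mem_sup_left (hm _)) (sup_le_sup_right h.toTA.Ig_le _ h1)

theorem St.no4 (h : St a ψ) {n : G} (hn : Ac a n p01) : ¬ 4 ∣ Nat.card 𝒞(Ig a) := fun h4 => by
  have h' := h.ac hn
  obtain ⟨T, hT⟩ := Sylow.exists_subgroup_card_pow_prime 2 (n := 2) h4
  have h1 : IsPGroup 2 (T.map 𝒞(Ig a).subtype) := (IsPGroup.of_card hT).map _
  have h2 : ∀ x ∈ T.map 𝒞(Ig a).subtype, ∀ u : V4, (p01 *ᵥ u) 0 = 0 → Commute x (tw a p01 u) := fun x hx u u0 =>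
    (map_subtype_le T hx _ (h.toTA.mem_Ig.2 ⟨_, u0, rfl⟩)).symm
  have h3 : ∀ x ∈ T.map 𝒞(Ig a).subtype, ∃ γ, El 2 γ ∧ x = cjh n ψ γ ∧ Commute γ (cm 1) ∧ Commute γ (cm 2) :=
    fun x hx => by
      obtain ⟨γ, e1, e2⟩ := h'.two (BaseB_el h1 hx) (h2 x hx _ (by decide +kernel))
      refine ⟨γ, e1, e2, h'.ψi ?_, h'.ψi ?_⟩ <;> rw [map_mul, map_mul, ← e2, h'.c] <;>
        exact h2 x hx _ (by decide +kernel)
  have := Fintype.ofFinite (T.map 𝒞(Ig a).subtype)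
  obtain ⟨x, y, z, n1, n2, n3⟩ := (Fintype.two_lt_card_iff (α := T.map 𝒞(Ig a).subtype)).1 (by
    rw [← Nat.card_eq_fintype_card, card_subtype, hT]; decide)
  obtain ⟨γ, g1, g2, g3, g4⟩ := h3 _ (x⁻¹ * y).2
  obtain ⟨δ, d1, d2, d3, d4⟩ := h3 _ (x⁻¹ * z).2
  obtain ⟨ε, e1, e2, -⟩ := h3 _ ((x⁻¹ * y) * (x⁻¹ * z)).2
  have e3 : ε = γ * δ := h'.ψi (by rw [map_mul, ← e2, ← g2, ← d2]; rfl)
  rcases m54 g3 g4 d3 d4 g1 d1 (e3 ▸ e1) with rfl | rfl | rfl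
  · exact n1 (inv_mul_eq_one.1 (Subtype.ext (g2.trans (map_one _))))
  · exact n2 (inv_mul_eq_one.1 (Subtype.ext (d2.trans (map_one _))))
  · exact n3 (mul_left_cancel (Subtype.ext (g2.trans d2.symm)))

end Cfsg.Agent.S86
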