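import Cfsg.Agent.S86.FusM
import Cfsg.Agent.S86.BaseB

set_option autoImplicit false

namespace Cfsg.Agent.S86

open Subgroup H49 Matrix F42
open Cfsg.Agent.L72 (O2N)

variable {G : Type*} [Group G] [Finite G] {a : V4 → G} {ψ ψ' : S6 →* G} {ρ : Fin 4 → G} {t : Fin 4 → Fin 4 → G}
  {e E : ℕ → G} {φ : S8 →* G}

namespace Fus

theorem aff_zero {θ : M4} (h : Aff θ) {u : V4} (u0 : u 0 = 0) : (θ *ᵥ u) 0 = 0 := by
  obtain ⟨β, hβ, e⟩ := h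
  rw [e u u0, hβ.zero, u0]

theorem p01_sq : p01 * p01 = 1 := by decide +kernel

theorem p01_e1 : p01 *ᵥ ee 1 = ee 0 := by decide +kernel

theorem split0 (u : V4) : ∃ u' : V4, u' 0 = 0 ∧ u = u 0 • ee 0 + u' := by
  refine ⟨u - u 0 • ee 0, ?_, by abel⟩
  simp [ee]

theorem not_aff {θ η : M4} (h : Aff θ) (e : θ * η = 1) : ¬ Aff (θ * p01) := fun h' => by
  have h1 : (θ *ᵥ ee 0) 0 = 0 := by
    have := aff_zero h' (u := ee 1) (by decide)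
    rwa [← mulVec_mulVec, p01_e1] at this
  have h2 : ∀ u : V4, (θ *ᵥ u) 0 = 0 := fun u => by
    obtain ⟨u', u0, e'⟩ := split0 u
    rw [e', mulVec_add, mulVec_smul, Pi.add_apply, Pi.smul_apply, h1, aff_zero h u0, smul_zero, add_zero]
  have h3 := h2 (η *ᵥ ee 0)
  rw [mulVec_mulVec, e, one_mulVec] at h3
  exact absurd h3 (by decide)

theorem pm0 : ∀ v : V4, v ≠ 0 → v ⬝ᵥ ee 1 = 0 → v ⬝ᵥ ee 2 = 0 → v ⬝ᵥ ee 3 = 0 → v = ee 0 ∨ v = -ee 0 := by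
  decide +kernel

theorem mono {θ : M4} (h : Aff θ) (hs : Sim θ) : Mono θ := by
  obtain ⟨β, hβ, e⟩ := h
  intro i
  by_cases hi : i = 0
  · subst hi
    have key : ∀ w : V4, w 0 = 0 → (θ *ᵥ ee 0) ⬝ᵥ w = 0 := fun w w0 => by
      obtain ⟨u, rfl⟩ := hβ.sim.surj w
      rw [hβ.zero] at w0
      rw [← e u w0, hs.dot_eq_zero, dotProduct_comm, qt_dot0, w0]
    exact ⟨0, pm0 _ (fun e0 => absurd (hs.eq_zero.1 e0) (by decide)) (key _ (by decide)) (key _ (by decide))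
      (key _ (by decide))⟩
  · obtain ⟨k, -, hk⟩ := hβ.ee hi
    exact ⟨k, by rw [e _ ((qt_ee' i).2 hi)]; exact hk⟩

end Fus

theorem fusM {W : Set M4} (mul : ∀ θ ∈ W, ∀ η ∈ W, θ * η ∈ W) (inv : ∀ θ ∈ W, ∃ η ∈ W, θ * η = 1 ∧ η * θ = 1)
    (iso : ∀ β, Iso0 β → β ∈ W) (stab : ∀ θ ∈ W, θ *ᵥ ee 0 = ee 0 → Iso0 θ) :
    (∀ θ ∈ W, Aff θ) ∨ thm ∈ W ∨ ((∀ θ ∈ W, Sim θ) ∧ p01 ∈ W ∧ ((∀ θ ∈ W, Mono θ) ∨ hF ∈ W)) := by
  by_cases ht : thm ∈ W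
  · exact Or.inr (Or.inl ht)
  by_cases ha : ∀ θ ∈ W, Aff θ
  · exact Or.inl ha
  have one : ∀ θ ∈ W, Aff θ ∨ (Sim θ ∧ p01 ∈ W ∧ (Mono θ ∨ hF ∈ W)) := fun θ hθ =>
    (fusM1 mul inv iso stab hθ).imp_right fun h => h.resolve_left ht
  have hp : p01 ∈ W := by
    by_contra hp
    exact ha fun θ hθ => (one θ hθ).resolve_right fun h => hp h.2.1
  have hs : ∀ θ ∈ W, Sim θ := fun θ hθ => by
    rcases one θ hθ with h | h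
    · obtain ⟨η, -, e, -⟩ := inv θ hθ
      have h2 := ((one _ (mul θ hθ p01 hp)).resolve_left (Fus.not_aff h e)).1.mul sim_p01
      rwa [Matrix.mul_assoc, Fus.p01_sq, Matrix.mul_one] at h2
    · exact h.1
  refine Or.inr (Or.inr ⟨hs, hp, ?_⟩)
  by_cases hf : hF ∈ W
  · exact Or.inr hf
  refine Or.inl fun θ hθ => ?_
  rcases one θ hθ with h | h
  · exact Fus.mono h (hs θ hθ)
  · exact h.2.2.resolve_right hf

theorem St.fus (h : St a ψ) : (∀ n θ, Ac a n θ → Aff θ) ∨ (∃ n, Ac a n thm) ∨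
    (SM a ψ ∧ ((∀ n θ, Ac a n θ → Mono θ) ∨ ∃ n, Ac a n hF)) := by
  have key := fusM (W := {θ | ∃ n, Ac a n θ})
    (fun θ ⟨n, hn⟩ η ⟨m, hm⟩ => ⟨n * m, hn.mul hm⟩)
    (fun θ ⟨n, hn⟩ => by
      obtain ⟨η, e1, e2, hη⟩ := h.toTA.ac_inv hn
      exact ⟨η, ⟨n⁻¹, hη⟩, e1, e2⟩)
    (fun β hβ => by
      obtain ⟨γ, hγ⟩ := h.iso0 hβ
      exact ⟨ψ γ, hγ⟩)
    (fun θ ⟨n, hn⟩ e => h.stab hn e)
  rcases key with k | k | ⟨k1, k2, k3⟩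
  · exact Or.inl fun n θ hn => k θ ⟨n, hn⟩
  · exact Or.inr (Or.inl k)
  · refine Or.inr (Or.inr ⟨⟨h, fun n θ hn => k1 θ ⟨n, hn⟩, k2⟩, ?_⟩)
    rcases k3 with k | k
    · exact Or.inl fun n θ hn => k θ ⟨n, hn⟩
    · exact Or.inr k

end Cfsg.Agent.S86
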