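import Cfsg.Agent.S86.ModL

set_option autoImplicit false

namespace Cfsg.Agent.S86

open Subgroup H49 Matrix F42
open Cfsg.Agent.L72 (O2N)

namespace MCx

open F42.SpF F42.SpS ML

theorem k_zp : cd zp = 4331029640 := by rw [zp_eq, cd_wd]; decide +kernel
theorem k_cc : cd cc = 4599202817 := by rw [cc, cm1, cm2, wd_inv, wd_mul, cd_wd]; decide +kernel
theorem k_u1 : cd u1 = 34090998983 := by rw [u1, cd_wd]; decide +kernel
theorem k_u2 : cd u2 = 25354292913 := by rw [u2, cd_wd]; decide +kernel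
theorem k_bm : cd bm = 10205270274 := by rw [bm, cd_mm, cd_mm, cd_inv, k_cc, k_u1]; decide +kernel
theorem k_sw : cd sw = 17718845697 := by rw [cd_sw]; decide +kernel
theorem k_c0 : cd (cm 0) = 34630549640 := by rw [cm0, cd_wd]; decide +kernel
theorem k_x0 : cd (xm 0) = 34630549633 := by rw [xm0, cd_wd]; decide +kernel

def LZ : List ℕ := [38957089801, 4331029640, 34630287489]

def LK : List ℕ := [34630287489, 34630549640, 34628452489]

def LW : List ℕ := [17718845697, 34630287489]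

def LQ : List ℕ := [17322484324, 19353633284, 2299600992, 19462685280, 4563812489, 2291212868, 17197703712,
  8661801218, 19486802020, 1611170064, 10271856658, 2172723748, 9131036946, 34664104968, 9194477584, 34393572489,
  17340309572, 1682475010, 9731315984, 38690489473, 1145080082, 38925631624, 38957089801, 10205270274, 4599202817,
  4331029640, 34630287489]

def LR : List ℕ := [42265718577, 51002424647, 32998940407, 49910366071, 17718845697, 25354292913, 34090998983,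
  34630287489]

theorem mZ {g : S6} : g ∈ zpowers zp ↔ cd g ∈ LZ := by
  rw [zpowers_eq_closure, show ({zp} : Set S6) = {x | x ∈ [zp]} by ext; simp]
  exact mem_clos (C := [4331029640]) (by simp only [List.map, k_zp]) (by decide +kernel)

theorem mW {g : S6} : g ∈ zpowers sw ↔ cd g ∈ LW := by
  rw [zpowers_eq_closure, show ({sw} : Set S6) = {x | x ∈ [sw]} by ext; simp]
  exact mem_clos (C := [17718845697]) (by simp only [List.map, k_sw]) (by decide +kernel)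

theorem cQ : chk [4331029640, 4599202817, 10205270274] LQ = true := by decide +kernel

theorem gQ : [zp, cc, bm].map cd = [4331029640, 4599202817, 10205270274] := by simp only [List.map, k_zp, k_cc, k_bm]

theorem mQ {g : S6} : g ∈ Qm ↔ cd g ∈ LQ := by
  rw [Qm, show ({zp, cc, bm} : Set S6) = {x | x ∈ [zp, cc, bm]} by ext; simp]
  exact mem_clos gQ cQ

theorem cR : chk [34090998983, 25354292913] LR = true := by decide +kernel

theorem gR : [u1, u2].map cd = [34090998983, 25354292913] := by simp only [List.map, k_u1, k_u2]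

theorem mR {g : S6} : g ∈ Rm ↔ cd g ∈ LR := by
  rw [Rm, show ({u1, u2} : Set S6) = {x | x ∈ [u1, u2]} by ext; simp]
  exact mem_clos gR cR

theorem p8 {γ : S6} (h1 : Commute γ sw) (h : El 2 γ) : γ ^ 8 = 1 := by
  obtain ⟨k, hk⟩ := h
  have c : (orderOf γ).Coprime 3 :=
    Nat.Coprime.coprime_dvd_left (orderOf_dvd_of_pow_eq_one hk) (Nat.Coprime.pow_left k (by norm_num))
  exact orderOf_dvd_iff_pow_eq_one.1
    (c.dvd_of_dvd_mul_left (show orderOf γ ∣ 3 * 8 from orderOf_dvd_of_pow_eq_one (s_24 h1)))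

end MCx

open F42.SpF F42.SpS ML MCx

theorem mem_Rm {γ : S6} : γ ∈ Rm ↔ γ ∈ Pset sw zp := by
  have k : (∀ m ∈ LR, m ∈ QA.map wl) ∧ ∀ m ∈ QA.map wl, m ∈ LR := by decide +kernel
  rw [mR, pp]
  exact ⟨k.1 _, k.2 _⟩

theorem mem_Rm' {γ : S6} : γ ∈ Rm' ↔ γ ∈ Pset sw zm := by
  have k1 : ∀ m ∈ LR, mm (mm 34630549633 m) (iv 34630549633) ∈ QB.map wl := by decide +kernel
  have k2 : ∀ m ∈ QB.map wl, mm (mm (iv 34630549633) m) 34630549633 ∈ LR := by decide +kernel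
  rw [SpS.pm, Rm']
  refine ⟨fun h => ?_, fun h => ?_⟩
  · obtain ⟨y, hy, rfl⟩ := mem_cj'.1 h
    rw [cd_mm, cd_mm, cd_inv, k_x0]
    exact k1 _ (mR.1 hy)
  · rw [mem_cj, mR, cd_mm, cd_mm, cd_inv, k_x0]
    exact k2 _ h

theorem two_Rm {γ : S6} (h1 : Commute γ sw) (h2 : Commute γ zp) (h : El 2 γ) : γ ∈ Rm := by
  have e := p8 h1 h
  rw [cd_eq_iff, cd_p8, cd_one] at e
  exact mR.2 (cen_sound (H := [ws, wp]) (P := fun m => s2 (s2 (s2 m)) = c1 → m ∈ LR) (by decide +kernel) (by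
    simp only [List.mem_cons, List.not_mem_nil, or_false, forall_eq_or_imp, forall_eq]
    exact ⟨sw_eq ▸ h1, zp_eq ▸ h2⟩) e)

theorem two_Rm' {γ : S6} (h1 : Commute γ sw) (h2 : Commute γ zm) (h : El 2 γ) : γ ∈ Rm' := by
  have e := p8 h1 h
  rw [cd_eq_iff, cd_p8, cd_one] at e
  exact mem_Rm'.2 (SpS.pm.2 (cen_sound (H := [ws, wm]) (P := fun m => s2 (s2 (s2 m)) = c1 → m ∈ QB.map wl)
    (by decide +kernel) (by
      simp only [List.mem_cons, List.not_mem_nil, or_false, forall_eq_or_imp, forall_eq]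
      exact ⟨sw_eq ▸ h1, zm_eq ▸ h2⟩) e))

theorem MCx.Qc : Qm ≤ 𝒞[zp] := fun q hq => by
  have k : ∀ m ∈ LQ, mm m 4331029640 = mm 4331029640 m := by decide +kernel
  rw [mem_cent1, cd_eq_iff, cd_mm, cd_mm, k_zp]
  exact k _ (mQ.1 hq)

theorem MCx.exp (q : S6) (hq : q ∈ Qm) : q ^ 3 = 1 := by
  have k : ∀ m ∈ LQ, mm m (s2 m) = c1 := by decide +kernel
  rw [pow_three, cd_eq_iff, cd_mm, cd_sq, cd_one]
  exact k _ (mQ.1 hq)

theorem MCx.comm (p : S6) (hp : p ∈ Qm) (q : S6) (hq : q ∈ Qm) : p * q * p⁻¹ * q⁻¹ ∈ zpowers zp := by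
  have k : ∀ m ∈ LQ, ∀ n ∈ LQ, mm (mm (mm m n) (s2 m)) (s2 n) ∈ LZ := by decide +kernel
  have k3 : ∀ m ∈ LQ, iv m = s2 m := by decide +kernel
  rw [mZ, cd_mm, cd_mm, cd_mm, cd_inv, cd_inv, k3 _ (mQ.1 hp), k3 _ (mQ.1 hq)]
  exact k _ (mQ.1 hp) _ (mQ.1 hq)

theorem MCx.cen (p : S6) (hp : p ∈ Qm) (h : ∀ q ∈ Qm, Commute p q) : p ∈ zpowers zp := by
  have k : ∀ m ∈ LQ, mm m 4599202817 = mm 4599202817 m → mm m 10205270274 = mm 10205270274 m → m ∈ LZ := by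
    decide +kernel
  have h1 := comm_mm.1 (h cc (subset_closure (by simp)))
  have h2 := comm_mm.1 (h bm (subset_closure (by simp)))
  rw [k_cc] at h1
  rw [k_bm] at h2
  exact mZ.2 (k _ (mQ.1 hp) h1 h2)

theorem MCx.q8 : T3.Q8 Rm sw where
  card := card_eq (L := LR) (fun _ => mR) (ex_clos gR cR) (by decide +kernel)
  mem := mR.2 (by rw [k_sw]; decide +kernel)
  ne := fun e => by rw [cd_eq_iff, k_sw, cd_one] at e; exact absurd e (by decide +kernel)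
  sq := cd_inj (by rw [cd_sq, k_sw, cd_one]; decide +kernel)
  el := fun _ ha => sP_el (.inl rfl) (mem_Rm.1 ha)

theorem MCx.Rn : Rm ≤ 𝒩(Qm) := le_norm_iff.2 fun g hg q hq => by
  have k : ∀ m ∈ LR, ∀ n ∈ LQ, mm (mm m n) (iv m) ∈ LQ := by decide +kernel
  rw [mQ, cd_mm, cd_mm, cd_inv]
  exact k _ (mR.1 hg) _ (mQ.1 hq)

theorem MCx.inv (q : S6) (hq : q ∈ Qm) : sw * q * sw⁻¹ * q ∈ zpowers zp := by
  have k : ∀ n ∈ LQ, mm (mm (mm 17718845697 n) (iv 17718845697)) n ∈ LZ := by decide +kernel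
  rw [mZ, cd_mm, cd_mm, cd_mm, cd_inv, k_sw]
  exact k _ (mQ.1 hq)

theorem MCx.tr (p : S6) (hp : p ∈ Qm) (q : S6) (hq : q ∈ Qm) (h1 : p ∉ zpowers zp) (h2 : q ∉ zpowers zp) :
    ∃ g ∈ Rm, g * p * g⁻¹ * q⁻¹ ∈ zpowers zp := by
  have k : ∀ m ∈ LQ, m ∉ LZ → ∀ n ∈ LQ, n ∉ LZ → ∃ r ∈ LR,
      mm (mm (mm r m) (mm r (s2 r))) (s2 n) ∈ LZ := by decide +kernel
  have k3 : ∀ m ∈ LQ, iv m = s2 m := by decide +kernel
  have k4 : ∀ m ∈ LR, iv m = mm m (s2 m) := by decide +kernel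
  rw [mZ] at h1 h2
  obtain ⟨r, hr, e⟩ := k _ (mQ.1 hp) h1 _ (mQ.1 hq) h2
  obtain ⟨g, rfl⟩ := ex_clos gR cR r hr
  refine ⟨g, mR.2 hr, ?_⟩
  rwa [mZ, cd_mm, cd_mm, cd_mm, cd_inv, cd_inv, k3 _ (mQ.1 hq), k4 _ hr]

theorem xq_m : XQ zp Qm Rm sw :=
  ⟨subset_closure (by simp), MCx.Qc, card_eq (L := LQ) (fun _ => mQ) (ex_clos gQ cQ) (by decide +kernel), MCx.exp,
    MCx.comm, MCx.cen, MCx.q8, fun _ hg => mem_cent1.2 (mem_Rm.1 hg).2.1.eq, MCx.Rn, MCx.inv, MCx.tr⟩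

theorem ord_zp : orderOf zp = 3 := by
  have : Fact (Nat.Prime 3) := ⟨Nat.prime_three⟩
  refine orderOf_eq_prime (xq_m.exp _ xq_m.zQ) fun e => ?_
  rw [cd_eq_iff, k_zp, cd_one] at e
  exact absurd e (by decide +kernel)

theorem cc_m : cc ∈ Qm ∧ cc ∉ zpowers zp ∧ bm ∈ Qm :=
  ⟨subset_closure (by simp), by rw [mZ, k_cc]; decide +kernel, subset_closure (by simp)⟩

theorem Qm_gen {K : Subgroup S6} (h1 : zp ∈ K) (h2 : ∀ u ∈ Rm, u * cc * u⁻¹ ∈ K) : Qm ≤ K := by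
  refine (closure_le _).2 ?_
  rintro x (rfl | rfl | rfl)
  exacts [h1, by simpa using h2 1 (one_mem _), h2 u1 (subset_closure (by simp))]

theorem dec_zp {γ : S6} (h : Commute γ zp) : ∃ q ∈ Qm, ∃ u ∈ Rm, ∃ k : ℕ, γ = q * u * cm 0 ^ k := by
  obtain ⟨c, hc, r, hr, e⟩ := cen_sound (H := [wp])
    (P := fun m => ∃ c ∈ LK, ∃ r ∈ LR, force (mm (mm m c) r) LQ.contains = true) (by decide +kernel)
    (g := γ) (by simpa only [List.mem_singleton, forall_eq, ← zp_eq] using h)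
  rw [force_eq, List.contains_iff_mem] at e
  obtain ⟨u, rfl⟩ := ex_clos gR cR r hr
  have k : ∀ c ∈ LK, ∃ k < 3, c = iv (pw 34630549640 k) := by decide +kernel
  obtain ⟨k, -, rfl⟩ := k c hc
  exact ⟨γ * (cm 0 ^ k)⁻¹ * u, mQ.2 (by rwa [cd_mm, cd_mm, cd_inv, cd_pow, k_c0]), u⁻¹, inv_mem (mR.2 hr), k, by group⟩

theorem norm_Qm : 𝒞[zp] ≤ 𝒩(Qm) := fun γ h => by
  obtain ⟨q, hq, u, hu, k, rfl⟩ := dec_zp (mem_cent1.1 h)
  refine mul_mem (mul_mem (le_normalizer hq) (xq_m.Rn hu)) (pow_mem (mem_norm_of_cj_le fun x hx => ?_) k)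
  obtain ⟨y, hy, rfl⟩ := mem_cj'.1 hx
  have k : ∀ n ∈ LQ, mm (mm 34630549640 n) (iv 34630549640) ∈ LQ := by decide +kernel
  rw [mQ, cd_mm, cd_mm, cd_inv, k_c0]
  exact k _ (mQ.1 hy)

theorem norm_Rm : 𝒞[zp] ⊓ 𝒞[sw] ≤ 𝒩(Rm) := le_norm_iff.2 fun g hg x hx => by
  have c : ∀ {y : S6}, g ∈ 𝒞[y] → Commute x y → Commute (g * x * g⁻¹) y := fun {y} h1 h2 =>
    have h : Commute g y := mem_cent1.1 h1
    (h.mul_left h2).mul_left h.inv_left
  obtain ⟨h1, h2, h3⟩ := mem_Rm.1 hx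
  exact mem_Rm.2 ⟨c hg.2 h1, c hg.1 h2, by rw [conj_pow, h3, mul_one, mul_inv_cancel]⟩

theorem Rm_nc {γ : S6} (h : γ ∈ Rm) (h1 : γ ∉ zpowers sw) : ¬ Commute γ (cm 0 * γ * (cm 0)⁻¹) ∧
    Rm ≤ Subgroup.closure {γ, cm 0 * γ * (cm 0)⁻¹} := by
  have k : ∀ m ∈ LR, m ∉ LW → ¬ mm m (mm (mm 34630549640 m) (iv 34630549640)) =
      mm (mm (mm 34630549640 m) (iv 34630549640)) m ∧ ∀ n ∈ LR, ∃ i < 4, ∃ j < 2,
        n = mm (pw m i) (pw (mm (mm 34630549640 m) (iv 34630549640)) j) := by decide +kernel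
  rw [mW] at h1
  obtain ⟨k1, k2⟩ := k _ (mR.1 h) h1
  refine ⟨by rwa [comm_mm, cd_mm, cd_mm, cd_inv, k_c0], fun x hx => ?_⟩
  obtain ⟨i, -, j, -, e⟩ := k2 _ (mR.1 hx)
  rw [cd_inj (g := x) (h := γ ^ i * (cm 0 * γ * (cm 0)⁻¹) ^ j)
    (by rwa [cd_mm, cd_pow, cd_pow, cd_mm, cd_mm, cd_inv, k_c0])]
  exact mul_mem (pow_mem (subset_closure (by simp)) i) (pow_mem (subset_closure (by simp)) j)

theorem XQ_map {A B : Type*} [Group A] [Group B] {f : A →* B} (hf : Function.Injective f) {z r : A}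
    {Q R : Subgroup A} (h : XQ z Q R r) : XQ (f z) (Q.map f) (R.map f) (f r) := by
  have z1 : ∀ {x : A}, f x ∈ zpowers (f z) ↔ x ∈ zpowers z := fun {x} => by
    rw [← MonoidHom.map_zpowers, mem_map_iff_mem hf]
  have c1 : ∀ {K : Subgroup A}, K ≤ 𝒞[z] → K.map f ≤ 𝒞[f z] := fun hK => by
    rintro _ ⟨x, hx, rfl⟩
    rw [mem_cent1, ← map_mul, ← map_mul, mem_cent1.1 (hK hx)]
  refine ⟨mem_map_of_mem f h.zQ, c1 h.Qc, (card_map_of_injective hf).trans h.card, ?_, ?_, ?_,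
    ⟨(card_map_of_injective hf).trans h.q8.card, mem_map_of_mem f h.q8.mem,
      fun e => h.q8.ne (hf (e.trans (map_one f).symm)), by rw [← map_mul, h.q8.sq, map_one], ?_⟩,
    c1 h.Rc, le_norm_iff.2 ?_, ?_, ?_⟩
  · rintro _ ⟨q, hq, rfl⟩
    rw [← map_pow, h.exp q hq, map_one]
  · rintro _ ⟨p, hp, rfl⟩ _ ⟨q, hq, rfl⟩
    simpa only [map_mul, map_inv] using z1.2 (h.comm p hp q hq)
  · rintro _ ⟨p, hp, rfl⟩ hc
    exact z1.2 (h.cen p hp fun q hq => (hc _ (mem_map_of_mem f hq)).of_map hf)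
  · rintro _ ⟨a, ha, rfl⟩
    rcases h.q8.el a ha with e | e | e
    exacts [.inl (by rw [e, map_one]), .inr (.inl (by rw [e])), .inr (.inr (by rw [← map_mul, e]))]
  · rintro _ ⟨g, hg, rfl⟩ _ ⟨q, hq, rfl⟩
    simpa only [map_mul, map_inv] using mem_map_of_mem f (conj_mem_of_norm h.Rn hg hq)
  · rintro _ ⟨q, hq, rfl⟩
    simpa only [map_mul, map_inv] using z1.2 (h.inv q hq)
  · rintro _ ⟨p, hp, rfl⟩ _ ⟨q, hq, rfl⟩ h1 h2
    obtain ⟨g, hg, e⟩ := h.tr p hp q hq (mt z1.2 h1) (mt z1.2 h2)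
    exact ⟨f g, mem_map_of_mem f hg, by simpa only [map_mul, map_inv] using z1.2 e⟩

end Cfsg.Agent.S86
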