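import Cfsg.Agent.S86.OA1
import Cfsg.Agent.H70.Syl

/-! The centraliser of `Z`. -/

set_option autoImplicit false
set_option linter.unusedSectionVars false

namespace Cfsg.Agent.S86

open Subgroup H49 Matrix F42
open Cfsg.Agent.L72 (O2N)

variable {G : Type*} [Group G] [Finite G] {a : V4 → G} {ψ ψ' : S6 →* G} {ρ : Fin 4 → G} {t : Fin 4 → Fin 4 → G}
  {e E : ℕ → G} {φ : S8 →* G}

namespace OA1b

theorem U_le {j : Fin 4} (hj : j ≠ 0) : Ug a ρ t j ≤ Zg a ρ t := by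
  fin_cases j
  · exact absurd rfl hj
  · exact le_sup_left.trans le_sup_left
  · exact le_sup_right.trans le_sup_left
  · exact le_sup_right

theorem r_mem : ρ 0 ∈ Zg a ρ t := U_le (j := 1) (by decide) (subset_closure (by simp))

theorem ex1 (k : Fin 4) : ∃ θ, Iso0 θ ∧ (θ *ᵥ zv) ⬝ᵥ sg k = 0 ∧ (θ *ᵥ cv) ⬝ᵥ sg k = 0 := by
  refine qtL_ex ?_
  revert k
  decide +kernel

theorem ex2 (l : V4) (l0 : l 0 = 0) : ∃ θ, Iso0 θ ∧ (θ *ᵥ cv) ⬝ᵥ l = 0 := by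
  refine qtL_ex ?_
  refine qt_all0 (P := fun l => (qtL.any fun θ => decide ((θ *ᵥ cv) ⬝ᵥ l = 0)) = true) ?_ l l0
  decide +kernel

theorem back {n y x : G} (h : Commute y (n * x * n⁻¹)) : Commute (n⁻¹ * y * n) x := by
  refine (qt_comm (g := n)).1 ?_
  rwa [show n * (n⁻¹ * y * n) * n⁻¹ = y by group]

theorem back0 {n y x : G} (hn : Commute n x) (h : Commute y x) : Commute (n⁻¹ * y * n) x :=
  (hn.inv_left.mul_left h).mul_left hn

theorem el {p : ℕ} {n y : G} (h : El p y) : El p (n⁻¹ * y * n) :=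
  h.imp fun k e => by rw [← inv_inv n, inv_inv n⁻¹, conj_pow, e]; simp

end OA1b

open OA1b in
theorem LC.lzB (h : LC a ρ t)
    (w3 : ∀ Y : Subgroup G, IsPGroup 2 Y → Y ≤ 𝒞[ρ 0] → Y ≤ 𝒞[a zv] → Y ≤ 𝒞[a cv] → Y ≤ zpowers (ρ 0)) :
    LZ a ρ t ∧ O2N (zpowers (ρ 0)) ≤ Zg a ρ t := by
  obtain ⟨r2, r1⟩ := h.toFS.r2 0
  obtain ⟨z1, z2, z3⟩ := h.lz0
  have QC : O2N (zpowers (ρ 0)) ≤ 𝒞[ρ 0] := norm_zp r2 ▸ L72.O2N_le _
  have k : O2N (zpowers (ρ 0)) ≤ Zg a ρ t := by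
    refine h.gen (L72.O2N_isP _) QC ((h.toFS.Ig_le.trans (norm_zp r2).ge).trans (L72.norm_O2N _)) r_mem
      (fun j hj => inf_le_right.trans (U_le hj)) fun k y hy hc => ?_
    obtain ⟨θ, hθ, e1, e2⟩ := ex1 k
    obtain ⟨n, hn, nr, -⟩ := h.toFS.iso0 hθ
    have c1 : Commute y (n * a zv * n⁻¹) := hn zv ▸ hc _ (hθ.zero _) e1
    have c2 : Commute y (n * a cv * n⁻¹) := hn cv ▸ hc _ (hθ.zero _) e2
    obtain ⟨m, hm⟩ := el (n := n) (H70.isPGroup_iff_mem.1 (L72.O2N_isP _) y hy)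
    have := w3 (zpowers (n⁻¹ * y * n)) (H70.isPGroup_iff_mem.2 fun x hx => ⟨m, by
        obtain ⟨i, rfl⟩ := mem_zpowers_iff.1 hx
        rw [← _root_.zpow_natCast, ← _root_.zpow_mul, mul_comm, _root_.zpow_mul, _root_.zpow_natCast, hm, _root_.one_zpow]⟩)
      (zpowers_le.2 (mem_cent1.2 (back0 nr (mem_cent1.1 (QC hy))))) (zpowers_le.2 (mem_cent1.2 (back c1)))
      (zpowers_le.2 (mem_cent1.2 (back c2))) (mem_zpowers _)
    have k2 := conj_mem_of_norm (norm_zp r2).ge (mem_cent1.2 nr) this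
    rw [show n * (n⁻¹ * y * n) * n⁻¹ = y by group] at k2
    exact zpowers_le.2 r_mem k2
  exact ⟨⟨h, z1, z2, z3, fun g hg => h.toGl.cen r2 r1 (hg _ r_mem).symm fun q hq => (hg _ (k hq)).symm⟩, k⟩

open OA1b in
theorem LC.lzF (h : LC a ρ t) (w5 : ∀ y, Commute y (ρ 0) → Commute y (a cv) → ∀ p, p.Prime → 5 ≤ p → El p y → y = 1)
    (w6 : ∀ y, El 3 y → Commute y (ρ 0) → (∀ u : V4, u 0 = 0 → Commute y (a u)) → y ∈ Ig a) : LZ a ρ t := by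
  obtain ⟨r2, r1⟩ := h.toFS.r2 0
  obtain ⟨z1, z2, z3⟩ := h.lz0
  have ta := h.toFS.toTA
  have f3 : Fact (Nat.Prime 3) := ⟨Nat.prime_three⟩
  have CC : 𝒞(Zg a ρ t) ≤ 𝒞[ρ 0] := cent_le_cent1 r_mem
  have nC : 𝒞[ρ 0] ≤ 𝒩(𝒞(Zg a ρ t)) := norm_cent z2
  have I3 : IsPGroup 3 (Ig a) := ta.isP.to_le ta.Ig_le
  have n3 : ¬ 3 ∣ Nat.card 𝒞(Zg a ρ t) := fun hd => by
    obtain ⟨P, hP, IP⟩ := H42.exists_sylIn I3 h.toFS.Ig_le
    have hD := hP.inf_normal CC nC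
    have ne : P ⊓ 𝒞(Zg a ρ t) ≠ ⊥ := fun e0 => by
      rw [e0] at hD
      exact hD.ndvd (by rwa [relIndex_bot_left])
    obtain ⟨y, hy, y1⟩ := (bot_or_exists_ne_one _).resolve_left (H70.inf_cent_ne_bot hD.isP I3
      (norm_inf (norm_of_le IP) (h.toFS.Ig_le.trans nC)) ne)
    obtain ⟨u, u0, rfl⟩ := ta.mem_Ig.1 (w6 y (H70.isPGroup_iff_mem.1 hD.isP y hy.1) (mem_cent1.1 (CC hy.1.2))
      fun u u0 => (hy.2 _ (ta.mem_Ig.2 ⟨u, u0, rfl⟩)).symm)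
    obtain ⟨j, hj⟩ : ∃ j, u j ≠ 0 := by
      by_contra k
      push Not at k
      exact y1 (by rw [show u = 0 from funext k, ta.zero])
    have j0 : j ≠ 0 := fun e0 => hj (e0 ▸ u0)
    exact h.toFS.move j0 u0 hj (hy.1.2 _ (U_le j0 (subset_closure (by simp)))).symm
  have n5 : ∀ p : ℕ, p.Prime → 5 ≤ p → ¬ p ∣ Nat.card 𝒞(Zg a ρ t) := fun p hp p5 hd => by
    have fp : Fact p.Prime := ⟨hp⟩
    obtain ⟨Q, -, hQ⟩ := H46.exists_invariant_sylow_ge I3 n3 (h.toFS.Ig_le.trans nC) p (R := ⊥)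
      IsPGroup.of_bot bot_le (le_top.trans norm_bot.ge)
    have hY : IsPGroup p ((Q : Subgroup 𝒞(Zg a ρ t)).map (𝒞(Zg a ρ t)).subtype) := Q.isPGroup'.map _
    have c3 : (Nat.card ((Q : Subgroup 𝒞(Zg a ρ t)).map (𝒞(Zg a ρ t)).subtype)).Coprime 3 :=
      (Nat.coprime_comm.1 (Nat.prime_three.coprime_iff_not_dvd.2 n3)).coprime_dvd_left
        (card_dvd_of_le (map_subtype_le _))
    have b := hypI (X := ⊥) ta c3 hQ fun l l0 _ y hy hc => by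
      obtain ⟨θ, hθ, e1⟩ := ex2 l l0
      obtain ⟨n, hn, nr, -⟩ := h.toFS.iso0 hθ
      have c2 : Commute y (n * a cv * n⁻¹) := hn cv ▸ hc _ (hθ.zero _) e1
      have := w5 _ (back0 nr (mem_cent1.1 (CC (map_subtype_le _ hy)))) (back c2) p hp p5
        (el (H70.isPGroup_iff_mem.1 hY y hy))
      rw [mem_bot, show y = n * (n⁻¹ * y * n) * n⁻¹ by group, this]; group
    have b2 := (map_eq_bot_iff_of_injective _ (subtype_injective _)).1 (le_bot_iff.1 b)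
    have := Q.not_dvd_index
    rw [b2, index_bot] at this
    exact this hd
  have p2 : IsPGroup 2 𝒞(Zg a ρ t) := by
    refine IsPGroup.of_card (n := _) (Nat.eq_prime_pow_of_unique_prime_dvd Nat.card_pos.ne' fun {d} hd k => ?_)
    by_contra d2
    by_cases d3 : d = 3
    · exact n3 (d3 ▸ k)
    · exact n5 d hd (hd.five_le_of_ne_two_of_ne_three d2 d3) k
  exact ⟨h, z1, z2, z3, L72.le_O2N p2 (CC.trans (norm_zp r2).ge) ((norm_zp r2).le.trans nC)⟩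

end Cfsg.Agent.S86
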