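import Cfsg.Agent.S86.SimB
import Cfsg.Agent.S86.ModC
import Cfsg.Agent.S86.OA1b

set_option autoImplicit false

namespace Cfsg.Agent.S86

open Subgroup H49 Matrix F42
open Cfsg.Agent.L72 (O2N)

variable {G : Type*} [Group G] [Finite G] {a : V4 → G} {ψ ψ' : S6 →* G} {ρ : Fin 4 → G} {t : Fin 4 → Fin 4 → G}
  {e E : ℕ → G} {φ : S8 →* G}

namespace LcF

theorem vec : sf *ᵥ ee 1 = -fv ∧ sf *ᵥ cv = -ee 0 ∧ sf *ᵥ fv = -ee 1 ∧ sf *ᵥ zv = zv ∧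
    cv = ee 2 + -ee 3 ∧ fv = ee 2 + ee 3 ∧ sf *ᵥ (-cv) = ee 0 ∧ sf *ᵥ (-fv) = ee 1 ∧ sf *ᵥ (-ee 1) = fv := by
  decide +kernel

theorem vec0 : cv 0 = 0 ∧ fv 0 = 0 ∧ zv 0 = 0 ∧ (-cv) 0 = 0 ∧ (-fv) 0 = 0 ∧ (-ee 1) 0 = 0 ∧ ee 1 0 = 0 := by
  decide +kernel

theorem split : ∀ u : V4, ∃ k < 3, ∃ w : V4, w 0 = 0 ∧ u = ((k : ℕ) : ZMod 3) • ee 0 + w := by
  intro u
  refine ⟨(u 0).val, ZMod.val_lt _, u - u 0 • ee 0, by simp [ee], ?_⟩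
  rw [ZMod.natCast_zmod_val, add_sub_cancel]

omit [Finite G] in
theorem comm {x y : G} : x ∈ 𝒞[y] ↔ Commute x y := by
  rw [mem_centralizer_singleton_iff]; rfl

omit [Finite G] in
theorem el2 {Y : Subgroup G} (hY : IsPGroup 2 Y) {y : G} (hy : y ∈ Y) : El 2 y :=
  let ⟨k, hk⟩ := hY ⟨y, hy⟩
  ⟨k, congrArg Subtype.val hk⟩

omit [Finite G] in
theorem elp {p : ℕ} (hi : Function.Injective ψ) {γ : S6} (h : El p (ψ γ)) : El p γ :=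
  let ⟨k, hk⟩ := h
  ⟨k, hi (by rw [map_pow, hk, map_one])⟩

omit [Finite G] in
theorem cpull (hi : Function.Injective ψ) {γ δ : S6} (h : Commute (ψ γ) (ψ δ)) : Commute γ δ :=
  hi (by rw [map_mul, map_mul]; exact h)

theorem aff (h : St a ψ) : ψ ff = a fv ∧ ψ zp = a zv := by
  rw [← jm_named.2.1, ← jm_named.2.2.1, h.pjm vec0.2.1, h.pjm vec0.2.2.1]
  exact ⟨rfl, rfl⟩

theorem e1 (h : St a ψ) : tw a sf (ee 1) = ψ ff⁻¹ := by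
  rw [tw, vec.1, h.toTA.neg, map_inv, (aff h).1]

omit [Finite G] in
theorem ec (h : St a ψ) : tw a sf cv = (a (ee 0))⁻¹ := by
  rw [tw, vec.2.1, h.toTA.neg]

omit [Finite G] in
theorem ef (h : St a ψ) : tw a sf fv = (ψ (cm 0))⁻¹ := by
  rw [tw, vec.2.2.1, h.toTA.neg, h.c]; rfl

theorem ez (h : St a ψ) : tw a sf zv = ψ zp := by
  rw [tw, vec.2.2.2.1, (aff h).2]

omit [Finite G] in
theorem mb (h : St a ψ) : a (ee 0) ∈ Ig (tw a sf) :=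
  (h.toTA.tw sim_sf).mem_Ig.2 ⟨-cv, vec0.2.2.2.1, by rw [tw, vec.2.2.2.2.2.2.1]⟩

omit [Finite G] in
theorem mc (h : St a ψ) : ψ (cm 0) ∈ Ig (tw a sf) :=
  (h.toTA.tw sim_sf).mem_Ig.2 ⟨-fv, vec0.2.2.2.2.1, by rw [tw, vec.2.2.2.2.2.2.2.1, h.c]; rfl⟩

theorem mf (h : St a ψ) : ψ ff ∈ Ig (tw a sf) :=
  (h.toTA.tw sim_sf).mem_Ig.2 ⟨-ee 1, vec0.2.2.2.2.2.1, by rw [tw, vec.2.2.2.2.2.2.2.2, (aff h).1]⟩

theorem vmem : sw1 * tq ∈ Vset sw (cm 0) (cm 1 * cm 2)⁻¹ := by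
  rw [vq_eq.1, sV]; simp

omit [Finite G] in
theorem cjm {Y : Subgroup G} {n y : G} (hn : n ∈ 𝒩(Y)) (hy : y ∈ Y) : n * y * n⁻¹ ∈ Y :=
  (mem_normalizer_iff.1 hn y).1 hy

/-- elements of a 2-subgroup of `C(b, ψ sw)` -/
theorem pull (h : St a ψ) {Y : Subgroup G} (hY : IsPGroup 2 Y) (h0 : Y ≤ 𝒞[ψ sw]) (hc : Y ≤ 𝒞[tw a sf cv])
    {y : G} (hy : y ∈ Y) : ∃ γ, El 2 γ ∧ Commute γ sw ∧ y = ψ γ := by
  have k := comm.1 (hc hy)
  rw [ec h] at k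
  obtain ⟨γ, h2, rfl⟩ := h.two (el2 hY hy) (by simpa using k)
  exact ⟨γ, h2, cpull h.ψi (comm.1 (h0 hy)), rfl⟩

theorem prod (h : St a ψ) {Y : Subgroup G} (hY : IsPGroup 2 Y) {γ c : S6} (hy : ψ γ ∈ Y) (hn : ψ c ∈ 𝒩(Y)) :
    El 2 (γ * (c * γ * c⁻¹)) := by
  refine elp h.ψi (el2 hY ?_)
  rw [map_mul, map_mul, map_mul, map_inv]
  exact mul_mem hy (cjm hn hy)

theorem w1 (h : St a ψ) (Y : Subgroup G) (hY : IsPGroup 2 Y) (h0 : Y ≤ 𝒞[ψ sw]) (hn : Ig (tw a sf) ≤ 𝒩(Y))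
    (h2 : Y ≤ 𝒞[tw a sf (ee 2)]) (h3 : Y ≤ 𝒞[tw a sf (ee 3)]) :
    Y ≤ Subgroup.closure {ψ sw, ψ sw1 * ψ tq, tw a sf (ee 1) * (ψ sw1 * ψ tq) * (tw a sf (ee 1))⁻¹} := by
  have ta := h.toTA.tw sim_sf
  intro y hy
  have hc : Y ≤ 𝒞[tw a sf cv] := fun y hy => comm.2 (by
    rw [vec.2.2.2.2.1, ta.add, ta.neg]
    exact (comm.1 (h2 hy)).mul_right (comm.1 (h3 hy)).inv_right)
  have hf : Commute y (tw a sf fv) := by
    rw [vec.2.2.2.2.2.1, ta.add]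
    exact (comm.1 (h2 hy)).mul_right (comm.1 (h3 hy))
  obtain ⟨γ, g2, gs, rfl⟩ := pull h hY h0 hc hy
  rw [ef h] at hf
  have := mW1' (cpull h.ψi (by simpa using hf)) gs g2
    (prod h hY hy (by rw [map_inv]; exact inv_mem (hn (mf h))))
  have m := mem_map_of_mem ψ this
  rw [MonoidHom.map_closure] at m
  refine closure_mono ?_ m
  rw [e1 h]
  simp only [Set.image_insert_eq, Set.image_singleton, map_mul, map_inv]
  exact subset_rfl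

theorem w2 (h : St a ψ) (Y : Subgroup G) (hY : IsPGroup 2 Y) (h0 : Y ≤ 𝒞[ψ sw]) (hn : Ig (tw a sf) ≤ 𝒩(Y))
    (h2 : Y ≤ 𝒞[tw a sf (ee 1)]) (h3 : Y ≤ 𝒞[tw a sf cv]) : Y ≤ zpowers (ψ sw) := by
  intro y hy
  obtain ⟨γ, g2, gs, rfl⟩ := pull h hY h0 h3 hy
  have k := comm.1 (h2 hy)
  rw [e1 h] at k
  rcases mW2' (by simpa using cpull h.ψi k) gs g2 (prod h hY hy (hn (mc h))) with rfl | rfl
  · rw [map_one]; exact one_mem _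
  · exact mem_zpowers _

theorem w3 (h : St a ψ) {Y : Subgroup G} (hY : IsPGroup 2 Y) (h0 : Y ≤ 𝒞[ψ sw])
    (h2 : Y ≤ 𝒞[tw a sf zv]) (h3 : Y ≤ 𝒞[tw a sf cv]) {y : G} (hy : y ∈ Y) : ∃ γ ∈ Rm, y = ψ γ := by
  obtain ⟨γ, g2, gs, rfl⟩ := pull h hY h0 h3 hy
  have k := comm.1 (h2 hy)
  rw [ez h] at k
  exact ⟨γ, two_Rm gs (cpull h.ψi k) g2, rfl⟩

theorem w3a (h : St a ψ) (Y : Subgroup G) (hY : IsPGroup 2 Y) (h0 : Y ≤ 𝒞[ψ sw]) (hn : Ig (tw a sf) ≤ 𝒩(Y))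
    (h2 : Y ≤ 𝒞[tw a sf zv]) (h3 : Y ≤ 𝒞[tw a sf cv]) (ab : Y ≤ 𝒞(Y)) : Y ≤ zpowers (ψ sw) := by
  intro y hy
  obtain ⟨γ, hγ, rfl⟩ := w3 h hY h0 h2 h3 hy
  by_cases c : γ ∈ zpowers sw
  · rw [← MonoidHom.map_zpowers]; exact mem_map_of_mem ψ c
  · refine absurd (cpull h.ψi ?_) (Rm_nc hγ c).1
    rw [map_mul, map_mul, map_inv]
    exact (ab hy _ (cjm (hn (mc h)) hy)).symm

theorem w3b (h : St a ψ) (Y : Subgroup G) (hY : IsPGroup 2 Y) (h0 : Y ≤ 𝒞[ψ sw])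
    (h2 : Y ≤ 𝒞[tw a sf zv]) (h3 : Y ≤ 𝒞[tw a sf cv]) : Y ≤ 𝒞[ψ sw1 * ψ tq] := by
  intro y hy
  obtain ⟨γ, hγ, rfl⟩ := w3 h hY h0 h2 h3 hy
  rw [← map_mul]
  exact comm.2 ((sPV_comm (Or.inl rfl) (mem_Rm.1 hγ) vmem).map ψ)

theorem ph1 (h : St a ψ) : Big (ψ sw * (ψ sw1 * ψ tq)) := by
  rw [← map_mul, ← map_mul, vq_eq.2.1]
  have r := (h.rfx 0).2
  have c : ∀ u : V4, u ⬝ᵥ ee (Fin.succ 0) = 0 → Commute (ψ (xm 0)) (a u) := fun u hu => by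
    have := r u
    rw [sv_perp hu, mul_inv_eq_iff_eq_mul] at this
    exact this
  have b : Big (ψ (xm 0)) := h.toTA.big (u := ee 0) (v := ee 2) (w := ee 3) (by decide +kernel)
    (c _ (by decide +kernel)) (c _ (by decide +kernel)) (c _ (by decide +kernel))
  refine b.conj (IsConj.symm (isConj_iff.2 ⟨ψ (wd [24, 31]), ?_⟩))
  rw [← map_inv, ← map_mul, ← map_mul, conj_a2.2.1]

theorem ph2 (h : SM a ψ) : ¬ Big (ψ sw1 * ψ tq) := by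
  rw [← map_mul]
  have c1 : ψ (cm 0) = a (ee 1) := h.c 0
  refine h.n27 (u := ee 0) (v := ee 1) (by decide +kernel) (by decide +kernel) (by decide +kernel)
    (h.bL _).symm (c1 ▸ vmem.2.1.map ψ) fun p p3 px p0 p1 => ?_
  obtain ⟨k, γ, g3, rfl⟩ := h.toSt.three p3 p0
  have f : ∀ δ, Commute (a (ee 0) ^ k * ψ γ) (ψ δ) → Commute γ δ := fun δ hδ => cpull h.ψi (by
    have := ((h.bL δ).pow_left k).inv_left.mul_left hδ
    rwa [inv_mul_cancel_left] at this)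
  have m := mem_map_of_mem ψ (mNb (f _ (c1 ▸ p1)) (f _ px) g3)
  rw [MonoidHom.map_zpowers, c1] at m
  exact mul_mem (pow_mem (subset_closure (by simp)) _)
    ((zpowers_le.2 (subset_closure (by simp)) : zpowers (a (ee 1)) ≤ _) m)

theorem w5 (h : St a ψ) (tj : TJ0 a) (y : G) (h0 : Commute y (ψ sw)) (hc : Commute y (tw a sf cv)) (p : ℕ)
    (hp : p.Prime) (h5 : 5 ≤ p) (he : El p y) : y = 1 := by
  rw [ec h] at hc
  replace hc : Commute y (a (ee 0)) := by simpa using hc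
  obtain ⟨k, γ, hk, rfl⟩ := h.cen y hc
  have kb : Commute k (a (ee 0)) := by
    have := hc.mul_left (h.bL γ).symm.inv_left
    rwa [mul_inv_cancel_right] at this
  obtain ⟨u, rfl⟩ := tj.cen k fun u => by
    obtain ⟨j, -, w, w0, rfl⟩ := split u
    rw [h.toTA.add, ← h.toTA.pow, ← h.pjm w0]
    exact (kb.pow_right _).mul_right (hk _)
  have gs : Commute γ sw := cpull h.ψi (by
    have := (hk sw).inv_left.mul_left h0
    rwa [inv_mul_cancel_left] at this)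
  have e24 : (a u * ψ γ) ^ 24 = 1 := by
    rw [(hk γ).mul_pow, ← map_pow, s_24 gs, map_one, mul_one, show 24 = 3 * 8 from rfl, pow_mul, h.toTA.cube, one_pow]
  obtain ⟨m, hm⟩ := he
  have cp : Nat.Coprime (p ^ m) 24 := Nat.Coprime.pow_left _ ((Nat.Prime.coprime_iff_not_dvd hp).2 fun d => by
    have := Nat.le_of_dvd (by norm_num) d
    interval_cases p <;> simp_all (config := {decide := true}))
  exact orderOf_eq_one_iff.1 (Nat.eq_one_of_dvd_coprimes cp (orderOf_dvd_of_pow_eq_one hm)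
    (orderOf_dvd_of_pow_eq_one e24))

theorem w6 (h : St a ψ) (y : G) (h3 : El 3 y) (h0 : Commute y (ψ sw))
    (hc : ∀ u : V4, u 0 = 0 → Commute y (tw a sf u)) : y ∈ Ig (tw a sf) := by
  have hI : ∀ x ∈ Ig (tw a sf), Commute y x := fun x hx => by
    obtain ⟨u, u0, rfl⟩ := (h.toTA.tw sim_sf).mem_Ig.1 hx
    exact hc u u0
  obtain ⟨k, γ, g3, rfl⟩ := h.three h3 (hI _ (mb h))
  have f : ∀ δ, Commute (a (ee 0) ^ k * ψ γ) (ψ δ) → Commute γ δ := fun δ hδ => cpull h.ψi (by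
    have := ((h.bL δ).pow_left k).inv_left.mul_left hδ
    rwa [inv_mul_cancel_left] at this)
  have m := mem_map_of_mem ψ (mNd (f _ (hI _ (mf h))) (f _ (hI _ (mc h))) (f _ h0) g3)
  rw [MonoidHom.map_closure] at m
  refine mul_mem (pow_mem (mb h) _) ((closure_le _).2 ?_ m)
  rintro _ ⟨x, rfl | rfl, rfl⟩
  · exact mc h
  · exact mf h

end LcF

theorem SM.lz (h : SM a ψ) (tj : TJ0 a) (fs : FS (tw a sf) ρ t) (h0 : ρ 0 = ψ sw) (h1 : ρ 1 = ψ sw1) (h2 : t 0 1 = ψ tq) :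
    LZ (tw a sf) ρ t := by
  have lc : LC (tw a sf) ρ t :=
    { toFS := fs
      toGl := h.toGl
      w1 := by rw [Ug, h0, h1, h2]; exact LcF.w1 h.toSt
      w2 := by rw [h0]; exact LcF.w2 h.toSt
      w3a := by rw [h0]; exact LcF.w3a h.toSt
      w3b := by rw [h0, h1, h2]; exact fun Y a b _ c d => LcF.w3b h.toSt Y a b c d
      ph1 := by rw [h0, h1, h2]; exact LcF.ph1 h.toSt
      ph2 := by rw [h1, h2]; exact LcF.ph2 h }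
  exact lc.lzF (by rw [h0]; exact LcF.w5 h.toSt tj) (by rw [h0]; exact LcF.w6 h.toSt)

end Cfsg.Agent.S86
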