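import Cfsg.Agent.S86.Defs

/-! Project S86 (notes/S86.md): linear maps on codes. -/

set_option autoImplicit false

namespace Cfsg.Agent.S86

open Subgroup H49 Matrix F42
open Cfsg.Agent.L72 (O2N)

namespace ModD

open F42.SpF

theorem lin {μ : ℕ → ℕ} (add : ∀ n < 64, ∀ m < 64, μ (n ^^^ m) = μ n ^^^ μ m) {n : ℕ} (hn : n < 64) :
    μ n = ap6 (μ 1) (μ 2) (μ 4) (μ 8) (μ 16) (μ 32) n := by
  have z : μ 0 = 0 := by
    have := add 0 (by norm_num) 0 (by norm_num)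
    rwa [Nat.xor_self, Nat.xor_self] at this
  have bit : ∀ v c : ℕ, μ (v % 2 * c) = v % 2 * μ c := fun v c => by
    rcases Nat.mod_two_eq_zero_or_one v with h | h <;> simp [h, z]
  conv_lhs => rw [← ap6_id n hn]
  have l : ∀ v c : ℕ, c < 64 → v % 2 * c < 64 := fun v c hc => by
    rcases Nat.mod_two_eq_zero_or_one v with h | h <;> simp [h, hc]
  have l5 := xor_lt (l (n / 16) 16 (by norm_num)) (l (n / 32) 32 (by norm_num))
  have l4 := xor_lt (l (n / 8) 8 (by norm_num)) l5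
  have l3 := xor_lt (l (n / 4) 4 (by norm_num)) l4
  have l2 := xor_lt (l (n / 2) 2 (by norm_num)) l3
  unfold ap6
  rw [add _ (l _ _ (by norm_num)) _ l2, add _ (l _ _ (by norm_num)) _ l3, add _ (l _ _ (by norm_num)) _ l4,
    add _ (l _ _ (by norm_num)) _ l5, add _ (l _ _ (by norm_num)) _ (l _ _ (by norm_num))]
  simp only [bit]

theorem tvv_lt : ∀ n < 64, ∀ v < 64, tvv n v < 64 := by decide +kernel

/-- the relations on the basis vectors -/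
def okk (x y z : ℕ) (M : ℕ → ℕ) : Bool := [8, 16, 32, 1, 2, 4].all fun n =>
  M (M n) == n && M (tvv x n) == tvv x (M n) && M (tvv y n) == tvv y (M n) &&
    M (tvv z (tvv (8 * z) n)) == tvv z (tvv (8 * z) (M n)) &&
    M (tvv (8 * x) (M (tvv (8 * x) (M (tvv (8 * x) n))))) == n &&
    M (tvv (8 * y) (M (tvv (8 * y) (M (tvv (8 * y) n))))) == n

theorem okk_congr {x y z : ℕ} (hx : x < 8) (hy : y < 8) (hz : z < 8) {μ M : ℕ → ℕ} (lt : ∀ n < 64, μ n < 64)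
    (e : ∀ n < 64, μ n = M n) (h : okk x y z μ = true) : okk x y z M = true := by
  simp only [okk, List.all_eq_true, Bool.and_eq_true, beq_iff_eq] at h ⊢
  intro n hn
  have n1 : n < 64 := by simp only [List.mem_cons, List.not_mem_nil, or_false] at hn; omega
  have t : ∀ a < 8, ∀ v < 64, tvv a v < 64 := fun a ha => tvv_lt a (by omega)
  have t8 : ∀ a < 8, ∀ v < 64, tvv (8 * a) v < 64 := fun a ha => tvv_lt _ (by omega)
  obtain ⟨⟨⟨⟨⟨h1, h2⟩, h3⟩, h4⟩, h5⟩, h6⟩ := h n hn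
  have b : ∀ a < 8, M (tvv (8 * a) (M (tvv (8 * a) (M (tvv (8 * a) n))))) =
      μ (tvv (8 * a) (μ (tvv (8 * a) (μ (tvv (8 * a) n))))) := fun a ha => by
    have s1 := t8 a ha n n1
    have s2 := t8 a ha _ (lt _ s1)
    have s3 := t8 a ha _ (lt _ s2)
    rw [← e _ s1, ← e _ s2, ← e _ s3]
  rw [b x hx, b y hy, ← e n n1, ← e _ (lt n n1), ← e _ (t x hx n n1), ← e _ (t y hy n n1),
    ← e _ (t z hz _ (t8 z hz n n1))]
  exact ⟨⟨⟨⟨⟨h1, h2⟩, h3⟩, h4⟩, h5⟩, h6⟩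

set_option synthInstance.maxSize 1000 in
theorem d0 : ∀ d < 64, tvv 4 (tvv 32 d) = d → ∀ e < 64, tvv 4 (tvv 32 e) = e → ∀ c < 64,
    okk 1 2 4 (ap6 1 2 c d e (tvv 4 (tvv 32 c))) = true → c = 4 ∧ d = 11 ∧ e = 19 := by decide +kernel

set_option synthInstance.maxSize 1000 in
theorem d1 : ∀ d < 64, tvv 2 (tvv 16 d) = d → ∀ e < 64, tvv 2 (tvv 16 e) = e → ∀ c < 64,
    okk 1 4 2 (ap6 1 c 4 d (tvv 2 (tvv 16 c)) e) = true → c = 2 ∧ d = 13 ∧ e = 37 := by decide +kernel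

set_option synthInstance.maxSize 1000 in
theorem d2 : ∀ d < 64, tvv 1 (tvv 8 d) = d → ∀ e < 64, tvv 1 (tvv 8 e) = e → ∀ c < 64,
    okk 2 4 1 (ap6 c 2 4 (tvv 1 (tvv 8 c)) d e) = true → c = 1 ∧ d = 22 ∧ e = 38 := by decide +kernel

theorem pw_lt (i : Fin 3) : 2 ^ i.val < 8 := by revert i; decide

theorem act_x (i : Fin 3) {n : ℕ} (hn : n < 64) : act (xm i) n = tvv (2 ^ i.val) n :=
  act_tvv (lt_trans (pw_lt i) (by norm_num)) hn

theorem act_y (i : Fin 3) {n : ℕ} (hn : n < 64) : act (ym i) n = tvv (8 * 2 ^ i.val) n := by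
  have := pw_lt i
  rw [ym, pow_add]
  exact act_tvv (by omega) hn

theorem act_c (i : Fin 3) {n : ℕ} (hn : n < 64) :
    act (cm i) n = tvv (2 ^ i.val) (tvv (8 * 2 ^ i.val) n) := by
  rw [cm, act_mul, act_x i (act_lt _ _), act_y i hn]

theorem fix {μ : ℕ → ℕ} (lt : ∀ n < 64, μ n < 64) (add : ∀ n < 64, ∀ m < 64, μ (n ^^^ m) = μ n ^^^ μ m)
    (sq : ∀ n < 64, μ (μ n) = n) {x : ℕ} (hx : x = 1 ∨ x = 2 ∨ x = 4)
    (c : μ (tvv x (8 * x)) = tvv x (μ (8 * x))) : μ x = x := by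
  have k1 : ∀ x < 8, (x = 1 ∨ x = 2 ∨ x = 4) → tvv x (8 * x) = x ^^^ (8 * x) := by decide +kernel
  have k2 : ∀ x < 8, ∀ a < 64, ∀ b < 64, a ^^^ b = tvv x b → a = 0 ∨ a = x := by decide +kernel
  have x8 : x < 8 := by omega
  rw [k1 x x8 hx, add _ (by omega) _ (by omega)] at c
  refine (k2 x x8 _ (lt _ (by omega)) _ (lt _ (by omega)) c).resolve_left fun e => ?_
  have z : μ 0 = 0 := by
    have := add 0 (by norm_num) 0 (by norm_num)
    rwa [Nat.xor_self, Nat.xor_self] at this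
  have := sq x (by omega)
  rw [e, z] at this
  omega

theorem w1 : ∀ n < 64, n ≠ 0 → ∃ u < 64, ∃ v < 64, tvv u (tvv v 1) = n := by decide +kernel

theorem w2 : ∀ m < 64, m ≠ 0 → m ≠ 1 → ∃ u < 64, tvv u 1 = 1 ∧ ∃ v < 64, tvv v 1 = 1 ∧
    tvv u (tvv v (if bf 1 m = 1 then 8 else 2)) = m := by decide +kernel

end ModD

open ModD F42.SpF in
theorem m4 {μ : ℕ → ℕ} (lt : ∀ n < 64, μ n < 64) (add : ∀ n < 64, ∀ m < 64, μ (n ^^^ m) = μ n ^^^ μ m)
    (sq : ∀ n < 64, μ (μ n) = n) {i j k : Fin 3} {w : ℕ}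
    (h : (i, j, k, w) ∈ [((0 : Fin 3), (1 : Fin 3), (2 : Fin 3), 3), (0, 2, 1, 5), (1, 2, 0, 6)])
    (ci : ∀ n < 64, μ (act (xm i) n) = act (xm i) (μ n)) (cj : ∀ n < 64, μ (act (xm j) n) = act (xm j) (μ n))
    (ck : ∀ n < 64, μ (act (cm k) n) = act (cm k) (μ n))
    (bi : ∀ n < 64, μ (act (ym i) (μ (act (ym i) (μ (act (ym i) n))))) = n)
    (bj : ∀ n < 64, μ (act (ym j) (μ (act (ym j) (μ (act (ym j) n))))) = n) : ∀ n < 64, μ n = act (tv w) n := by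
  have ci' : ∀ n < 64, μ (tvv (2 ^ i.val) n) = tvv (2 ^ i.val) (μ n) := fun n hn => by
    rw [← act_x i hn, ← act_x i (lt n hn), ci n hn]
  have cj' : ∀ n < 64, μ (tvv (2 ^ j.val) n) = tvv (2 ^ j.val) (μ n) := fun n hn => by
    rw [← act_x j hn, ← act_x j (lt n hn), cj n hn]
  have ck' : ∀ n < 64, μ (tvv (2 ^ k.val) (tvv (8 * 2 ^ k.val) n)) =
      tvv (2 ^ k.val) (tvv (8 * 2 ^ k.val) (μ n)) := fun n hn => by
    rw [← act_c k hn, ← act_c k (lt n hn), ck n hn]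
  have b : ∀ i : Fin 3, ∀ n < 64, μ (tvv (8 * 2 ^ i.val) (μ (tvv (8 * 2 ^ i.val) (μ (tvv (8 * 2 ^ i.val) n))))) =
      μ (act (ym i) (μ (act (ym i) (μ (act (ym i) n))))) := fun i n hn => by
    rw [act_y i (lt _ (act_lt _ _)), act_y i (lt _ (act_lt _ _)), act_y i hn]
  have o : okk (2 ^ i.val) (2 ^ j.val) (2 ^ k.val) (ap6 (μ 1) (μ 2) (μ 4) (μ 8) (μ 16) (μ 32)) = true := by
    refine okk_congr (pw_lt i) (pw_lt j) (pw_lt k) lt (fun n hn => lin add hn) ?_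
    simp only [okk, List.all_eq_true, Bool.and_eq_true, beq_iff_eq]
    intro n hn
    have n1 : n < 64 := by simp only [List.mem_cons, List.not_mem_nil, or_false] at hn; omega
    exact ⟨⟨⟨⟨⟨sq n n1, ci' n n1⟩, cj' n n1⟩, ck' n n1⟩, (b i n n1).trans (bi n n1)⟩, (b j n n1).trans (bj n n1)⟩
  have l8 := lt 8 (by norm_num)
  have l16 := lt 16 (by norm_num)
  have l32 := lt 32 (by norm_num)
  intro n hn
  rw [lin add hn]
  simp only [List.mem_cons, Prod.mk.injEq, List.not_mem_nil, or_false] at h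
  rcases h with ⟨rfl, rfl, rfl, rfl⟩ | ⟨rfl, rfl, rfl, rfl⟩ | ⟨rfl, rfl, rfl, rfl⟩
  · have f1 : μ 1 = 1 := fix lt add sq (by norm_num) (ci' 8 (by norm_num))
    have f2 : μ 2 = 2 := fix lt add sq (by norm_num) (cj' 16 (by norm_num))
    have f3 : μ 32 = tvv 4 (tvv 32 (μ 4)) := ck' 4 (by norm_num)
    rw [f1, f2, f3] at o ⊢
    obtain ⟨e1, e2, e3⟩ := d0 _ l8 (ck' 8 (by norm_num)).symm _ l16 (ck' 16 (by norm_num)).symm _
      (lt 4 (by norm_num)) o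
    rw [e1, e2, e3, act_tvv (by norm_num) hn]
    revert n; decide +kernel
  · have f1 : μ 1 = 1 := fix lt add sq (by norm_num) (ci' 8 (by norm_num))
    have f2 : μ 4 = 4 := fix lt add sq (by norm_num) (cj' 32 (by norm_num))
    have f3 : μ 16 = tvv 2 (tvv 16 (μ 2)) := ck' 2 (by norm_num)
    rw [f1, f2, f3] at o ⊢
    obtain ⟨e1, e2, e3⟩ := d1 _ l8 (ck' 8 (by norm_num)).symm _ l32 (ck' 32 (by norm_num)).symm _
      (lt 2 (by norm_num)) o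
    rw [e1, e2, e3, act_tvv (by norm_num) hn]
    revert n; decide +kernel
  · have f1 : μ 2 = 2 := fix lt add sq (by norm_num) (ci' 16 (by norm_num))
    have f2 : μ 4 = 4 := fix lt add sq (by norm_num) (cj' 32 (by norm_num))
    have f3 : μ 8 = tvv 1 (tvv 8 (μ 1)) := ck' 1 (by norm_num)
    rw [f1, f2, f3] at o ⊢
    obtain ⟨e1, e2, e3⟩ := d2 _ l16 (ck' 16 (by norm_num)).symm _ l32 (ck' 32 (by norm_num)).symm _
      (lt 1 (by norm_num)) o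
    rw [e1, e2, e3, act_tvv (by norm_num) hn]
    revert n; decide +kernel

theorem mkS {μ : ℕ → ℕ} (lt : ∀ n < 64, μ n < 64) (add : ∀ n < 64, ∀ m < 64, μ (n ^^^ m) = μ n ^^^ μ m)
    (hb : ∀ n < 64, ∀ m < 64, bf (μ n) (μ m) = bf n m) : ∃ γ : S6, ∀ n < 64, act γ n = μ n := by
  let f : (Fin 3 ⊕ Fin 3 → ZMod 2) →+ (Fin 3 ⊕ Fin 3 → ZMod 2) :=
    AddMonoidHom.mk' (fun v => vc (μ (enc v))) fun u v => by
      have e : enc (u + v) = enc u ^^^ enc v := by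
        rw [← enc_vc _ (xor_lt (enc_lt u) (enc_lt v)), vc_xor _ (enc_lt u) _ (enc_lt v), vc_enc, vc_enc]
      rw [e, add _ (enc_lt u) _ (enc_lt v), vc_xor _ (lt _ (enc_lt u)) _ (lt _ (enc_lt v))]
  obtain ⟨A, hA⟩ := H27.exists_sp_of_isometry (f.toZModLinearMap 2) fun u v => by
    apply ZMod.val_injective
    change (Cfsg.sympForm 3 (ZMod 2) (vc (μ (enc u))) (vc (μ (enc v)))).val = _
    rw [bf_vc (lt _ (enc_lt u)) (lt _ (enc_lt v)), hb _ (enc_lt u) _ (enc_lt v), ← bf_vc (enc_lt u) (enc_lt v),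
      vc_enc, vc_enc]
  refine ⟨A, fun n hn => ?_⟩
  rw [act, hA]
  change enc (vc (μ (enc (vc n)))) = _
  rw [enc_vc n hn, enc_vc _ (lt n hn)]

open ModD F42.SpF in
theorem wit1 {n : ℕ} (hn : n < 64) (h0 : n ≠ 0) : ∃ γ : S6, act γ 1 = n := by
  obtain ⟨u, hu, v, hv, e⟩ := w1 n hn h0
  exact ⟨tv u * tv v, by rw [act_mul, act_tvv hu (act_lt _ _), act_tvv hv (by norm_num), e]⟩

theorem act_ext {γ δ : S6} (h : ∀ n < 64, act γ n = act δ n) : γ = δ :=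
  H27.sp_ext fun v => by rw [← vc_enc v, ← vc_act, ← vc_act, h _ (enc_lt v)]

theorem act_one {n : ℕ} (hn : n < 64) : act 1 n = n := by
  rw [act, H27.sp_one_mulVec, enc_vc n hn]

open ModD F42.SpF in
theorem wit2 {n m : ℕ} (hn : n < 64) (hm : m < 64) (h0 : n ≠ 0) (h1 : m ≠ 0) (h : n ≠ m) :
    ∃ γ : S6, act γ 1 = n ∧ act γ (if bf n m = 1 then 8 else 2) = m := by
  obtain ⟨γ, e⟩ := wit1 hn h0
  have e1 : act γ (act γ⁻¹ m) = m := by rw [← act_mul, mul_inv_cancel, act_one hm]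
  obtain ⟨u, hu, u1, v, hv, v1, e2⟩ := w2 _ (act_lt γ⁻¹ m) (fun e0 => h1 (by rw [← e1, e0, act_zero]))
    fun e0 => h (by rw [← e1, e0, e])
  have e3 : bf n m = bf 1 (act γ⁻¹ m) := by rw [← bf_act γ (by norm_num) (act_lt _ _), e, e1]
  refine ⟨γ * (tv u * tv v), ?_, ?_⟩
  · rw [act_mul, act_mul, act_tvv hv (by norm_num), v1, act_tvv hu (by norm_num), u1, e]
  · rw [act_mul, act_mul, act_tvv hu (act_lt _ _), act_tvv hv (by split_ifs <;> norm_num), e3, e2, e1]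

end Cfsg.Agent.S86
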