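import Cfsg.Agent.S86.Fs
import Cfsg.Agent.S86.ModD

set_option autoImplicit false

namespace Cfsg.Agent.S86

open Subgroup H49 Matrix F42
open Cfsg.Agent.L72 (O2N)
open Cfsg.Agent.F42.SpF (tvv act_tvv)

variable {G : Type*} [Group G] [Finite G] {a : V4 → G} {ψ ψ' : S6 →* G} {ρ : Fin 4 → G} {t : Fin 4 → Fin 4 → G}
  {e E : ℕ → G} {φ : S8 →* G}

namespace OA2

theorem ind {P : ℕ → Prop} (h0 : P 0) (hb : ∀ i : Fin 3, P (2 ^ i.val) ∧ P (2 ^ (3 + i.val)))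
    (hx : ∀ n < 64, ∀ m < 64, P n → P m → P (n ^^^ m)) : ∀ n < 64, P n := by
  intro n
  induction n using Nat.strong_induction_on with
  | _ n ih =>
  intro hn
  rcases (by decide +kernel : ∀ n < 64, n = 0 ∨ ∃ i : Fin 3, ∃ m < n, n = m ^^^ 2 ^ i.val ∨ n = m ^^^ 2 ^ (3 + i.val))
    n hn with rfl | ⟨i, m, hm, k⟩
  · exact h0
  · have l := (by decide : ∀ i : Fin 3, 2 ^ i.val < 64 ∧ 2 ^ (3 + i.val) < 64) i
    rcases k with k | k <;> rw [k]
    exacts [hx m (hm.trans hn) _ l.1 (ih m hm (hm.trans hn)) (hb i).1,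
      hx m (hm.trans hn) _ l.2 (ih m hm (hm.trans hn)) (hb i).2]

omit [Finite G] in
theorem coord {Z : Subgroup G} (hc : Z ≤ 𝒞(Z)) (h2 : ∀ z ∈ Z, z * z = 1) {v w : Fin 3 → G} (hv : ∀ i, v i ∈ Z)
    (hw : ∀ i, w i ∈ Z) : ∃ e : ℕ → G, (∀ n, e n ∈ Z) ∧ (∀ n < 64, ∀ m < 64, e (n ^^^ m) = e n * e m) ∧
      ∀ i : Fin 3, e (2 ^ i.val) = v i ∧ e (2 ^ (3 + i.val)) = w i := by
  letI : CommGroup Z := { (inferInstance : Group Z) with
    mul_comm := fun x y => Subtype.ext (mem_centralizer_iff.1 (hc y.2) x x.2) }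
  let V : Fin 3 → Z := fun i => ⟨v i, hv i⟩
  let W : Fin 3 → Z := fun i => ⟨w i, hw i⟩
  let f : ℕ → Z := fun n => (∏ i : Fin 3, V i ^ (n / 2 ^ i.val % 2)) * ∏ i : Fin 3, W i ^ (n / 2 ^ (3 + i.val) % 2)
  have p : ∀ (x : Z) (k l : ℕ), x ^ ((k + l) % 2) = x ^ k * x ^ l := fun x k l => by
    rw [← pow_eq_pow_mod _ (show x ^ 2 = 1 from Subtype.ext (by simpa [pow_two] using h2 x x.2)), pow_add]
  have b : ∀ n < 64, ∀ m < 64, ∀ i : Fin 3, (n ^^^ m) / 2 ^ i.val % 2 = (n / 2 ^ i.val % 2 + m / 2 ^ i.val % 2) % 2 ∧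
      (n ^^^ m) / 2 ^ (3 + i.val) % 2 = (n / 2 ^ (3 + i.val) % 2 + m / 2 ^ (3 + i.val) % 2) % 2 := by decide +kernel
  refine ⟨fun n => f n, fun n => (f n).2, fun n hn m hm => ?_, fun i => ?_⟩
  · rw [← coe_mul]
    congr 1
    simp only [f, (b n hn m hm _).1, (b n hn m hm _).2, p, Finset.prod_mul_distrib]
    ac_rfl
  · fin_cases i <;> simp [f, V, W, Fin.prod_univ_three]

/-- equality modulo `r` -/
def RR (r : G) (e : ℕ → G) (x : G) (n : ℕ) : Prop := x = e n ∨ x = e n * r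

/-- `g` acts as `f` -/
def Acts (r : G) (e : ℕ → G) (g : G) (f : ℕ → ℕ) : Prop :=
  Commute g r ∧ ∀ n < 64, f n < 64 ∧ RR r e (g * e n * g⁻¹) (f n)

section
variable {r : G} (r2 : r * r = 1) (er : ∀ n, Commute (e n) r) (mul : ∀ n < 64, ∀ m < 64, e (n ^^^ m) = e n * e m)
omit [Finite G]

include mul in
theorem e_zero : e 0 = 1 := by simpa using mul 0 (by decide) 0 (by decide)

include r2 in
theorem RR.tr {x : G} {n : ℕ} (h : RR r e x n) : RR r e (x * r) n := by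
  rcases h with h | h <;> rw [h]
  exacts [Or.inr rfl, Or.inl (by rw [mul_assoc, r2, mul_one])]

include r2 er mul in
theorem RR.ml {x y : G} {n m : ℕ} (hn : n < 64) (hm : m < 64) (h : RR r e x n) (k : RR r e y m) :
    RR r e (x * y) (n ^^^ m) := by
  have b : RR r e (e n * e m) (n ^^^ m) := Or.inl (mul n hn m hm).symm
  have c : RR r e (x * e m) (n ^^^ m) := by
    rcases h with h | h <;> rw [h]
    exacts [b, by rw [mul_assoc, ← (er m).eq, ← mul_assoc]; exact b.tr r2]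
  rcases k with k | k <;> rw [k]
  exacts [c, by rw [← mul_assoc]; exact c.tr r2]

include r2 er mul in
theorem RR.uq (e0 : ∀ n < 64, e n = 1 ∨ e n = r → n = 0) {x : G} {n m : ℕ} (hn : n < 64) (hm : m < 64)
    (h : RR r e x n) (k : RR r e x m) : n = m := by
  have a := h.ml r2 er mul hn hn h
  have b := h.ml r2 er mul hn hm k
  rw [Nat.xor_self, RR, e_zero mul, one_mul] at a
  refine Nat.xor_eq_zero_iff.1 (e0 _ (xor_lt hn hm) ?_)
  rcases a with a | a <;> rcases b with b | b <;> rw [a] at b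
  · exact Or.inl b.symm
  · exact Or.inr (by rw [← mul_one (e _), ← r2, ← mul_assoc, ← b, one_mul])
  · exact Or.inr b.symm
  · exact Or.inl (mul_eq_right.1 b.symm)

include r2 in
theorem Acts.ml {g h : G} {f f' : ℕ → ℕ} (k : Acts r e g f) (k' : Acts r e h f') :
    Acts r e (g * h) fun n => f (f' n) := by
  refine ⟨k.1.mul_left k'.1, fun n hn => ⟨(k.2 _ (k'.2 n hn).1).1, ?_⟩⟩
  have b := (k.2 _ (k'.2 n hn).1).2
  rw [show g * h * e n * (g * h)⁻¹ = g * (h * e n * h⁻¹) * g⁻¹ by group]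
  rcases (k'.2 n hn).2 with c | c <;> rw [c]
  exacts [b, by rw [← mul_assoc, mul_assoc _ r, ← k.1.inv_left.eq, ← mul_assoc]; exact b.tr r2]

theorem Acts.one : Acts r e 1 fun n => n := ⟨Commute.one_left r, fun n hn => ⟨hn, Or.inl (by group)⟩⟩

include r2 er mul in
theorem Acts.uq (e0 : ∀ n < 64, e n = 1 ∨ e n = r → n = 0) {g h : G} {f f' : ℕ → ℕ} (k : Acts r e g f)
    (k' : Acts r e h f') (q : g = h) : ∀ n < 64, f n = f' n := fun n hn =>
  RR.uq r2 er mul e0 (k.2 n hn).1 (k'.2 n hn).1 (k.2 n hn).2 (q ▸ (k'.2 n hn).2)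

include mul in
theorem exact {g : G} {γ : S6} (h : ∀ i : Fin 3, g * e (2 ^ i.val) * g⁻¹ = e (act γ (2 ^ i.val)) ∧
    g * e (2 ^ (3 + i.val)) * g⁻¹ = e (act γ (2 ^ (3 + i.val)))) : ∀ n < 64, g * e n * g⁻¹ = e (act γ n) :=
  ind (by rw [act_zero, e_zero mul]; group) h fun n hn m hm a b => by
    rw [act_xor γ hn hm, mul n hn m hm, mul _ (act_lt _ _) _ (act_lt _ _), ← a, ← b, conj_mul]

end

theorem act_xm (i : Fin 3) {n : ℕ} (hn : n < 64) : act (xm i) n = tvv (2 ^ i.val) n :=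
  act_tvv ((by decide : ∀ i : Fin 3, 2 ^ i.val < 64) i) hn

theorem act_cm (i : Fin 3) {n : ℕ} (hn : n < 64) : act (cm i) n = tvv (2 ^ i.val) (tvv (2 ^ (3 + i.val)) n) := by
  rw [cm, act_mul, act_xm i (act_lt _ _), ym, act_tvv ((by decide : ∀ i : Fin 3, 2 ^ (3 + i.val) < 64) i) hn]

end OA2

open OA2 in
theorem LZ.le (h : LZ a ρ t) : ∃ e, LE a ρ t e := by
  have fs : FS a ρ t := h.toFS
  have ta : TA a := fs.toTA
  have ne : ∀ i : Fin 3, (0 : Fin 4) ≠ i.succ := fun i => (Fin.succ_ne_zero i).symm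
  have UZ : ∀ i : Fin 3, Ug a ρ t i.succ ≤ Zg a ρ t := fun i => by
    fin_cases i
    exacts [le_sup_of_le_left le_sup_left, le_sup_of_le_left le_sup_right, le_sup_right]
  have h2 : ∀ z ∈ Zg a ρ t, z * z = 1 := by
    let K : Subgroup G :=
      { carrier := {z | z ∈ Zg a ρ t ∧ z * z = 1}
        one_mem' := ⟨one_mem _, mul_one 1⟩
        mul_mem' := fun {x y} hx hy => ⟨mul_mem hx.1 hy.1, by
          rw [mul_assoc, ← mul_assoc y, mem_centralizer_iff.1 (h.zc hx.1) y hy.1, mul_assoc, hy.2, mul_one, hx.2]⟩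
        inv_mem' := fun {x} hx => ⟨inv_mem hx.1, by rw [← _root_.mul_inv_rev, hx.2, inv_one]⟩ }
    have k : ∀ i : Fin 3, Ug a ρ t i.succ ≤ K := fun i x hx => ⟨UZ i hx, (fs.U_comm (ne i).symm).2.2 x hx⟩
    exact fun z hz => ((sup_le (sup_le (k 0) (k 1)) (k 2) : Zg a ρ t ≤ K) hz).2
  let g : Fin 3 → G := fun i => a (ee i.succ)
  let v : Fin 3 → G := fun i => ρ i.succ * t 0 i.succ
  let w : Fin 3 → G := fun i => g i * v i * (g i)⁻¹
  have vU : ∀ i, v i ∈ Ug a ρ t i.succ := fun i => Subgroup.subset_closure (by simp [v])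
  have wU : ∀ i, w i ∈ Ug a ρ t i.succ := fun i => Subgroup.subset_closure (by simp [v, w, g])
  have rZ : ρ 0 ∈ Zg a ρ t := UZ 0 (Subgroup.subset_closure (by simp))
  obtain ⟨e, eZ, mul, eb⟩ := coord h.zc h2 (fun i => UZ i (vU i)) fun i => UZ i (wU i)
  have r2 := (fs.r2 0).1
  have er : ∀ n, Commute (e n) (ρ 0) := fun n => mem_centralizer_iff.1 (h.zc rZ) _ (eZ n)
  have l : ∀ i : Fin 3, 2 ^ i.val < 64 ∧ 2 ^ (3 + i.val) < 64 := by decide
  have gw : ∀ i, g i * w i * (g i)⁻¹ = e (2 ^ i.val ^^^ 2 ^ (3 + i.val)) := fun i => by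
    have n : v i * w i * (g i * g i * v i * (g i * g i)⁻¹) = 1 := fs.nr 0 i.succ (ne i)
    rw [mul _ (l i).1 _ (l i).2, (eb i).1, (eb i).2, ← inv_eq_of_mul_eq_one_right (h2 _ (mul_mem (UZ i (vU i))
      (UZ i (wU i)))), inv_eq_of_mul_eq_one_right n]
    simp only [w]; group
  have gc : ∀ i j, i ≠ j → ∀ x ∈ Ug a ρ t j.succ, g i * x * (g i)⁻¹ = x := fun i j ij x hx => by
    rw [← mem_cent1.1 (fs.U_cen (ne j).symm (u := ee i.succ) ((by decide : ∀ i : Fin 3, ee i.succ 0 = 0) i)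
      ((by decide : ∀ i j : Fin 3, i ≠ j → ee i.succ j.succ = 0) i j ij) hx), mul_inv_cancel_right]
  have ac : ∀ i, ∀ n < 64, g i * e n * (g i)⁻¹ = e (act (cm i) n) := fun i => exact mul fun j => by
    rw [act_cm i (l j).1, act_cm i (l j).2]
    by_cases ij : i = j
    · subst ij
      obtain ⟨k1, k2⟩ := (by decide +kernel : ∀ i : Fin 3,
        tvv (2 ^ i.val) (tvv (2 ^ (3 + i.val)) (2 ^ i.val)) = 2 ^ (3 + i.val) ∧
        tvv (2 ^ i.val) (tvv (2 ^ (3 + i.val)) (2 ^ (3 + i.val))) = 2 ^ i.val ^^^ 2 ^ (3 + i.val)) i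
      rw [k1, k2, ← gw, (eb i).1, (eb i).2]
      exact ⟨rfl, rfl⟩
    · obtain ⟨k1, k2⟩ := (by decide +kernel : ∀ i j : Fin 3, i ≠ j →
        tvv (2 ^ i.val) (tvv (2 ^ (3 + i.val)) (2 ^ j.val)) = 2 ^ j.val ∧
        tvv (2 ^ i.val) (tvv (2 ^ (3 + i.val)) (2 ^ (3 + j.val))) = 2 ^ (3 + j.val)) i j ij
      rw [k1, k2, (eb j).1, (eb j).2]
      exact ⟨gc i j ij _ (vU j), gc i j ij _ (wU j)⟩
  have ax : ∀ i : Fin 3, ∀ n < 64, ρ i.succ * e n * (ρ i.succ)⁻¹ = e (act (xm i) n) := fun i => exact mul fun j => by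
    have cv : ρ i.succ * v j * (ρ i.succ)⁻¹ = v j := by
      rw [((fs.rr _ _).mul_right (fs.tr 0 j.succ i.succ (ne j)).symm).eq, mul_inv_cancel_right]
    have cw : ρ i.succ * w j * (ρ i.succ)⁻¹ = a (sv (ee i.succ) (ee j.succ)) * v j * (a (sv (ee i.succ) (ee j.succ)))⁻¹ := by
      rw [← (fs.rf i.succ).2, show ρ i.succ * w j * (ρ i.succ)⁻¹ = ρ i.succ * g j * (ρ i.succ)⁻¹ *
        (ρ i.succ * v j * (ρ i.succ)⁻¹) * (ρ i.succ * g j * (ρ i.succ)⁻¹)⁻¹ by simp only [w]; group, cv]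
    rw [act_xm i (l j).1, act_xm i (l j).2]
    by_cases ij : i = j
    · subst ij
      obtain ⟨k1, k2, k3⟩ := (by decide +kernel : ∀ i : Fin 3, tvv (2 ^ i.val) (2 ^ i.val) = 2 ^ i.val ∧
        tvv (2 ^ i.val) (2 ^ (3 + i.val)) = 2 ^ i.val ^^^ 2 ^ (3 + i.val) ∧
        sv (ee i.succ) (ee i.succ) = ee i.succ + ee i.succ) i
      rw [k1, k2, ← gw, (eb i).1, (eb i).2, cw, k3, ta.add]
      exact ⟨cv, by simp only [w, g]; group⟩
    · obtain ⟨k1, k2, k3⟩ := (by decide +kernel : ∀ i j : Fin 3, i ≠ j → tvv (2 ^ i.val) (2 ^ j.val) = 2 ^ j.val ∧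
        tvv (2 ^ i.val) (2 ^ (3 + j.val)) = 2 ^ (3 + j.val) ∧ sv (ee i.succ) (ee j.succ) = ee j.succ) i j ij
      rw [k1, k2, (eb j).1, (eb j).2, cw, k3]
      exact ⟨cv, rfl⟩
  have gr : ∀ i, Commute (g i) (ρ 0) := fun i =>
    mem_cent1.1 (fs.Ig_le (ta.mem_Ig.2 ⟨ee i.succ, (by decide : ∀ i : Fin 3, ee i.succ 0 = 0) i, rfl⟩))
  have e0 : ∀ n < 64, e n = 1 ∨ e n = ρ 0 → n = 0 := fun n hn k => by
    by_contra n0
    obtain ⟨i, c⟩ := (by decide +kernel : ∀ n < 64, n ≠ 0 → ∃ i : Fin 3, ∃ m < 64,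
      m = n ^^^ tvv (2 ^ i.val) (tvv (2 ^ (3 + i.val)) n) ∧ (m = 2 ^ i.val ∨ m = 2 ^ (3 + i.val) ∨
        tvv (2 ^ i.val) (tvv (2 ^ (3 + i.val)) m) = 2 ^ i.val)) n hn n0
    obtain ⟨m, hm, c1, c2⟩ := c
    rw [← act_cm i hn] at c1
    rw [← act_cm i hm] at c2
    have b : e m = 1 := by
      rw [c1, mul n hn _ (act_lt _ _), ← ac i n hn]
      rcases k with k | k <;> rw [k]
      · group
      · rw [(gr i).eq, mul_inv_cancel_right, r2]
    refine (fs.v2 (ne i)).2 ?_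
    show v i = 1
    rcases c2 with c2 | c2 | c2
    · rw [← (eb i).1, ← c2, b]
    · rw [c2, (eb i).2] at b
      simpa [w] using b
    · rw [← (eb i).1, ← c2, ← ac i m hm, b]; group
  have mem : ∀ x, x ∈ Zg a ρ t ↔ ∃ n < 64, x = e n ∨ x = e n * ρ 0 := fun x => by
    constructor
    · let K : Subgroup G :=
        { carrier := {z | z ∈ Zg a ρ t ∧ ∃ n < 64, RR (ρ 0) e z n}
          one_mem' := ⟨one_mem _, 0, by decide, Or.inl (e_zero mul).symm⟩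
          mul_mem' := fun ⟨a1, n, hn, a2⟩ ⟨b1, m, hm, b2⟩ =>
            ⟨mul_mem a1 b1, _, xor_lt hn hm, a2.ml r2 er mul hn hm b2⟩
          inv_mem' := fun {x} hx => by rw [inv_eq_of_mul_eq_one_right (h2 x hx.1)]; exact hx }
      have k : ∀ i : Fin 3, Ug a ρ t i.succ ≤ K := fun i => (Subgroup.closure_le _).2 (by
        rintro _ (rfl | rfl | rfl)
        exacts [⟨rZ, 0, by decide, Or.inr (by rw [e_zero mul, one_mul])⟩,
          ⟨UZ i (vU i), _, (l i).1, Or.inl (eb i).1.symm⟩, ⟨UZ i (wU i), _, (l i).2, Or.inl (eb i).2.symm⟩])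
      exact fun hz => ((sup_le (sup_le (k 0) (k 1)) (k 2) : Zg a ρ t ≤ K) hz).2
    · rintro ⟨n, -, rfl | rfl⟩
      exacts [eZ n, mul_mem (eZ n) rZ]
  have Ax : ∀ i : Fin 3, Acts (ρ 0) e (ρ i.succ) (act (xm i)) := fun i =>
    ⟨fs.rr _ _, fun n hn => ⟨act_lt _ _, Or.inl (ax i n hn)⟩⟩
  have Ag : ∀ i : Fin 3, Acts (ρ 0) e (g i) (act (cm i)) := fun i =>
    ⟨gr i, fun n hn => ⟨act_lt _ _, Or.inl (ac i n hn)⟩⟩
  have Ay : ∀ i : Fin 3, Acts (ρ 0) e (ρ i.succ * g i) (act (ym i)) := fun i => by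
    have := (Ax i).ml r2 (Ag i)
    simp only [← act_mul] at this
    rwa [cm, ← mul_assoc, xm, tv_sq, one_mul] at this
  have key : ∀ {i j k : Fin 3} {x : ℕ},
      (i, j, k, x) ∈ [((0 : Fin 3), (1 : Fin 3), (2 : Fin 3), 3), (0, 2, 1, 5), (1, 2, 0, 6)] →
      i.succ ≠ j.succ → k.succ ≠ i.succ → k.succ ≠ j.succ → AZ (ρ 0) e (t i.succ j.succ) (tv x) := by
    intro i j k x hx ij ki kj
    have tt := fs.tt _ _ ij
    have tr := fs.tr _ _ 0 ij
    generalize t i.succ j.succ = s at tt tr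
    have : ∀ n < 64, ∃ m < 64, RR (ρ 0) e (s * e n * s⁻¹) m := fun n _ =>
      (mem _).1 (conj_mem_of_norm h.zn (mem_cent1.2 tr) (eZ n))
    choose! μ lt hμ using this
    have A : Acts (ρ 0) e s μ := ⟨tr, fun n hn => ⟨lt n hn, hμ n hn⟩⟩
    have cube : ∀ m : Fin 3, (s * (ρ m.succ * g m)) ^ 3 = 1 →
        ∀ n < 64, μ (act (ym m) (μ (act (ym m) (μ (act (ym m) n))))) = n := fun m c =>
      ((A.ml r2 (Ay m)).ml r2 ((A.ml r2 (Ay m)).ml r2 (A.ml r2 (Ay m)))).uq r2 er mul e0 Acts.one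
        (by rw [← pow_three, c])
    have := m4 lt (fun n hn m hm => RR.uq r2 er mul e0 (lt _ (xor_lt hn hm)) (xor_lt (lt n hn) (lt m hm))
        (hμ _ (xor_lt hn hm)) (by
          rw [mul n hn m hm, ← conj_mul]
          exact (hμ n hn).ml r2 er mul (lt n hn) (lt m hm) (hμ m hm)))
      ((A.ml r2 A).uq r2 er mul e0 Acts.one tt.sq) hx
      ((A.ml r2 (Ax i)).uq r2 er mul e0 ((Ax i).ml r2 A) tt.ci)
      ((A.ml r2 (Ax j)).uq r2 er mul e0 ((Ax j).ml r2 A) tt.cj)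
      ((A.ml r2 (Ag k)).uq r2 er mul e0 ((Ag k).ml r2 A) (tt.cg _ ki kj))
      (cube i tt.bi) (cube j tt.bj)
    intro n hn
    rw [← this n hn]
    exact hμ n hn
  exact ⟨e, h, mul, e0, mem, (eb 0).1, (eb 1).1, fun i n hn => Or.inl (ax i n hn), fun i n hn => Or.inl (ac i n hn),
    key (i := 0) (j := 1) (k := 2) (by simp) (by decide) (by decide) (by decide),
    key (i := 0) (j := 2) (k := 1) (by simp) (by decide) (by decide) (by decide),
    key (i := 1) (j := 2) (k := 0) (by simp) (by decide) (by decide) (by decide)⟩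

end Cfsg.Agent.S86
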