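import Cfsg.Agent.S86.Fs
import Cfsg.Agent.S86.ModD

/-! The copy of `Sp₆(2)` acting on `Z/⟨ρ 0⟩`. -/

set_option autoImplicit false

namespace Cfsg.Agent.S86

open Subgroup H49 Matrix F42
open Cfsg.Agent.L72 (O2N)

variable {G : Type*} [Group G] [Finite G] {a : V4 → G} {ψ ψ' : S6 →* G} {ρ : Fin 4 → G} {t : Fin 4 → Fin 4 → G}
  {e E : ℕ → G} {φ : S8 →* G}

namespace OA3

omit [Finite G] in
theorem mul {r g h : G} {γ δ : S6} (r2 : r * r = 1) (hg : Commute g r) (h1 : AZ r e g γ) (h2 : AZ r e h δ) :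
    AZ r e (g * h) (γ * δ) := fun n hn => by
  have k : g * r * g⁻¹ = r := by rw [hg.eq, mul_inv_cancel_right]
  rw [act_mul, show g * h * e n * (g * h)⁻¹ = g * (h * e n * h⁻¹) * g⁻¹ by group]
  rcases h2 n hn with c | c <;> rw [c]
  · exact h1 _ (act_lt _ _)
  · rw [← conj_mul, k]
    rcases h1 _ (act_lt δ n) with d | d <;> rw [d]
    exacts [.inr rfl, .inl (by rw [mul_assoc, r2, mul_one])]

omit [Finite G] in
theorem inv {r g : G} {γ : S6} (r2 : r * r = 1) (hg : Commute g r) (h1 : AZ r e g γ) : AZ r e g⁻¹ γ⁻¹ := fun n hn => by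
  have := h1 _ (act_lt γ⁻¹ n)
  rw [← act_mul, mul_inv_cancel, act_one hn] at this
  rcases this with c | c
  · exact .inl (by rw [← c]; group)
  · refine .inr ?_
    rw [show e n = g * e (act γ⁻¹ n) * g⁻¹ * r by rw [c, mul_assoc, r2, mul_one], mul_assoc _ g⁻¹ r, hg.inv_left.eq]
    group

/-- The graph of the action. -/
def Γ (b r : G) (e : ℕ → G) (r2 : r * r = 1) : Subgroup (G × S6) where
  carrier := {p | Commute p.1 b ∧ Commute p.1 r ∧ AZ r e p.1 p.2}
  one_mem' := ⟨Commute.one_left _, Commute.one_left _, fun n hn => .inl (by simp [act_one hn])⟩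
  mul_mem' := fun hp hq => ⟨hp.1.mul_left hq.1, hp.2.1.mul_left hq.2.1, mul r2 hp.2.1 hp.2.2 hq.2.2⟩
  inv_mem' := fun hp => ⟨hp.1.inv_left, hp.2.1.inv_left, inv r2 hp.2.1 hp.2.2⟩

theorem sv0 : ∀ i : Fin 3, sv (ee i.succ) (ee 0) = ee 0 ∧ sv (ee 0) (ee i.succ) = ee i.succ := by decide

theorem dec (u : V4) : u = u 0 • ee 0 + u 1 • ee 1 + u 2 • ee 2 + u 3 • ee 3 := by
  ext i; fin_cases i <;> simp [ee]

end OA3

open OA3 in
theorem LE.ps (h : LE a ρ t e) : ∃ ψ, PS a ρ t ψ ∧ ∀ γ, AZ (ρ 0) e (ψ γ) γ := by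
  have r2 : ρ 0 * ρ 0 = 1 := (h.rf 0).1
  have ta : TA a := h.toTA
  let K := Γ (a (ee 0)) (ρ 0) e r2
  have mx : ∀ i : Fin 3, (ρ i.succ, xm i) ∈ K := fun i =>
    ⟨mul_inv_eq_iff_eq_mul.1 (((h.rf _).2 _).trans (congrArg a (sv0 i).1)), h.rr _ _, h.ax i⟩
  have mc : ∀ i : Fin 3, (a (ee i.succ), cm i) ∈ K := fun i =>
    ⟨ta.comm _ _, Commute.symm (mul_inv_eq_iff_eq_mul.1 (((h.rf 0).2 _).trans (congrArg a (sv0 i).2))), h.ac i⟩
  have mt : ∀ {i j : Fin 4} {γ}, i ≠ j → 0 ≠ i → 0 ≠ j → AZ (ρ 0) e (t i j) γ → (t i j, γ) ∈ K :=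
    fun hij hi hj k => ⟨(h.tt _ _ hij).cg 0 hi hj, h.tr _ _ 0 hij, k⟩
  have m3 := mt (by decide) (by decide) (by decide) h.a3
  have m5 := mt (by decide) (by decide) (by decide) h.a5
  have m6 := mt (by decide) (by decide) (by decide) h.a6
  have er : ∀ n < 64, Commute (ρ 0) (e n) := fun n hn =>
    h.zc ((h.mem _).2 ⟨n, hn, .inl rfl⟩) _ (mem_sup_left (mem_sup_left (subset_closure (.inl rfl))))
  have k1 : K.comap (MonoidHom.inl G S6) = ⊥ := by
    refine h.toGl.rkA ta (fun g => ?_) ((closure_le _).2 ?_)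
    · have c : (g : G) * g ∈ 𝒞(Zg a ρ t) := fun w hw => by
        have k : ∀ n < 64, Commute ((g : G) * g) (e n) := fun n hn => by
          refine mul_inv_eq_iff_eq_mul.1 ?_
          rw [show (g : G) * g * e n * ((g : G) * g)⁻¹ = g * (g * e n * (g : G)⁻¹) * (g : G)⁻¹ by group]
          have := g.2.2.2 n hn
          rw [show (MonoidHom.inl G S6 g).2 = 1 from rfl, act_one hn] at this
          rcases this with c | c
          · exact (congrArg (fun x => (g : G) * x * (g : G)⁻¹) c).trans c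
          · refine (congrArg (fun x => (g : G) * x * (g : G)⁻¹) c).trans ?_
            rw [← conj_mul, show (g : G) * e n * (g : G)⁻¹ = e n * ρ 0 from c,
              show (g : G) * ρ 0 = ρ 0 * g from g.2.2.1, mul_inv_cancel_right, mul_assoc, r2, mul_one]
        obtain ⟨n, hn, rfl | rfl⟩ := (h.mem w).1 hw
        exacts [(k n hn).symm, ((k n hn).mul_right (Commute.mul_left g.2.2.1 g.2.2.1)).symm]
      obtain ⟨k, hk⟩ := L72.O2N_isP _ ⟨_, h.cz c⟩
      exact ⟨k + 1, Subtype.ext (by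
        rw [pow_succ', coe_pow, pow_mul, pow_two]; exact congrArg Subtype.val hk)⟩
    · have k : ∀ i, a (ee i) ∈ 𝒩(K.comap (MonoidHom.inl G S6)) := fun i =>
        Subgroup.mem_normalizer_fintype fun g hg => by
          refine i.cases ?_ fun i => ?_
          · rwa [← (show Commute g (a (ee 0)) from hg.1).eq, mul_inv_cancel_right]
          · have := mul_mem (mul_mem (mc i) (show (g, 1) ∈ K from hg)) (inv_mem (mc i))
            show (_, (1 : S6)) ∈ K
            simpa using this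
      rintro _ ⟨u, rfl⟩
      rw [dec u, ta.add, ta.add, ta.add, ta.smul, ta.smul, ta.smul, ta.smul]
      exact mul_mem (mul_mem (mul_mem (pow_mem (k 0) _) (pow_mem (k 1) _)) (pow_mem (k 2) _)) (pow_mem (k 3) _)
  let p : K →* S6 := (MonoidHom.snd G S6).comp K.subtype
  have pb : Function.Bijective p := by
    refine ⟨(injective_iff_map_eq_one p).2 ?_, MonoidHom.range_eq_top.1 (eq_top_iff.2 ?_)⟩
    · rintro ⟨⟨g, γ⟩, hg⟩ (rfl : γ = 1)
      exact Subtype.ext (Prod.ext (mem_bot.1 (k1.le hg)) rfl)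
    · have hy : ∀ i, ym i ∈ p.range := fun i => ⟨⟨_, mul_mem (mx i) (mc i)⟩, by
        show xm i * cm i = ym i
        rw [cm, ← mul_assoc, xm, tv_sq, one_mul]⟩
      have hx : ∀ i, xm i ∈ p.range := fun i => ⟨⟨_, mx i⟩, rfl⟩
      rw [← gen_S, closure_le]
      rintro _ (rfl | rfl | rfl | rfl | rfl | rfl | rfl | rfl)
      exacts [hx 0, hy 0, hx 1, hy 1, hx 2, hy 2, ⟨⟨_, m3⟩, rfl⟩, ⟨⟨_, m6⟩, rfl⟩]
  let q := MulEquiv.ofBijective p pb
  let f : S6 →* G := ((MonoidHom.fst G S6).comp K.subtype).comp q.symm.toMonoidHom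
  have f1 : ∀ γ, (f γ, γ) ∈ K := fun γ => by
    have : (q.symm γ : G × S6).2 = γ := q.apply_symm_apply γ
    exact (congrArg (fun x => (f γ, x) ∈ K) this).mp (q.symm γ).2
  have f2 : ∀ {g γ}, (g, γ) ∈ K → f γ = g := fun {g γ} k =>
    congrArg (fun x : K => (x : G × S6).1) (q.symm_apply_apply ⟨_, k⟩)
  refine ⟨f, ⟨(injective_iff_map_eq_one f).2 fun γ c => act_ext fun n hn => ?_, fun i => f2 (mc i), fun i => f2 (mx i),
    f2 m3, f2 m5, f2 m6, fun γ => (f1 γ).1.symm, fun γ => (f1 γ).2.1.symm⟩, fun γ => (f1 γ).2.2⟩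
  have e0 : e 0 = 1 := by simpa using h.mul 0 (by decide) 0 (by decide)
  have ee2 : e (act γ n) * e (act γ n) = 1 := by rw [← h.mul _ (act_lt γ n) _ (act_lt γ n), Nat.xor_self, e0]
  have := (f1 γ).2.2 n hn
  rw [show (f γ, γ).1 = 1 from c, one_mul, inv_one, mul_one] at this
  rw [act_one hn]
  refine Nat.eq_of_xor_eq_zero (h.e0 _ (xor_lt (act_lt γ n) hn) ?_)
  rw [h.mul _ (act_lt γ n) _ hn]
  exact this.imp (fun c => by rw [c, ee2]) fun c => by rw [c, ← mul_assoc, ee2, one_mul]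

end Cfsg.Agent.S86
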