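import Cfsg.Agent.S86.Defs

set_option autoImplicit false

namespace Cfsg.Agent.S86

open Subgroup H49 Matrix F42
open Cfsg.Agent.L72 (O2N)

namespace ModB

open SpF SpS

/-- the cube -/
def cb (m : ℕ) : ℕ := force m fun a => mm a (mf a a)

/-- the power `2 ^ 9` -/
def e2 (m : ℕ) : ℕ := s2 (s2 (s2 (s2 (s2 (s2 (s2 (s2 (s2 m))))))))

/-- the power `3 ^ 4` -/
def e3 (m : ℕ) : ℕ := cb (cb (cb (cb m)))

theorem cd_cb (g : S6) : cd (g ^ 3) = cb (cd g) := by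
  rw [pow_three, cd_mm, cd_mf, cb, force_eq]

theorem cd_two (g : S6) : cd (g ^ 2) = s2 (cd g) := by rw [pow_two, cd_sq]

theorem el_pow {p n : ℕ} (hp : p.Prime) (hn : ¬ p ^ (n + 1) ∣ 1451520) {g : S6} (h : El p g) : g ^ p ^ n = 1 := by
  obtain ⟨k, hk⟩ := h
  obtain ⟨j, -, hj⟩ := (Nat.dvd_prime_pow hp).1 (orderOf_dvd_of_pow_eq_one hk)
  have h1 := orderOf_dvd_natCard g
  rw [card_S6, hj] at h1
  refine orderOf_dvd_iff_pow_eq_one.1 ?_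
  rw [hj]
  refine pow_dvd_pow _ (not_lt.1 fun hl => hn ((pow_dvd_pow _ hl).trans h1))

theorem el2 {g : S6} (h : El 2 g) : e2 (cd g) = c1 := by
  have := el_pow (n := 9) Nat.prime_two (by norm_num) h
  rw [show 2 ^ 9 = 2 * 2 * 2 * 2 * 2 * 2 * 2 * 2 * 2 from rfl] at this
  simp only [pow_mul] at this
  rw [cd_eq_iff, cd_one] at this
  simpa only [cd_two, e2] using this

theorem el3 {g : S6} (h : El 3 g) : e3 (cd g) = c1 := by
  have := el_pow (n := 4) Nat.prime_three (by norm_num) h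
  rw [show 3 ^ 4 = 3 * 3 * 3 * 3 from rfl] at this
  simp only [pow_mul] at this
  rw [cd_eq_iff, cd_one] at this
  simpa only [cd_cb, e3] using this

theorem cb_one {g : S6} (h : g ^ 3 = 1) : cb (cd g) = c1 := by rw [← cd_cb, h, cd_one]

theorem sq_one {g : S6} (h : g * g = 1) : s2 (cd g) = c1 := by rw [← cd_sq, h, cd_one]

theorem wd_flat {K : Subgroup S6} {l : List (List ℕ)} (h : ∀ w ∈ l, wd w ∈ K) : wd l.flatten ∈ K := by
  induction l with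
  | nil => exact one_mem K
  | cons w l ih =>
    rw [List.flatten_cons, ← wd_mul]
    exact mul_mem (h w List.mem_cons_self) (ih fun v hv => h v (List.mem_cons_of_mem _ hv))

theorem mem_of {K : Subgroup S6} {L : List (List ℕ)} {g : S6} (hg : ∃ l ∈ L.sublists, cd g = wl l.flatten)
    (h : ∀ w ∈ L, wd w ∈ K) : g ∈ K := by
  obtain ⟨l, hl, e⟩ := hg
  rw [← cd_wd, ← cd_eq_iff] at e
  rw [e]
  exact wd_flat fun w hw => h w ((List.mem_sublists.1 hl).subset hw)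

theorem tv_wd (n : ℕ) : tv n = wd [n] := (mul_one _).symm

theorem sw_w : sw = wd [6, 48, 54] := sw_eq

theorem zp_w : zp = wd [1, 8, 32, 4, 16, 2] := zp_eq

theorem sw1_w : sw1 = wd [6, 48, 54, 2, 4] := by rw [sw1, sw_w, xm1, xm2, wd_mul, wd_mul]; rfl

theorem cc_w : cc = wd [2, 16, 32, 4] := by rw [cc, cm1, cm2, wd_inv, wd_mul]; rfl

theorem ff_w : ff = wd [2, 16, 4, 32] := by rw [ff, cm1, cm2, wd_mul]; rfl

theorem tq_w : tq = wd [2, 4, 6] := wd_em 2 4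

theorem c2 {γ : S6} {a b : List ℕ} (h1 : Commute γ (wd a)) (h2 : Commute γ (wd b)) :
    ∀ l ∈ [a, b], Commute γ (wd l) := by
  simp only [List.mem_cons, List.not_mem_nil, or_false, forall_eq_or_imp, forall_eq]
  exact ⟨h1, h2⟩

theorem c3 {γ : S6} {a b c : List ℕ} (h1 : Commute γ (wd a)) (h2 : Commute γ (wd b)) (h3 : Commute γ (wd c)) :
    ∀ l ∈ [a, b, c], Commute γ (wd l) := by
  simp only [List.mem_cons, List.not_mem_nil, or_false, forall_eq_or_imp, forall_eq]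
  exact ⟨h1, h2, h3⟩

/-- the code of `γ · γ^c` -/
def tw2 (m : ℕ) (l : List ℕ) : ℕ := mm m (mm (mm (wl l) m) (wl l.reverse))

theorem el2' {γ : S6} {l : List ℕ} (h : El 2 (γ * (wd l * γ * (wd l)⁻¹))) : e2 (tw2 (cd γ) l) = c1 := by
  have := el2 h
  rwa [wd_inv, cd_mm, cd_mm, cd_mm, cd_wd, cd_wd] at this

theorem cb' {γ : S6} {l : List ℕ} (h : (γ * wd l) ^ 3 = 1) : cb (mm (cd γ) (wl l)) = c1 := by
  have := cb_one h
  rwa [cd_mm, cd_wd] at this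

theorem two_mem {γ : S6} (h1 : Commute γ (cm 1)) (h2 : Commute γ (cm 2)) (e : El 2 γ) :
    cd γ ∈ [c1, wl [1], wl [8], wl [9]] := by
  rw [cm1] at h1
  rw [cm2] at h2
  exact cen_sound (H := [[2, 16], [4, 32]]) (P := fun m => e2 m = c1 → m ∈ [c1, wl [1], wl [8], wl [9]])
    (by decide +kernel) (c2 h1 h2) (el2 e)

/-- the test for `mR` -/
def rB (m a b : ℕ) : Bool := !(s2 (mm m (wl [a]))).beq c1 ||
  [0, 1, 2].any fun k => (mm m (wl [a])).beq (mm (mm (pw (wl [a, b]) k) (wl [a])) (iv (pw (wl [a, b]) k)))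

end ModB

open ModB SpF SpS

theorem mT {γ : S6} (h0 : Commute γ (cm 0)) (h2 : γ * γ = 1) (h3 : Commute γ (xm 1)) (h4 : Commute γ (xm 2))
    (h5 : (γ * (xm 1 * cm 1)) ^ 3 = 1) (h6 : (γ * (xm 2 * cm 2)) ^ 3 = 1) : γ = tv 6 := by
  rw [cm0] at h0
  rw [xm1] at h3
  rw [xm2] at h4
  rw [xm1, cm1, wd_mul] at h5
  rw [xm2, cm2, wd_mul] at h6
  rw [tv_wd, cd_eq_iff, cd_wd]
  exact cen_sound (H := [[1, 8], [2], [4]]) (P := fun m => s2 m = c1 → cb (mm m (wl ([2] ++ [2, 16]))) = c1 →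
    cb (mm m (wl ([4] ++ [4, 32]))) = c1 → m = wl [6]) (by decide +kernel) (c3 h0 h3 h4) (sq_one h2) (cb' h5) (cb' h6)

theorem mT' {γ : S6} (h0 : Commute γ (cm 0)) (h2 : γ * γ = 1) (h3 : Commute γ sw) (h4 : Commute γ sw1)
    (h5 : (γ * (sw * cc)) ^ 3 = 1) (h6 : (γ * (sw1 * ff⁻¹)) ^ 3 = 1) : γ = tq := by
  rw [cm0] at h0
  rw [sw_w] at h3
  rw [sw1_w] at h4
  rw [sw_w, cc_w, wd_mul] at h5
  rw [sw1_w, ff_w, wd_inv, wd_mul] at h6
  rw [tq_w, cd_eq_iff, cd_wd]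
  exact cen_sound (H := [[1, 8], [6, 48, 54], [6, 48, 54, 2, 4]]) (P := fun m => s2 m = c1 →
    cb (mm m (wl ([6, 48, 54] ++ [2, 16, 32, 4]))) = c1 →
    cb (mm m (wl ([6, 48, 54, 2, 4] ++ [2, 16, 4, 32].reverse))) = c1 → m = wl [2, 4, 6]) (by decide +kernel)
    (c3 h0 h3 h4) (sq_one h2) (cb' h5) (cb' h6)

theorem mW1 {γ : S6} (h0 : Commute γ (cm 2)) (h1 : Commute γ (xm 0)) (h2 : El 2 γ)
    (h3 : El 2 (γ * (cm 1 * γ * (cm 1)⁻¹))) :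
    γ ∈ Subgroup.closure {xm 0, xm 1 * tv 3, cm 1 * (xm 1 * tv 3) * (cm 1)⁻¹} := by
  rw [cm2] at h0
  rw [xm0] at h1
  rw [cm1] at h3
  refine mem_of (L := [[1], [2] ++ [3], [2, 16] ++ ([2] ++ [3]) ++ [2, 16].reverse])
    (cen_sound (H := [[4, 32], [1]]) (P := fun m => e2 m = c1 → e2 (tw2 m [2, 16]) = c1 →
      ∃ l ∈ [[1], [2] ++ [3], [2, 16] ++ ([2] ++ [3]) ++ [2, 16].reverse].sublists, m = wl l.flatten)
      (by decide +kernel) (c2 h0 h1) (el2 h2) (el2' h3)) fun w hw => Subgroup.subset_closure ?_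
  simp only [xm0, xm1, cm1, tv_wd, wd_inv, wd_mul]
  simp only [List.mem_cons, List.not_mem_nil, or_false] at hw
  rcases hw with rfl | rfl | rfl
  exacts [Or.inl rfl, Or.inr (Or.inl rfl), Or.inr (Or.inr rfl)]

theorem mW1' {γ : S6} (h0 : Commute γ (cm 0)) (h1 : Commute γ sw) (h2 : El 2 γ)
    (h3 : El 2 (γ * (ff⁻¹ * γ * ff⁻¹⁻¹))) : γ ∈ Subgroup.closure {sw, sw1 * tq, ff⁻¹ * (sw1 * tq) * ff⁻¹⁻¹} := by
  rw [cm0] at h0
  rw [sw_w] at h1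
  rw [ff_w, wd_inv] at h3
  refine mem_of (L := [[6, 48, 54], [6, 48, 54, 2, 4] ++ [2, 4, 6],
    [2, 16, 4, 32].reverse ++ ([6, 48, 54, 2, 4] ++ [2, 4, 6]) ++ [2, 16, 4, 32].reverse.reverse])
    (cen_sound (H := [[1, 8], [6, 48, 54]]) (P := fun m => e2 m = c1 → e2 (tw2 m [2, 16, 4, 32].reverse) = c1 →
      ∃ l ∈ [[6, 48, 54], [6, 48, 54, 2, 4] ++ [2, 4, 6],
        [2, 16, 4, 32].reverse ++ ([6, 48, 54, 2, 4] ++ [2, 4, 6]) ++ [2, 16, 4, 32].reverse.reverse].sublists,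
        m = wl l.flatten)
      (by decide +kernel) (c2 h0 h1) (el2 h2) (el2' h3)) fun w hw => Subgroup.subset_closure ?_
  simp only [sw_w, sw1_w, tq_w, ff_w, wd_inv, wd_mul]
  simp only [List.mem_cons, List.not_mem_nil, or_false] at hw
  rcases hw with rfl | rfl | rfl
  exacts [Or.inl rfl, Or.inr (Or.inl rfl), Or.inr (Or.inr rfl)]

theorem mW2 {γ : S6} (h0 : Commute γ cc) (h1 : Commute γ (xm 0)) (h2 : El 2 γ)
    (h3 : El 2 (γ * (cm 1 * γ * (cm 1)⁻¹))) : γ = 1 ∨ γ = xm 0 := by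
  rw [cc_w] at h0
  rw [xm0] at h1 ⊢
  rw [cm1] at h3
  rw [cd_eq_iff, cd_eq_iff, cd_one, cd_wd]
  exact cen_sound (H := [[2, 16, 32, 4], [1]]) (P := fun m => e2 m = c1 → e2 (tw2 m [2, 16]) = c1 →
    m = c1 ∨ m = wl [1]) (by decide +kernel) (c2 h0 h1) (el2 h2) (el2' h3)

theorem mW2' {γ : S6} (h0 : Commute γ ff) (h1 : Commute γ sw) (h2 : El 2 γ)
    (h3 : El 2 (γ * (cm 0 * γ * (cm 0)⁻¹))) : γ = 1 ∨ γ = sw := by
  rw [ff_w] at h0
  rw [sw_w] at h1 ⊢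
  rw [cm0] at h3
  rw [cd_eq_iff, cd_eq_iff, cd_one, cd_wd]
  exact cen_sound (H := [[2, 16, 4, 32], [6, 48, 54]]) (P := fun m => e2 m = c1 → e2 (tw2 m [1, 8]) = c1 →
    m = c1 ∨ m = wl [6, 48, 54]) (by decide +kernel) (c2 h0 h1) (el2 h2) (el2' h3)

theorem mNa {γ : S6} (h0 : Commute γ (cm 2)) (h1 : Commute γ (xm 1 * tv 3)) (h : El 3 γ) : γ ∈ zpowers (cm 2) := by
  rw [cm2] at h0 ⊢
  rw [xm1, tv_wd, wd_mul] at h1
  refine mem_of (L := [[4, 32], [4, 32]]) (cen_sound (H := [[4, 32], [2] ++ [3]]) (P := fun m => e3 m = c1 →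
    ∃ l ∈ [[4, 32], [4, 32]].sublists, m = wl l.flatten) (by decide +kernel) (c2 h0 h1) (el3 h)) fun w hw => ?_
  simp only [List.mem_cons, List.not_mem_nil, or_false, or_self] at hw
  rw [hw]; exact mem_zpowers _

theorem mNb {γ : S6} (h0 : Commute γ (cm 0)) (h1 : Commute γ (sw1 * tq)) (h : El 3 γ) : γ ∈ zpowers (cm 0) := by
  rw [cm0] at h0 ⊢
  rw [sw1_w, tq_w, wd_mul] at h1
  refine mem_of (L := [[1, 8], [1, 8]]) (cen_sound (H := [[1, 8], [6, 48, 54, 2, 4] ++ [2, 4, 6]])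
    (P := fun m => e3 m = c1 → ∃ l ∈ [[1, 8], [1, 8]].sublists, m = wl l.flatten) (by decide +kernel) (c2 h0 h1)
    (el3 h)) fun w hw => ?_
  simp only [List.mem_cons, List.not_mem_nil, or_false, or_self] at hw
  rw [hw]; exact mem_zpowers _

theorem mNc {γ : S6} (h0 : Commute γ ff) (h1 : Commute γ (xm 0 * sw)) (h : El 3 γ) : γ ∈ zpowers ff := by
  rw [ff_w] at h0 ⊢
  rw [xm0, sw_w, wd_mul] at h1
  refine mem_of (L := [[2, 16, 4, 32], [2, 16, 4, 32]]) (cen_sound (H := [[2, 16, 4, 32], [1] ++ [6, 48, 54]])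
    (P := fun m => e3 m = c1 → ∃ l ∈ [[2, 16, 4, 32], [2, 16, 4, 32]].sublists, m = wl l.flatten)
    (by decide +kernel) (c2 h0 h1) (el3 h)) fun w hw => ?_
  simp only [List.mem_cons, List.not_mem_nil, or_false, or_self] at hw
  rw [hw]; exact mem_zpowers _

theorem mNd {γ : S6} (h0 : Commute γ ff) (h1 : Commute γ (cm 0)) (h2 : Commute γ sw) (h : El 3 γ) :
    γ ∈ Subgroup.closure {cm 0, ff} := by
  rw [ff_w] at h0 ⊢
  rw [cm0] at h1 ⊢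
  rw [sw_w] at h2
  refine mem_of (L := [[1, 8], [1, 8], [2, 16, 4, 32], [2, 16, 4, 32]])
    (cen_sound (H := [[2, 16, 4, 32], [1, 8], [6, 48, 54]]) (P := fun m => e3 m = c1 →
      ∃ l ∈ [[1, 8], [1, 8], [2, 16, 4, 32], [2, 16, 4, 32]].sublists, m = wl l.flatten)
    (by decide +kernel) (c3 h0 h1 h2) (el3 h)) fun w hw => Subgroup.subset_closure ?_
  simp only [List.mem_cons, List.not_mem_nil, or_false] at hw
  rcases hw with rfl | rfl | rfl | rfl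
  exacts [Or.inl rfl, Or.inl rfl, Or.inr rfl, Or.inr rfl]

theorem mZ {γ : S6} (h0 : Commute γ zp) (h1 : Commute γ cc) (h : El 2 γ) : γ = 1 := by
  rw [zp_w] at h0
  rw [cc_w] at h1
  rw [cd_eq_iff, cd_one]
  exact cen_sound (H := [[1, 8, 32, 4, 16, 2], [2, 16, 32, 4]]) (P := fun m => e2 m = c1 → m = c1)
    (by decide +kernel) (c2 h0 h1) (el2 h)

theorem mF4 {γ : S6} (h0 : Commute γ ff) (h : γ ^ 4 = 1) : γ * γ = 1 := by
  rw [ff_w] at h0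
  rw [cd_eq_iff, cd_one, cd_p4] at h
  rw [cd_eq_iff, cd_one, cd_sq]
  exact cen_sound (H := [[2, 16, 4, 32], [2, 16, 4, 32]]) (P := fun m => s2 (s2 m) = c1 → s2 m = c1)
    (by decide +kernel) (c2 h0 h0) h

theorem m54 {γ δ : S6} (h1 : Commute γ (cm 1)) (h2 : Commute γ (cm 2)) (h3 : Commute δ (cm 1)) (h4 : Commute δ (cm 2))
    (e1 : El 2 γ) (e2 : El 2 δ) (e3 : El 2 (γ * δ)) : γ = 1 ∨ δ = 1 ∨ γ = δ := by
  have k : ∀ a ∈ [c1, wl [1], wl [8], wl [9]], ∀ b ∈ [c1, wl [1], wl [8], wl [9]], ModB.e2 (mm a b) = c1 →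
      a = c1 ∨ b = c1 ∨ a = b := by decide +kernel
  have := el2 e3
  rw [cd_mm] at this
  rw [cd_eq_iff, cd_eq_iff, cd_eq_iff, cd_one]
  exact k _ (two_mem h1 h2 e1) _ (two_mem h3 h4 e2) this

theorem mR {γ : S6} (i : Fin 3) (h2 : γ * γ = 1) (h : ∀ k, Commute (γ * xm i) (cm k)) :
    ∃ m : ℕ, γ = cm i ^ m * xm i * (cm i ^ m)⁻¹ := by
  have h0 := h 0
  have h1 := h 1
  have h2' := h 2
  rw [cm0] at h0
  rw [cm1] at h1
  rw [cm2] at h2'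
  have e : γ = γ * xm i * xm i := by rw [mul_assoc, xm, tv_sq, mul_one]
  have ec : cm i = wd [2 ^ i.val, 2 ^ (3 + i.val)] := congrArg (xm i * ·) (mul_one _).symm
  have ex : xm i = wd [2 ^ i.val] := (mul_one _).symm
  have k := cen_sound (H := [[1, 8], [2, 16], [4, 32]])
    (P := fun m => ∀ i : Fin 3, rB m (2 ^ i.val) (2 ^ (3 + i.val)) = true) (by decide +kernel) (c3 h0 h1 h2') i
  simp only [rB, Bool.or_eq_true, Bool.not_eq_true', ← Bool.not_eq_true, Nat.beq_eq, ← imp_iff_not_or,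
    List.any_eq_true] at k
  rw [← cd_wd, ← cd_wd, ← ex, ← ec, ← cd_mm, ← e] at k
  obtain ⟨m, -, hm⟩ := k (sq_one h2)
  exact ⟨m, cd_inj (by rw [hm, cd_mm, cd_mm, cd_inv, cd_pow])⟩

theorem vq_eq : sw1 * tq = wd [48, 54] ∧ sw * (sw1 * tq) = tv 6 ∧ nrm (sw1 * tq) ff⁻¹ = 1 ∧
    nrm (xm 2 * tv 6) (cm 2) = 1 ∧ sw1 * tq ≠ 1 := by
  simp only [ne_eq, sw_w, sw1_w, tq_w, ff_w, xm2, cm2, tv_wd, wd_inv, wd_mul, cd_eq_iff, cd_nr, cd_wd, cd_one]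
  decide +kernel

theorem conj_a2 : wd [24, 28, 45] * (xm 0 * (xm 1 * tv 3)) * (wd [24, 28, 45])⁻¹ = sw ∧
    wd [24, 31] * tv 6 * (wd [24, 31])⁻¹ = xm 0 ∧
    wd [8, 10] * (xm 0 * tv 5 * (xm 1 * tv 6)) * (wd [8, 10])⁻¹ = xm 2 * (xm 0 * tv 5) := by
  simp only [sw_w, xm0, xm1, xm2, tv_wd, wd_inv, wd_mul, cd_eq_iff, cd_wd]
  decide +kernel

end Cfsg.Agent.S86
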