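import Cfsg.Agent.S86.Fs
import Cfsg.Agent.S86.ModB
import Cfsg.Agent.S86.ModD

/-! The structure of `C(ρ 0)`: covariant coordinates on `Z`. -/

set_option autoImplicit false
set_option linter.unusedSectionVars false

namespace Cfsg.Agent.S86

open Subgroup H49 Matrix F42
open Cfsg.Agent.L72 (O2N)

variable {G : Type*} [Group G] [Finite G] {a : V4 → G} {ψ ψ' : S6 →* G} {ρ : Fin 4 → G} {t : Fin 4 → Fin 4 → G}
  {e E : ℕ → G} {φ : S8 →* G}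

namespace OA4

/-- equal up to the factor `r` -/
def Md (r x y : G) : Prop := x = y ∨ x = y * r

section
omit [Finite G]
variable {r x y z : G}

theorem Md.symm (r2 : r * r = 1) (h : Md r x y) : Md r y x :=
  h.imp Eq.symm fun h => by rw [h, mul_assoc, r2, mul_one]

theorem Md.trans (r2 : r * r = 1) (h : Md r x y) (h' : Md r y z) : Md r x z := by
  rcases h with rfl | rfl
  · exact h'
  · rcases h' with rfl | rfl
    · exact .inr rfl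
    · exact .inl (by rw [mul_assoc, r2, mul_one])

theorem Md.conj {g : G} (hg : Commute g r) (h : Md r x y) : Md r (g * x * g⁻¹) (g * y * g⁻¹) :=
  h.imp (fun h => by rw [h]) fun h => by
    rw [h, mul_assoc (g * y), hg.inv_left.eq]
    group

theorem Md.pow (r2 : r * r = 1) {k : ℕ} (hk : k < 2) (x : G) : Md r (x * r ^ k) x := by
  interval_cases k
  · exact .inl (by simp)
  · exact .inr (by simp)

end

theorem bf_lt (n m : ℕ) : bf n m < 2 := Nat.mod_lt _ two_pos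

theorem bf_zero : ∀ n < 64, bf 0 n = 0 ∧ bf n 0 = 0 ∧ bf n n = 0 := by decide +kernel

theorem act_c : act (cm 0) 1 = 8 ∧ act (cm 0 * cm 0) 1 = 9 := by
  rw [act_eq _ (by norm_num), act_eq _ (by norm_num), cd_mul, SpF.cm0, cd_wd]
  decide +kernel

open Classical in
/-- the covariant choice -/
noncomputable def EE (r : G) (e : ℕ → G) (n : ℕ) : G := if n = 0 ∨ Big (e n) then e n else e n * r

theorem EE_md (r : G) (e : ℕ → G) (n : ℕ) : Md r (EE r e n) (e n) := by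
  unfold EE
  split_ifs
  exacts [.inl rfl, .inr rfl]

theorem e_zero (h : LE a ρ t e) : e 0 = 1 := by
  have := h.mul 0 (by norm_num) 0 (by norm_num)
  exact mul_left_cancel (this.symm.trans (mul_one _).symm)

theorem EE_zero (h : LE a ρ t e) : EE (ρ 0) e 0 = 1 := by simp [EE, e_zero h]

theorem e_mem (h : LE a ρ t e) {n : ℕ} (hn : n < 64) : e n ∈ Zg a ρ t := (h.mem _).2 ⟨n, hn, .inl rfl⟩

theorem r_mem (h : LE a ρ t e) : ρ 0 ∈ Zg a ρ t :=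
  (h.mem _).2 ⟨0, by norm_num, .inr (by rw [e_zero h, one_mul])⟩

theorem EE_mem (h : LE a ρ t e) (w : G) : w ∈ Zg a ρ t ↔ ∃ n < 64, Md (ρ 0) w (EE (ρ 0) e n) := by
  have r2 := (h.toFS.r2 0).1
  rw [h.mem]
  exact exists_congr fun n => and_congr_right fun _ =>
    ⟨fun k => Md.trans r2 k ((EE_md _ e n).symm r2), fun k => k.trans r2 (EE_md _ e n)⟩

theorem zcomm (h : LE a ρ t e) {x y : G} (hx : x ∈ Zg a ρ t) (hy : y ∈ Zg a ρ t) : Commute x y := h.zc hy x hx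

theorem EE_Z (h : LE a ρ t e) {n : ℕ} (hn : n < 64) : EE (ρ 0) e n ∈ Zg a ρ t := (EE_mem h _).2 ⟨n, hn, .inl rfl⟩

theorem EE_inj (h : LE a ρ t e) {n m : ℕ} (hn : n < 64) (hm : m < 64)
    (k : Md (ρ 0) (EE (ρ 0) e n) (EE (ρ 0) e m)) : n = m := by
  have r2 := (h.toFS.r2 0).1
  have k1 : Md (ρ 0) (e n) (e m) := (((EE_md _ e n).symm r2).trans r2 k).trans r2 (EE_md _ e m)
  have k2 : e m * e m = 1 := by rw [← h.mul m hm m hm, Nat.xor_self, e_zero h]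
  refine Nat.xor_eq_zero_iff.1 (h.e0 _ (xor_lt hn hm) ?_)
  rw [h.mul n hn m hm]
  refine k1.imp (fun k => by rw [k, k2]) fun k => ?_
  rw [k, mul_assoc, (zcomm h (r_mem h) (e_mem h hm)).eq, ← mul_assoc, k2, one_mul]

theorem EE_sq (h : LE a ρ t e) {n : ℕ} (hn : n < 64) : EE (ρ 0) e n * EE (ρ 0) e n = 1 := by
  have k2 : e n * e n = 1 := by rw [← h.mul n hn n hn, Nat.xor_self, e_zero h]
  rcases EE_md (ρ 0) e n with k | k <;> rw [k]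
  · exact k2
  · rw [(zcomm h (r_mem h) (e_mem h hn)).mul_mul_mul_comm, k2, (h.toFS.r2 0).1, one_mul]

theorem EE_one (h : LE a ρ t e) : EE (ρ 0) e 1 = ρ 0 * (ρ 1 * t 0 1) := by
  have k := zcomm h (e_mem h (n := 1) (by norm_num)) (r_mem h)
  rw [EE, if_neg (by rw [h.e1]; simpa using h.ph2), k.eq, h.e1]

theorem conj_ne (h : LE a ρ t e) {g : G} (hg : Commute g (ρ 0)) {n m : ℕ} (hn : n < 64) (h0 : n ≠ 0)
    (k : Md (ρ 0) (g * EE (ρ 0) e n * g⁻¹) (EE (ρ 0) e m)) : m ≠ 0 := by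
  rintro rfl
  have k1 := k.conj hg.inv_left
  rw [EE_zero h] at k1
  refine h0 (EE_inj h hn (by norm_num) ?_)
  rw [EE_zero h]
  convert k1 using 1 <;> group

theorem az (h : LE a ρ t e) (hp : PS a ρ t ψ) (ha : ∀ γ, AZ (ρ 0) e (ψ γ) γ) (γ : S6) {n : ℕ} (hn : n < 64) :
    Md (ρ 0) (ψ γ * EE (ρ 0) e n * (ψ γ)⁻¹) (EE (ρ 0) e (act γ n)) :=
  have r2 := (h.toFS.r2 0).1
  (((EE_md _ e n).conj (hp.cr γ).symm).trans r2 (ha γ n hn)).trans r2 ((EE_md _ e _).symm r2)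

theorem EE_big (h : LE a ρ t e) (hp : PS a ρ t ψ) (ha : ∀ γ, AZ (ρ 0) e (ψ γ) γ) {n : ℕ} (hn : n < 64) (h0 : n ≠ 0) :
    Big (EE (ρ 0) e n) ∧ ¬ Big (EE (ρ 0) e n * ρ 0) := by
  have r2 := (h.toFS.r2 0).1
  obtain ⟨γ, rfl⟩ := wit1 hn h0
  have k1 : ¬ Big (ψ γ * e 1 * (ψ γ)⁻¹) := fun k => h.ph2 (h.e1 ▸ k.conj (isConj_iff.2 ⟨ψ γ, rfl⟩).symm)
  have k2 : Big (ψ γ * e 1 * (ψ γ)⁻¹ * ρ 0) := by
    refine h.ph1.conj (isConj_iff.2 ⟨ψ γ, ?_⟩)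
    rw [← h.e1, ← (zcomm h (e_mem h (by norm_num)) (r_mem h)).eq, mul_assoc (ψ γ * e 1), (hp.cr γ).symm.inv_left.eq]
    group
  rcases ha γ 1 (by norm_num) with k | k <;> rw [k] at k1 k2
  · rw [EE, if_neg (by simp [h0, k1]), mul_assoc, r2, mul_one]
    exact ⟨k2, k1⟩
  · rw [mul_assoc, r2, mul_one] at k2
    rw [EE, if_pos (.inr k2)]
    exact ⟨k2, k1⟩

theorem conj_eq (h : LE a ρ t e) (hp : PS a ρ t ψ) (ha : ∀ γ, AZ (ρ 0) e (ψ γ) γ) {g : G} (hg : Commute g (ρ 0))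
    {n m : ℕ} (hn : n < 64) (hm : m < 64) (k : Md (ρ 0) (g * EE (ρ 0) e n * g⁻¹) (EE (ρ 0) e m)) :
    g * EE (ρ 0) e n * g⁻¹ = EE (ρ 0) e m := by
  by_cases h0 : n = 0
  · subst h0
    have k1 : g * EE (ρ 0) e 0 * g⁻¹ = EE (ρ 0) e 0 := by simp [EE_zero h]
    rw [k1] at k ⊢
    rw [← EE_inj h hn hm k]
  · refine k.resolve_right fun k1 => (EE_big h hp ha hm (conj_ne h hg hn h0 k)).2 ?_
    exact k1 ▸ (EE_big h hp ha hn h0).1.conj (isConj_iff.2 ⟨g, rfl⟩)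

theorem cov (h : LE a ρ t e) (hp : PS a ρ t ψ) (ha : ∀ γ, AZ (ρ 0) e (ψ γ) γ) (γ : S6) {n : ℕ} (hn : n < 64) :
    ψ γ * EE (ρ 0) e n * (ψ γ)⁻¹ = EE (ρ 0) e (act γ n) :=
  conj_eq h hp ha (hp.cr γ).symm hn (act_lt γ n) (az h hp ha γ hn)

theorem base8 (h : LE a ρ t e) (hp : PS a ρ t ψ) (ha : ∀ γ, AZ (ρ 0) e (ψ γ) γ) :
    EE (ρ 0) e 1 * EE (ρ 0) e 8 = EE (ρ 0) e 9 * ρ 0 := by
  have r2 := (h.toFS.r2 0).1
  have k8 := cov h hp ha (cm 0) (n := 1) (by norm_num)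
  have k9 := cov h hp ha (cm 0 * cm 0) (n := 1) (by norm_num)
  have c1 := hp.cr (cm 0)
  have k := h.nr 0 1 (by decide)
  have c0 : ψ (cm 0) = a (ee 1) := hp.c 0
  rw [act_c.1] at k8
  rw [act_c.2, map_mul] at k9
  rw [← c0, ← h.e1, nrm] at k
  have c2 := zcomm h (r_mem h) (e_mem h (n := 1) (by norm_num))
  have k1 : EE (ρ 0) e 1 * EE (ρ 0) e 8 * EE (ρ 0) e 9 = ρ 0 := by
    rw [← k8, ← k9, EE_one h, ← h.e1]
    generalize ψ (cm 0) = c at k c1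
    generalize e 1 = v at k c2
    generalize ρ 0 = r at r2 c1 c2
    have e1 : c * (r * v) * c⁻¹ = r * (c * v * c⁻¹) := by rw [← mul_assoc, ← c1.eq]; group
    have e2 : c * c * (r * v) * (c * c)⁻¹ = c * c * v * (c * c)⁻¹ * r := by
      rw [c2.eq, mul_assoc (c * c * v), ← (c1.mul_right c1).inv_right.eq]
      group
    rw [e1, e2, c2.eq, mul_assoc v, ← mul_assoc r, r2, one_mul, ← mul_assoc, k, one_mul]
  have k2 := zcomm h (EE_Z h (n := 9) (by norm_num)) (r_mem h)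
  have k3 := EE_sq h (n := 9) (by norm_num)
  generalize EE (ρ 0) e 9 = x at k1 k2 k3
  rw [k2.eq, ← congrArg (· * x) k1, mul_assoc _ x, k3, mul_one]

theorem base2 (h : LE a ρ t e) (hp : PS a ρ t ψ) : EE (ρ 0) e 1 * EE (ρ 0) e 2 = EE (ρ 0) e 3 := by
  have r2 := (h.toFS.r2 0).1
  have k2 : ¬ Big (e 2) := fun k => h.ph2 (by
    obtain ⟨n, -, h1, h2⟩ := h.sw (Equiv.swap 1 2)
    refine k.conj (isConj_iff.2 ⟨n, ?_⟩)
    have e1 : n * ρ 2 * n⁻¹ = ρ 1 := h1 2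
    have e2 : n * t 0 2 * n⁻¹ = t 0 1 := h2 0 2 (by decide)
    rw [h.e2, ← e1, ← e2]
    group)
  have e3 : e 3 = e 1 * e 2 := h.mul 1 (by norm_num) 2 (by norm_num)
  have k3 : Big (e 3) := by
    obtain ⟨n, -, h1, h2⟩ := h.sw (Equiv.swap 0 3)
    have x0 : n * ψ (xm 0) * n⁻¹ = ρ 1 := by rw [hp.x]; exact h1 1
    have x1 : n * ψ (xm 1) * n⁻¹ = ρ 2 := by rw [hp.x]; exact h1 2
    have x2 : n * ψ (xm 2) * n⁻¹ = ρ 0 := by rw [hp.x]; exact h1 3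
    have t5 : n * ψ (tv 5) * n⁻¹ = t 0 1 := by rw [hp.t5, h.ts 0 1 (by decide)]; exact h2 1 3 (by decide)
    have t6 : n * ψ (tv 6) * n⁻¹ = t 0 2 := by rw [hp.t6, h.ts 0 2 (by decide)]; exact h2 2 3 (by decide)
    have k := congrArg (cjh n ψ) conj_a2.2.2
    simp only [map_mul, map_inv] at k
    simp only [cjh_apply n ψ (xm _), cjh_apply n ψ (tv _), x0, x1, x2, t5, t6] at k
    rw [e3, h.e1, h.e2]
    exact h.ph1.conj (isConj_iff.2 ⟨_, k⟩).symm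
  rw [EE_one h, ← h.e1, EE, EE, if_neg (by simpa using k2), if_pos (.inr k3), e3,
    (zcomm h (r_mem h) (e_mem h (by norm_num))).eq, (zcomm h (e_mem h (n := 2) (by norm_num)) (r_mem h)).eq,
    mul_assoc, ← mul_assoc (ρ 0), r2, one_mul]

theorem mul (h : LE a ρ t e) (hp : PS a ρ t ψ) (ha : ∀ γ, AZ (ρ 0) e (ψ γ) γ) {n m : ℕ} (hn : n < 64) (hm : m < 64) :
    EE (ρ 0) e n * EE (ρ 0) e m = EE (ρ 0) e (n ^^^ m) * ρ 0 ^ bf n m := by
  by_cases h0 : n = 0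
  · simp [h0, EE_zero h, (bf_zero m hm).1]
  by_cases h1 : m = 0
  · simp [h1, EE_zero h, (bf_zero n hn).2.1]
  by_cases h2 : n = m
  · simp [h2, EE_zero h, (bf_zero m hm).2.2, EE_sq h hm]
  obtain ⟨γ, e1, e2⟩ := wit2 hn hm h0 h1 h2
  have c := (hp.cr γ).symm
  split_ifs at e2 with h3
  · have k : ψ γ * EE (ρ 0) e (1 ^^^ 8) * (ψ γ)⁻¹ = _ := cov h hp ha γ (by decide)
    rw [act_xor γ (by norm_num) (by norm_num), e1, e2] at k
    rw [h3, pow_one, ← k, ← e1, ← e2, ← cov h hp ha γ (by norm_num), ← cov h hp ha γ (by norm_num), mul_assoc _ _ (ρ 0),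
      c.inv_left.eq, show 1 ^^^ 8 = 9 from rfl, mul_assoc (ψ γ) (EE (ρ 0) e 9), ← mul_assoc (EE (ρ 0) e 9),
      ← base8 h hp ha]
    group
  · have k : ψ γ * EE (ρ 0) e (1 ^^^ 2) * (ψ γ)⁻¹ = _ := cov h hp ha γ (by decide)
    rw [act_xor γ (by norm_num) (by norm_num), e1, e2] at k
    have h4 : bf n m = 0 := by have := bf_lt n m; omega
    rw [h4, pow_zero, mul_one, ← k, ← e1, ← e2, ← cov h hp ha γ (by norm_num), ← cov h hp ha γ (by norm_num),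
      show 1 ^^^ 2 = 3 from rfl, ← base2 h hp]
    group

theorem dec (h : LE a ρ t e) (hp : PS a ρ t ψ) (ha : ∀ γ, AZ (ρ 0) e (ψ γ) γ) {g : G} (hg : Commute g (ρ 0)) :
    ∃ q ∈ O2N (zpowers (ρ 0)), ∃ γ, g = q * ψ γ := by
  obtain ⟨r2, r1⟩ := h.toFS.r2 0
  have ex : ∀ n, ∃ m < 64, n < 64 → g * EE (ρ 0) e n * g⁻¹ = EE (ρ 0) e m := fun n => by
    by_cases hn : n < 64
    · obtain ⟨m, hm, k⟩ := (EE_mem h _).1 ((mem_normalizer_iff.1 (h.zn (mem_cent1.2 hg.eq)) _).1 (EE_Z h hn))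
      exact ⟨m, hm, fun _ => conj_eq h hp ha hg hn hm k⟩
    · exact ⟨0, by norm_num, fun k => absurd k hn⟩
  choose μ lt hμ using ex
  have key : ∀ n < 64, ∀ m < 64, EE (ρ 0) e (μ (n ^^^ m)) * ρ 0 ^ bf n m =
      EE (ρ 0) e (μ n ^^^ μ m) * ρ 0 ^ bf (μ n) (μ m) := fun n hn m hm => by
    rw [← mul h hp ha (lt n) (lt m), ← hμ n hn, ← hμ m hm, ← hμ _ (xor_lt hn hm), mul_assoc _ g⁻¹,
      (hg.inv_left.pow_right _).eq, mul_assoc g, ← mul_assoc (EE (ρ 0) e _), ← mul h hp ha hn hm]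
    group
  have add : ∀ n < 64, ∀ m < 64, μ (n ^^^ m) = μ n ^^^ μ m := fun n hn m hm =>
    EE_inj h (lt _) (xor_lt (lt n) (lt m))
      (((Md.pow r2 (bf_lt n m) _).symm r2).trans r2 (key n hn m hm ▸ Md.pow r2 (bf_lt _ _) _))
  obtain ⟨γ, hγ⟩ := mkS (fun n _ => lt n) add fun n hn m hm => by
    have k := key n hn m hm
    rw [add n hn m hm, mul_right_inj] at k
    have k1 := bf_lt n m
    have k2 := bf_lt (μ n) (μ m)
    generalize bf n m = i at k k1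
    generalize bf (μ n) (μ m) = j at k k2
    interval_cases i <;> interval_cases j <;> simp_all
  refine ⟨g * (ψ γ)⁻¹, ?_, γ, by group⟩
  have c : (ψ γ)⁻¹ * g ∈ 𝒞(Zg a ρ t) := fun w hw => by
    obtain ⟨n, hn, k⟩ := (EE_mem h w).1 hw
    have k1 : Commute (EE (ρ 0) e n) ((ψ γ)⁻¹ * g) := by
      have := (hμ n hn).trans (hγ n hn ▸ (cov h hp ha γ hn).symm)
      calc EE (ρ 0) e n * ((ψ γ)⁻¹ * g) = (ψ γ)⁻¹ * (ψ γ * EE (ρ 0) e n * (ψ γ)⁻¹) * g := by group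
        _ = (ψ γ)⁻¹ * g * EE (ρ 0) e n := by rw [← this]; group
    rcases k with rfl | rfl
    · exact k1
    · exact k1.mul_left ((hp.cr γ).inv_right.mul_right hg.symm)
  refine h.cz fun w hw => ?_
  have k := c _ ((mem_normalizer_iff.1 (h.zn (mem_cent1.2 (hp.cr γ).symm.inv_left.eq)) w).1 hw)
  calc w * (g * (ψ γ)⁻¹) = ψ γ * ((ψ γ)⁻¹ * w * (ψ γ)⁻¹⁻¹ * ((ψ γ)⁻¹ * g)) * (ψ γ)⁻¹ := by group
    _ = g * (ψ γ)⁻¹ * w := by rw [k]; group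

end OA4

open OA4 in
theorem LE.oe (h : LE a ρ t e) (hp : PS a ρ t ψ) (ha : ∀ γ, AZ (ρ 0) e (ψ γ) γ) : ∃ E, OE a ρ t ψ E :=
  ⟨EE (ρ 0) e, h.toLZ, hp, EE_zero h, EE_one h, fun _ hn => zcomm h (EE_Z h hn) (r_mem h),
    fun _ hn _ hm => OA4.mul h hp ha hn hm, fun γ _ hn => cov h hp ha γ hn, EE_mem h,
    fun _ hn k => EE_inj h hn (by norm_num) (by rw [EE_zero h, Md, one_mul]; exact k),
    fun _ hn h0 => EE_big h hp ha hn h0, fun _ hg => dec h hp ha hg⟩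

end Cfsg.Agent.S86
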