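import Cfsg.Agent.S86.BaseB
import Cfsg.Agent.S86.ModC

set_option autoImplicit false

namespace Cfsg.Agent.S86

open Subgroup H49 Matrix F42
open Cfsg.Agent.L72 (O2N)

variable {G : Type*} [Group G] [Finite G] {a : V4 → G} {ψ ψ' : S6 →* G} {ρ : Fin 4 → G} {t : Fin 4 → Fin 4 → G}
  {e E : ℕ → G} {φ : S8 →* G}

namespace OmA

/-- the inverse of `thm` -/
def thi : M4 := !![0, 0, -1, -1; 0, 1, 0, 0; -1, 0, 1, -1; 1, 0, 1, -1]

theorem thi_spec : ∀ w : V4, thm *ᵥ (thi *ᵥ w) = w ∧ thm *ᵥ sv cv (thi *ᵥ w) = sv (ee 0) w := by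
  decide +kernel

theorem thm_val : thm *ᵥ ee 0 = fv ∧ thm *ᵥ ee 1 = ee 1 ∧ thm *ᵥ fv = -cv ∧ thm *ᵥ zv = sg 3 ∧
    thm *ᵥ sg 0 = sg 2 := by decide +kernel

omit [Finite G] in
theorem el_of {f : S6 →* G} (hf : Function.Injective f) {γ : S6} {Y : Subgroup G} (hY : IsPGroup 2 Y)
    (h : f γ ∈ Y) : El 2 γ := by
  obtain ⟨k, hk⟩ := hY ⟨_, h⟩
  exact ⟨k, hf (by rw [map_pow, map_one]; exact congrArg Subtype.val hk)⟩

omit [Finite G] in
theorem el_mem {Y : Subgroup G} (hY : IsPGroup 2 Y) {y : G} (h : y ∈ Y) : El 2 y := by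
  obtain ⟨k, hk⟩ := hY ⟨_, h⟩
  exact ⟨k, congrArg Subtype.val hk⟩

omit [Finite G] in
theorem cm_of {f : S6 →* G} (hf : Function.Injective f) {γ δ : S6} (h : f γ ∈ 𝒞[f δ]) : Commute γ δ :=
  hf (by rw [map_mul, map_mul]; exact mem_cent1.1 h)

theorem vq_mem : sw1 * tq ∈ Vset sw (cm 0) (cm 1 * cm 2)⁻¹ := sV.2 (by rw [vq_eq.1]; simp)

end OmA

open OmA

theorem St.om (h : St a ψ) {n : G} (hn : Ac a n thm) : ∃ r v P P', OM a ψ r v P P' := by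
  have h' := h.ac hn
  generalize cjh n ψ = f at h'
  have fi := h'.ψi
  have b0 : ∀ γ, Commute (a fv) (f γ) := fun γ => by
    have := h'.bL γ
    rwa [tw, thm_val.1] at this
  have e1 : f (cm 0) = a (ee 1) := by
    have := h'.c 0
    rwa [tw, show (0 : Fin 3).succ = 1 from rfl, thm_val.2.1] at this
  have ec : f ff⁻¹ = a cv := by
    have := h'.pjm (u := fv) rfl
    rw [tw, thm_val.2.2.1, jm_named.2.1, h.neg] at this
    rw [map_inv, this, inv_inv]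
  have ez : f zp = a (sg 3) := by
    have := h'.pjm (u := zv) rfl
    rwa [tw, thm_val.2.2.2.1, jm_named.2.2.1] at this
  have em : f zm = a (sg 2) := by
    have := h'.pjm (u := sg 0) rfl
    rwa [tw, thm_val.2.2.2.2, jm_named.2.2.2] at this
  have rf : Rf a (ee 0) (f sw) := ⟨h'.rfs.1.1, fun w => by
    have := h'.rfs.1.2 (thi *ᵥ w)
    rwa [tw, tw, (thi_spec w).1, (thi_spec w).2] at this⟩
  have pull : ∀ {Y : Subgroup G}, IsPGroup 2 Y → Y ≤ 𝒞[a fv] → ∀ y ∈ Y, ∃ γ, El 2 γ ∧ y = f γ :=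
    fun {Y} hY c y hy => h'.two (el_mem hY hy) (by rw [tw, thm_val.1]; exact mem_cent1.1 (c hy))
  have q8 : T3.Q8 (Rm.map f) (f sw) := (XQ_map fi xq_m).q8
  have nz : ∀ {γ : S6}, f γ ∉ zpowers (f sw) → γ ∉ zpowers sw := fun {γ} c ⟨k, hk⟩ =>
    c ⟨k, by beta_reduce at hk ⊢; rw [← map_zpow, hk]⟩
  have o3 : ∀ Y : Subgroup G, IsPGroup 2 Y → Y ≤ 𝒞[f sw] → Y ≤ 𝒞[a fv] → Y ≤ 𝒞[a (sg 3)] →
      Y ≤ Rm.map f := fun Y hY c1 c2 c3 y hy => by
    obtain ⟨γ, e2, rfl⟩ := pull hY c2 y hy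
    exact mem_map_of_mem f (two_Rm (cm_of fi (c1 hy)) (cm_of fi (by rw [ez]; exact c3 hy)) e2)
  have pc : Rm.map f ≤ 𝒞[a fv] ⊓ 𝒞[a (sg 3)] := by
    rintro _ ⟨γ, hγ, rfl⟩
    exact ⟨mem_cent1.2 (b0 γ).symm, by rw [← ez]; exact mem_cent1.2 ((mem_Rm.1 hγ).2.1.map f)⟩
  have pr : Rm.map f ≤ 𝒞[f sw] := by
    rintro _ ⟨γ, hγ, rfl⟩
    exact mem_cent1.2 ((mem_Rm.1 hγ).1.map f)
  have p2 : IsPGroup 2 (Rm.map f) := IsPGroup.of_card (n := 3) q8.card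
  have i1 : a (ee 1) ∈ Ig a := h.mem_Ig.2 ⟨_, rfl, rfl⟩
  have ic : a cv ∈ Ig a := h.mem_Ig.2 ⟨_, rfl, rfl⟩
  refine ⟨f sw, f (sw1 * tq), Rm.map f, Rm'.map f,
    { h with
      rf := rf
      rL := h.rf0 rf
      q8 := q8
      tr := ?_
      nc := ?_
      gen := ?_
      Pn := ?_
      Pc := pc
      v2 := by rw [← map_mul, vq_mem.2.2.1, map_one]
      v1 := fun c => vq_eq.2.2.2.2 (fi (c.trans (map_one f).symm))
      vr := vq_mem.1.map f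
      ve := by rw [← e1]; exact vq_mem.2.1.map f
      vf := (b0 _).symm
      vn := by
        rw [← ec, ← map_one f, ← vq_eq.2.2.1]
        simp only [nrm, map_mul, map_inv]
      vP := ?_
      vP' := ?_
      o1 := ?_
      o2 := ?_
      o3 := o3
      o3' := ?_ }⟩
  · rintro _ ⟨γ, hγ, rfl⟩ _ ⟨δ, hδ, rfl⟩ c d
    obtain ⟨m, hm⟩ := sP_tr (Or.inl rfl) (mem_Rm.1 hγ) (mem_Rm.1 hδ)
      (fun z => nz c (z ▸ one_mem _)) (fun z => nz c (z ▸ mem_zpowers _))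
      (fun z => nz d (z ▸ one_mem _)) (fun z => nz d (z ▸ mem_zpowers _))
    refine ⟨m, hm.imp (fun z => ?_) fun z => ?_⟩
    · rw [← z, ← e1]; simp only [map_mul, map_inv, map_pow]
    · rw [← map_mul f δ, ← z, ← e1]; simp only [map_mul, map_inv, map_pow]
  · rintro _ ⟨γ, hγ, rfl⟩ c d
    refine (Rm_nc hγ (nz c)).1 (fi ?_)
    rw [← e1] at d
    simpa only [map_mul, map_inv] using d.eq
  · rintro _ ⟨γ, hγ, rfl⟩ c
    refine (map_mono (Rm_nc hγ (nz c)).2).trans (le_of_eq ?_)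
    rw [MonoidHom.map_closure, Set.image_pair, map_mul, map_mul, map_inv, e1]
  · intro g hg
    obtain ⟨u, u0, rfl⟩ := h.mem_Ig.1 hg
    have k : ∀ {x : G}, Rm.map f ≤ 𝒞[x] → Commute x (a u) → cj (a u) (Rm.map f) ≤ 𝒞[x] :=
      fun {x} c d => cj_le_of_mem c (mem_cent1.2 d.symm)
    refine mem_norm_of_cj_le (o3 _ (isPGroup_cj.2 p2) (k pr (rf.comm_a ?_))
      (k (pc.trans inf_le_left) (h.comm _ _)) (k (pc.trans inf_le_right) (h.comm _ _)))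
    rw [ee, dotProduct_single, u0, zero_mul]
  · rintro _ ⟨γ, hγ, rfl⟩
    exact (sPV_comm (Or.inl rfl) (mem_Rm.1 hγ) vq_mem).symm.map f
  · rintro _ ⟨γ, hγ, rfl⟩
    exact (sPV_comm (Or.inr rfl) (mem_Rm'.1 hγ) vq_mem).symm.map f
  · intro Y hY c1 nY c2 c3 y hy
    obtain ⟨γ, e2, rfl⟩ := pull hY c2 y hy
    have cf : Commute γ ff := Commute.inv_right_iff.1 (cm_of fi (by rw [ec]; exact c3 hy))
    have := mW2' cf (cm_of fi (c1 hy)) e2 (el_of fi hY (by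
      rw [map_mul, map_mul, map_mul, map_inv, e1]
      exact Y.mul_mem hy (conj_mem_of_norm nY i1 hy)))
    rcases this with rfl | rfl
    · rw [map_one]; exact one_mem _
    · exact mem_zpowers _
  · intro Y hY c1 nY c2 c3 y hy
    obtain ⟨γ, e2, rfl⟩ := pull hY c2 y hy
    have := mW1' (cm_of fi (by rw [e1]; exact c3 hy)) (cm_of fi (c1 hy)) e2 (el_of fi hY (by
      rw [map_mul, map_mul, map_mul, map_inv f ff⁻¹, ec]
      exact Y.mul_mem hy (conj_mem_of_norm nY ic hy)))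
    have := mem_map_of_mem f this
    rwa [MonoidHom.map_closure, Set.image_insert_eq, Set.image_pair, map_mul f (ff⁻¹ * _), map_mul f ff⁻¹,
      map_inv f ff⁻¹, ec] at this
  · intro Y hY c1 c2 c3 y hy
    obtain ⟨γ, e2, rfl⟩ := pull hY c2 y hy
    exact mem_map_of_mem f (two_Rm' (cm_of fi (c1 hy)) (cm_of fi (by rw [em]; exact c3 hy)) e2)

end Cfsg.Agent.S86
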