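import Cfsg.Agent.S86.OmB

set_option autoImplicit false

namespace Cfsg.Agent.S86

open Subgroup H49 Matrix F42
open Cfsg.Agent.L72 (O2N)

variable {G : Type*} [Group G] [Finite G] {a : V4 → G} {ψ ψ' : S6 →* G} {ρ : Fin 4 → G} {t : Fin 4 → Fin 4 → G}
  {e E : ℕ → G} {φ : S8 →* G}

namespace OmC

omit [Finite G] in
theorem cz {g r x : G} (h : Commute g r) (hx : x ∈ zpowers r) : g * x * g⁻¹ ∈ zpowers r := by
  obtain ⟨k, rfl⟩ := hx
  rw [(h.zpow_right k).eq, mul_inv_cancel_right]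
  exact ⟨k, rfl⟩

/-- the elements of `C(r)` that centralise `y` modulo `r` -/
def D (r y : G) : Subgroup G where
  carrier := {g | Commute g r ∧ g * y * g⁻¹ * y⁻¹ ∈ zpowers r}
  one_mem' := ⟨Commute.one_left r, by simp⟩
  mul_mem' := fun {g h} hg hh => ⟨hg.1.mul_left hh.1, by
    have := mul_mem (cz hg.1 hh.2) hg.2
    convert this using 1; group⟩
  inv_mem' := fun {g} hg => ⟨hg.1.inv_left, by
    have := cz hg.1.inv_left (inv_mem hg.2)
    convert this using 1; group⟩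

omit [Finite G] in
theorem D_symm {r x y : G} (h : x ∈ D r y) (hy : Commute y r) : y ∈ D r x :=
  ⟨hy, by
    have := inv_mem h.2
    convert this using 1; group⟩

omit [Finite G] in
theorem D_comm {r x y : G} (h : Commute x y) (hx : Commute x r) : x ∈ D r y :=
  ⟨hx, by rw [h.eq]; simp⟩

omit [Finite G] in
theorem zp2 {r x : G} (r2 : r * r = 1) (hx : x ∈ zpowers r) : x = 1 ∨ x = r := by
  obtain ⟨k, rfl⟩ := hx
  have h2 : r ^ (2 : ℤ) = 1 := by rw [zpow_two, r2]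
  rcases Int.even_or_odd' k with ⟨m, rfl | rfl⟩
  · exact Or.inl (by simp only; rw [_root_.zpow_mul, h2, _root_.one_zpow])
  · exact Or.inr (by simp only; rw [_root_.zpow_add, _root_.zpow_mul, h2, _root_.one_zpow, one_mul, zpow_one])

omit [Finite G] in
theorem nrm_comm {r v g y : G} (r2 : r * r = 1) (vr : Commute v r) (gr : Commute g r) (gy : Commute g y)
    (hn : nrm v g = 1) (h : v * y * v⁻¹ * y⁻¹ ∈ zpowers r) : Commute v y := by
  have k : ∀ c, Commute c r → Commute c y → v * y = r * y * v →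
      Commute (c * v * c⁻¹) r ∧ c * v * c⁻¹ * y = r * y * (c * v * c⁻¹) := fun c cr cy e =>
    ⟨(cr.mul_left vr).mul_left cr.inv_left, by
      rw [mul_assoc, cy.inv_left.eq, ← mul_assoc, mul_assoc c, e, ← mul_assoc, (cr.mul_right cy).eq]
      group⟩
  rcases zp2 r2 h with e | e
  · rwa [mul_inv_eq_one, mul_inv_eq_iff_eq_mul] at e
  rw [mul_inv_eq_iff_eq_mul, mul_inv_eq_iff_eq_mul] at e
  obtain ⟨b1, b2⟩ := k g gr gy e
  obtain ⟨-, c2⟩ := k (g * g) (gr.mul_left gr) (gy.mul_left gy) e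
  rw [nrm] at hn
  generalize g * v * g⁻¹ = B at *
  generalize g * g * v * (g * g)⁻¹ = C at *
  have h1 : v * B * C * y = r * y * (v * B * C) :=
    calc v * B * C * y = v * (B * r) * y * C := by rw [mul_assoc _ C, c2]; group
      _ = (v * r) * (B * y) * C := by rw [b1.eq]; group
      _ = r * (v * r) * y * B * C := by rw [b2]; nth_rw 1 [vr.eq]; group
      _ = (r * r) * (v * y) * B * C := by rw [vr.eq]; group
      _ = _ := by rw [r2, e]; group
  rw [hn, one_mul, mul_one, right_eq_mul] at h1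
  rw [h1, one_mul] at e
  exact e

theorem dec1 : ∀ l : V4, l 0 = 0 → (ee 1 ⬝ᵥ l = 0 ∧ fv ⬝ᵥ l = 0) ∨
    ∃ x y : ZMod 3, (cv + (x • ee 1 + y • fv)) ⬝ᵥ l = 0 :=
  qt_all0 (by decide +kernel)

theorem dec2 : ∀ l : V4, l 0 = 0 → l ⬝ᵥ l ≠ 0 → ∃ β, Iso0 β ∧ (β *ᵥ ee 1 = l ∨ β *ᵥ cv = l) :=
  qt_all0 fun b c d h => qtL_ex (by revert b c d; decide +kernel)

theorem dec3 : ∀ l : V4, l 0 = 0 → l ≠ 0 → l ⬝ᵥ l = 0 → (fv ⬝ᵥ l = 0 ∧ sg 3 ⬝ᵥ l = 0) ∨
    ∀ u : V4, u 0 = 0 → ∃ x : ZMod 3, (u + x • sg 3) ⬝ᵥ l = 0 :=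
  qt_all0 fun b c d h1 h2 => by
    have k : (fv ⬝ᵥ ![0, b, c, d] = 0 ∧ sg 3 ⬝ᵥ ![0, b, c, d] = 0) ∨ ∀ b' c' d' : ZMod 3,
        ∃ x : ZMod 3, (![0, b', c', d'] + x • sg 3) ⬝ᵥ ![0, b, c, d] = 0 := by
      revert b c d
      decide +kernel
    exact k.imp_right fun k => qt_all0 k

theorem dec4 : ∀ l : V4, l 0 = 0 → l ≠ 0 → l ⬝ᵥ l = 0 → (fv ⬝ᵥ l = 0 ∧ sg 3 ⬝ᵥ l = 0) ∨
    (fv ⬝ᵥ l = 0 ∧ sg 2 ⬝ᵥ l = 0) ∨ zv ⬝ᵥ l = 0 ∨ sg 0 ⬝ᵥ l = 0 :=
  qt_all0 (by decide +kernel)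

variable {r v : G} {P P' : Subgroup G}

theorem ra (h : OM a ψ r v P P') {u : V4} (u0 : u 0 = 0) : Commute (a u) r :=
  (h.rf.comm_a ((qt_dot0 u).trans u0)).symm

theorem Qr (h : OM a ψ r v P P') {q : G} (hq : q ∈ O2N (zpowers r)) : Commute q r :=
  mem_centralizer_singleton_iff.1 ((norm_zp h.rf.1).le (L72.O2N_le _ hq))

theorem nQ (h : OM a ψ r v P P') {g q : G} (hg : Commute g r) (hq : q ∈ O2N (zpowers r)) :
    g * q * g⁻¹ ∈ O2N (zpowers r) :=
  L72.Gen.cm (L72.norm_O2N _ ((norm_zp h.rf.1).ge (mem_centralizer_singleton_iff.2 hg))) hq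

theorem Q3 {Y : Subgroup G} (hY : IsPGroup 2 Y) : (Nat.card Y).Coprime 3 := by
  have := Fact.mk Nat.prime_two
  obtain ⟨k, hk⟩ := hY.exists_card_eq
  rw [hk]
  exact Nat.Coprime.pow_left k (by decide)

theorem IQ (h : OM a ψ r v P P') : Ig a ≤ 𝒩(O2N (zpowers r)) := le_norm_iff.2 fun g hg q hq => by
  obtain ⟨u, u0, rfl⟩ := h.toTA.mem_Ig.1 hg
  exact nQ h (ra h u0) hq

theorem Iinf (h : TA a) {Y : Subgroup G} (hY : Ig a ≤ 𝒩(Y)) (w : V4) : Ig a ≤ 𝒩(Y ⊓ 𝒞[a w]) :=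
  le_norm_iff.2 fun g hg q hq => by
    refine ⟨L72.Gen.cm (hY hg) hq.1, mem_centralizer_singleton_iff.2 ?_⟩
    obtain ⟨u, -, rfl⟩ := h.mem_Ig.1 hg
    have h1 : Commute q (a w) := mem_centralizer_singleton_iff.1 hq.2
    exact ((h.comm u w).mul_left h1).mul_left (h.comm u w).inv_left

theorem part (h : OM a ψ r v P P') (u w : V4) :
    IsPGroup 2 ↥(O2N (zpowers r) ⊓ 𝒞[a u] ⊓ 𝒞[a w]) ∧ O2N (zpowers r) ⊓ 𝒞[a u] ⊓ 𝒞[a w] ≤ 𝒞[r] ∧
      Ig a ≤ 𝒩(O2N (zpowers r) ⊓ 𝒞[a u] ⊓ 𝒞[a w]) ∧ O2N (zpowers r) ⊓ 𝒞[a u] ⊓ 𝒞[a w] ≤ 𝒞[a u] :=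
  ⟨(L72.O2N_isP _).to_le (inf_le_left.trans inf_le_left),
    fun _ hq => mem_centralizer_singleton_iff.2 (Qr h hq.1.1), Iinf h.toTA (Iinf h.toTA (IQ h) u) w,
    inf_le_left.trans inf_le_right⟩

theorem memP {y : G} {u w : V4} (hy : y ∈ O2N (zpowers r)) (h1 : Commute y (a u)) (h2 : Commute y (a w)) :
    y ∈ O2N (zpowers r) ⊓ 𝒞[a u] ⊓ 𝒞[a w] :=
  ⟨⟨hy, mem_centralizer_singleton_iff.2 h1⟩, mem_centralizer_singleton_iff.2 h2⟩

theorem o2' (h : OM a ψ r v P P') {y : G} (hy : y ∈ O2N (zpowers r)) (h1 : Commute y (a fv))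
    (h2 : Commute y (a (ee 1))) : y ∈ Subgroup.closure {r, v, a cv * v * (a cv)⁻¹} :=
  let ⟨p1, p2, p3, p4⟩ := part h fv (ee 1)
  h.o2 _ p1 p2 p3 p4 inf_le_right (memP hy h1 h2)

theorem notQ (h : OM a ψ r v P P') : v ∉ O2N (zpowers r) := fun hv => by
  have r2 := h.rf.1
  have cr : Commute (a cv) r := ra h rfl
  have k : O2N (zpowers r) ≤ 𝒞[v] := hypI h.toTA (Q3 (L72.O2N_isP _)) (IQ h) fun l l0 _ y hy hc => by
    rcases dec1 l l0 with ⟨e1, e2⟩ | ⟨x, w, e⟩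
    · refine (closure_le _).2 ?_ (o2' h hy (hc _ rfl e2) (hc _ rfl e1))
      rintro _ (rfl | rfl | rfl)
      · exact mem_centralizer_singleton_iff.2 h.vr.symm
      · exact mem_centralizer_singleton_iff.2 rfl
      · have hn := h.vn
        rw [nrm, mul_eq_one_iff_eq_inv] at hn
        have h1 : v * (a cv * v * (a cv)⁻¹) * (v * (a cv * v * (a cv)⁻¹)) = 1 := by
          rw [hn, ← _root_.mul_inv_rev, conj_mul, h.v2]
          simp
        have h2 : a cv * v * (a cv)⁻¹ * (a cv * v * (a cv)⁻¹) = 1 := by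
          rw [conj_mul, h.v2]
          simp
        refine mem_centralizer_singleton_iff.2 ?_
        generalize a cv * v * (a cv)⁻¹ = B at *
        calc B * v = (v * v) * B * v * (B * B) := by rw [h.v2, h2]; group
          _ = v * (v * B * (v * B)) * B := by group
          _ = v * B := by rw [h1, mul_one]
    · have u0 : (cv + (x • ee 1 + w • fv)) 0 = 0 := by
        rw [Pi.add_apply, Pi.add_apply, Pi.smul_apply, Pi.smul_apply]
        exact (by decide : ∀ x w : ZMod 3, cv 0 + (x • ee 1 0 + w • fv 0) = 0) x w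
      have kv : Commute v (a (x • ee 1 + w • fv)) := by
        rw [h.add, h.toTA.smul, h.toTA.smul]
        exact (h.ve.pow_right _).mul_right (h.vf.pow_right _)
      refine mem_centralizer_singleton_iff.2 (nrm_comm r2 h.vr (ra h u0) (hc _ u0 e).symm ?_
        (h.cls.2.2 v hv y hy)).symm
      have kc := h.toTA.comm cv (x • ee 1 + w • fv)
      rw [← h.vn, h.add, nrm, nrm]
      generalize a (x • ee 1 + w • fv) = k at *
      have e1 : a cv * k * v * (a cv * k)⁻¹ = a cv * v * (a cv)⁻¹ := by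
        rw [mul_assoc (a cv) k, ← kv.eq]; group
      have e2 : a cv * k * (a cv * k) * v * (a cv * k * (a cv * k))⁻¹ = a cv * a cv * v * (a cv * a cv)⁻¹ := by
        rw [kc.symm.mul_mul_mul_comm, mul_assoc (a cv * a cv), ← (kv.mul_right kv).eq]; group
      rw [e1, e2]
  rcases zp2 r2 (h.cls.2.1 v hv fun p hp => (mem_centralizer_singleton_iff.1 (k hp)).symm) with e | e
  · exact h.v1 e
  · have hn := h.vn
    rw [e, nrm, cr.eq, (cr.mul_left cr).eq, mul_inv_cancel_right, mul_inv_cancel_right, r2, one_mul] at hn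
    exact h.q8.ne hn

theorem T (h : OM a ψ r v P P') {l : V4} (l0 : l 0 = 0) (hl : l ⬝ᵥ l ≠ 0) {y : G} (hy : y ∈ O2N (zpowers r))
    (hc : ∀ u : V4, u 0 = 0 → u ⬝ᵥ l = 0 → Commute y (a u)) : y ∈ zpowers r := by
  obtain ⟨β, hβ, hb⟩ := dec2 l l0 hl
  obtain ⟨γ, hγ⟩ := h.toSt.iso0 hβ
  have nr : Commute (ψ γ) r := (h.rL γ).symm
  have hy' := nQ h nr.inv_left hy
  have k : ∀ u : V4, u 0 = 0 → (β *ᵥ u) ⬝ᵥ l = 0 → Commute ((ψ γ)⁻¹ * y * (ψ γ)⁻¹⁻¹) (a u) := fun u u0 e => by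
    have := hc _ ((hβ.zero u).trans u0) e
    rw [← hγ] at this
    refine (qt_comm (g := ψ γ)).1 ?_
    convert this using 1
    group
  have k2 : (ψ γ)⁻¹ * y * (ψ γ)⁻¹⁻¹ ∈ zpowers r := by
    rcases hb with rfl | rfl
    · obtain ⟨p1, p2, p3, p4⟩ := part h fv cv
      exact h.o1 _ p1 p2 p3 p4 inf_le_right (memP hy' (k _ rfl ((iso_dot hβ.1 _ _).trans (by decide)))
        (k _ rfl ((iso_dot hβ.1 _ _).trans (by decide))))
    · by_contra hn
      exact notQ h (three_mem h.v2 h.rf.1 h.vr (ra h rfl) (h.toTA.cube cv) h.vn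
        (IQ h (h.toTA.mem_Ig.2 ⟨cv, rfl, rfl⟩)) hy' (o2' h hy' (k _ rfl ((iso_dot hβ.1 _ _).trans (by decide)))
          (k _ rfl ((iso_dot hβ.1 _ _).trans (by decide)))) hn)
  have := cz nr k2
  convert this using 1
  group

theorem U0 (h : OM a ψ r v P P') : O2N (zpowers r) ⊓ 𝒞[a (sg 3)] ≤ P :=
  hypI h.toTA (Q3 ((L72.O2N_isP _).to_le inf_le_left)) (Iinf h.toTA (IQ h) _) fun l l0 l1 y hy hc => by
    have ys : Commute y (a (sg 3)) := mem_centralizer_singleton_iff.1 hy.2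
    by_cases hl : l ⬝ᵥ l = 0
    · rcases dec3 l l0 l1 hl with ⟨e1, -⟩ | e
      · obtain ⟨p1, p2, -, p4⟩ := part h fv (sg 3)
        exact h.o3 _ p1 p2 p4 inf_le_right (memP hy.1 (hc _ rfl e1) ys)
      · refine zpowers_le_of_mem h.q8.mem (T h (l := ee 1) rfl (by decide) hy.1 fun u u0 _ => ?_)
        obtain ⟨x, hx⟩ := e u u0
        have := hc _ (by simp [u0, sg]) hx
        rw [h.add, h.toTA.smul] at this
        simpa using this.mul_right (ys.pow_right x.val).inv_right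
    · exact zpowers_le_of_mem h.q8.mem (T h l0 hl hy.1 hc)

theorem inv (h : OM a ψ r v P P') {w y : G} (w2 : w * w = 1) (wr : Commute w r) (we : Commute w (a (ee 1)))
    (ws : Commute w (a (sg 3))) (hy : y ∈ O2N (zpowers r)) (ys : Commute y (a (sg 3))) : w ∈ D r y := by
  by_cases y1 : y ∈ zpowers r
  · obtain ⟨k, rfl⟩ := y1
    exact D_comm (wr.zpow_right k) wr
  have er : Commute (a (ee 1)) r := ra h rfl
  obtain ⟨m, hm⟩ := h.tr y (U0 h ⟨hy, mem_centralizer_singleton_iff.2 ys⟩) (w * y * w⁻¹)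
    (U0 h ⟨nQ h wr hy, mem_centralizer_singleton_iff.2 ((ws.mul_left ys).mul_left ws.inv_left)⟩) y1
    fun e => y1 (by
      have := cz wr.inv_left e
      convert this using 1
      group)
  have d3 : (a (ee 1) ^ m) ^ 3 = 1 := by rw [← pow_mul, mul_comm, pow_mul, h.toTA.cube, one_pow]
  have wd := we.pow_right m
  have dr := er.pow_left m
  generalize a (ee 1) ^ m = d at *
  have k : w⁻¹ * d ∈ D r y := ⟨wr.inv_left.mul_left dr, by
    have e : w⁻¹ * d * y * (w⁻¹ * d)⁻¹ * y⁻¹ = w⁻¹ * (d * y * d⁻¹) * w * y⁻¹ := by group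
    rw [e]
    rcases hm with e' | e'
    · rw [e']
      convert (zpowers r).one_mem using 1
      group
    · rw [e', ← mul_assoc, mul_assoc _ r, ← wr.eq]
      convert cz (Qr h hy) (mem_zpowers r) using 1
      group⟩
  have k3 := inv_mem (pow_mem k 3)
  rwa [wd.inv_left.mul_pow, d3, mul_one, inv_pow, inv_inv, pow_succ, pow_two, w2, one_mul] at k3

theorem inv' (h : OM a ψ r v P P') (i : Fin 3) {s : V4} (e1 : sv (ee i.succ) (ee 1) = ee 1)
    (e2 : sv (ee i.succ) s = sg 3) (vs : Commute v (a s)) {y : G} (hy : y ∈ O2N (zpowers r))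
    (ys : Commute y (a s)) : y ∈ D r v := by
  have hn := (h.toSt.rfx i).2
  have nr : Commute (ψ (xm i)) r := (h.rL _).symm
  generalize ψ (xm i) = n at *
  have k := inv h (w := n * v * n⁻¹) (y := n * y * n⁻¹) (by rw [conj_mul, h.v2]; simp)
    ((nr.mul_left h.vr).mul_left nr.inv_left) (by rw [← e1, ← hn]; exact qt_comm.2 h.ve)
    (by rw [← e2, ← hn]; exact qt_comm.2 vs) (nQ h nr hy) (by rw [← e2, ← hn]; exact qt_comm.2 ys)
  refine D_symm ⟨h.vr, ?_⟩ (Qr h hy)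
  have := cz nr.inv_left k.2
  convert this using 1
  group

end OmC

open OmC in
theorem OM.false {r v : G} {P P' : Subgroup G} (h : OM a ψ r v P P') : False := by
  have r2 := h.rf.1
  have k : O2N (zpowers r) ≤ D r v := hypI h.toTA (Q3 (L72.O2N_isP _)) (IQ h) fun l l0 l1 y hy hc => by
    by_cases hl : l ⬝ᵥ l = 0
    · rcases dec4 l l0 l1 hl with ⟨e1, e2⟩ | ⟨e1, e2⟩ | e | e
      · obtain ⟨p1, p2, -, p4⟩ := part h fv (sg 3)
        exact D_comm (h.vP _ (h.o3 _ p1 p2 p4 inf_le_right (memP hy (hc _ rfl e1) (hc _ rfl e2)))).symm (Qr h hy)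
      · obtain ⟨p1, p2, -, p4⟩ := part h fv (sg 2)
        exact D_comm (h.vP' _ (h.o3' _ p1 p2 p4 inf_le_right (memP hy (hc _ rfl e1) (hc _ rfl e2)))).symm (Qr h hy)
      · refine inv' h 1 (by decide) (by decide) ?_ hy (hc _ rfl e)
        rw [show zv = ee 1 + -fv by decide, h.add, h.toTA.neg]
        exact h.ve.mul_right h.vf.inv_right
      · refine inv' h 2 (by decide) (by decide) ?_ hy (hc _ rfl e)
        rw [show sg 0 = ee 1 + fv by decide, h.add]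
        exact h.ve.mul_right h.vf
    · obtain ⟨k, rfl⟩ := T h l0 hl hy hc
      exact D_comm (h.vr.symm.zpow_left k) (Qr h hy)
  refine notQ h (L72.stab (isP_zp r2) (h.ch2 _ (isP_zp r2) (zpowers_ne_bot.2 h.q8.ne)) ?_
    fun q hq => (D_symm (k hq) h.vr).2)
  rintro _ ⟨j, rfl⟩
  exact (h.vr.zpow_right j).symm

end Cfsg.Agent.S86
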