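import Cfsg.Agent.S86.GenA

/-! Project S86 (S3159): frames with commuting reflections (notes/S86.md, Fs). -/

set_option autoImplicit false
set_option linter.unusedSectionVars false

namespace Cfsg.Agent.S86

open Subgroup H49 Matrix F42
open Cfsg.Agent.L72 (O2N)

variable {G : Type*} [Group G] [Finite G] {a : V4 → G} {ψ ψ' : S6 →* G} {ρ : Fin 4 → G} {t : Fin 4 → Fin 4 → G}
  {e E : ℕ → G} {φ : S8 →* G}

namespace Fs

theorem dec (u : V4) : u = u 0 • ee 0 + u 1 • ee 1 + u 2 • ee 2 + u 3 • ee 3 := by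
  funext i
  fin_cases i <;> simp [ee]

theorem dot (u : V4) (j : Fin 4) : u ⬝ᵥ ee j = u j := by simp [ee]

theorem ee_ne : ∀ i j : Fin 4, i ≠ j → ee i j = 0 := by decide

theorem svee : ∀ k i : Fin 4, (sv (ee k) (ee i) = if i = k then -ee i else ee i) ∧
    sv (ee k) (-ee i) = if i = k then ee i else -ee i := by decide +kernel

theorem pm_inv : ∀ π : Equiv.Perm (Fin 4), pm π * pm π⁻¹ = 1 := by decide +kernel

theorem cmul (n x y : G) : n * (x * y) * n⁻¹ = n * x * n⁻¹ * (n * y * n⁻¹) := by group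

theorem span (h : TA a) {y : G} {u : V4} (hc : ∀ k, u k ≠ 0 → Commute y (a (ee k))) : Commute y (a u) := by
  have c : ∀ k, Commute y (a (u k • ee k)) := fun k => by
    by_cases u0 : u k = 0
    · rw [u0, zero_smul, h.zero]; exact Commute.one_right _
    · rw [h.smul]; exact (hc k u0).pow_right _
  rw [dec u, h.add, h.add, h.add]
  exact (((c 0).mul_right (c 1)).mul_right (c 2)).mul_right (c 3)

theorem ac (h : TA a) {n : G} {β : M4} (hb : ∀ i, n * a (ee i) * n⁻¹ = a (β *ᵥ ee i)) : Ac a n β := fun u => by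
  have c : ∀ k, n * a (u k • ee k) * n⁻¹ = a (β *ᵥ (u k • ee k)) := fun k => by
    rw [mulVec_smul, h.smul, h.smul, ← hb, conj_pow]
  rw [dec u, mulVec_add, mulVec_add, mulVec_add, h.add, h.add, h.add, h.add, h.add, h.add, cmul, cmul, cmul,
    c, c, c, c]

theorem rfc {r : G} {k i : Fin 4} (hr : Rf a (ee k) r) (hi : i ≠ k) : Commute r (a (ee i)) :=
  hr.comm_a (by rw [dot, ee_ne i k hi])

theorem rfi (h : TA a) {r : G} {k : Fin 4} (hr : Rf a (ee k) r) : r * a (ee k) * r⁻¹ = (a (ee k))⁻¹ := by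
  rw [hr.2, (svee k k).1, if_pos rfl, h.neg]

theorem fix {x y : G} (h : Commute x y) : x * y * x⁻¹ = y := by rw [h.eq, mul_inv_cancel_right]

theorem conj {n x : G} {i j i' j' : Fin 4} (h : TT a ρ i j x)
    (h1 : ∀ k', k' ≠ i' → k' ≠ j' → ∃ k, k ≠ i ∧ k ≠ j ∧
      (n * a (ee k) * n⁻¹ = a (ee k') ∨ n * a (ee k) * n⁻¹ = (a (ee k'))⁻¹))
    (ri : n * ρ i * n⁻¹ = ρ i') (rj : n * ρ j * n⁻¹ = ρ j') (ai : n * a (ee i) * n⁻¹ = a (ee i'))
    (aj : n * a (ee j) * n⁻¹ = a (ee j')) : TT a ρ i' j' (n * x * n⁻¹) where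
  sq := by rw [← cmul, h.sq]; group
  cg k' b c := by
    obtain ⟨k, b, c, e⟩ := h1 k' b c
    have := (qt_comm (g := n)).2 (h.cg k b c)
    rcases e with e | e <;> rw [e] at this
    · exact this
    · exact Commute.inv_right_iff.1 this
  ci := ri ▸ qt_comm.2 h.ci
  cj := rj ▸ qt_comm.2 h.cj
  bi := by rw [← ri, ← ai, ← cmul, ← cmul, conj_pow, h.bi]; group
  bj := by rw [← rj, ← aj, ← cmul, ← cmul, conj_pow, h.bj]; group

theorem symm {x : G} {i j : Fin 4} (h : TT a ρ i j x) : TT a ρ j i x :=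
  ⟨h.sq, fun k b c => h.cg k c b, h.cj, h.ci, h.bj, h.bi⟩

end Fs

open Fs

theorem TT.conj {n x : G} {π : Equiv.Perm (Fin 4)} {i j : Fin 4} (h : TT a ρ i j x) (hn : Ac a n (pm π))
    (hρ : ∀ k, n * ρ k * n⁻¹ = ρ (π k)) : TT a ρ (π i) (π j) (n * x * n⁻¹) :=
  Fs.conj h (fun k' b c => ⟨π.symm k', fun e => b (by rw [← e, π.apply_symm_apply]),
      fun e => c (by rw [← e, π.apply_symm_apply]), Or.inl (by rw [hn, pm_ee, π.apply_symm_apply])⟩)
    (hρ i) (hρ j) (by rw [hn, pm_ee]) (by rw [hn, pm_ee])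

theorem PF.fs {x : G} (h : PF a ρ x) : ∃ t, FS a ρ t ∧ t 0 1 = x := by
  have ex : ∀ i j : Fin 4, ∃ y, i ≠ j → TT a ρ i j y ∧ (∀ y', TT a ρ i j y' → y' = y) ∧
      nrm (ρ j * y) (a (ee j)) = 1 := fun i j => by
    by_cases hij : i = j
    · exact ⟨1, fun k => absurd hij k⟩
    obtain ⟨π, rfl, rfl⟩ := (by decide +kernel :
      ∀ i j : Fin 4, i ≠ j → ∃ π : Equiv.Perm (Fin 4), π 0 = i ∧ π 1 = j) i j hij
    obtain ⟨n, hn, hρ⟩ := h.sw π
    refine ⟨n * x * n⁻¹, fun _ => ⟨h.tt.conj hn hρ, fun y' hy => ?_, ?_⟩⟩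
    · have := hy.conj (π := π⁻¹) (hn.inv (pm_inv π)) fun k => by
        have q := hρ (π⁻¹ k)
        rw [show π (π⁻¹ k) = k from π.apply_symm_apply k] at q
        rw [← q]; group
      rw [show π⁻¹ (π 0) = 0 from π.symm_apply_apply 0, show π⁻¹ (π 1) = 1 from π.symm_apply_apply 1] at this
      rw [← h.uq _ this]; group
    · rw [← hρ, ← pm_ee, ← hn, ← cmul, nrm_cj, h.nr]; group
  choose t ht using ex
  refine ⟨t, ⟨h.toTA, h.rf, h.rr, fun i j k => (ht i j k).1, fun i j k => (ht i j k).2.1,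
    fun i j k => (ht j i k.symm).2.1 _ (Fs.symm (ht i j k).1), fun i j k hij => ?_,
    fun i j k => (ht i j k).2.2, fun π => ?_⟩, ((ht 0 1 (by decide)).2.1 _ h.tt).symm⟩
  · by_cases ki : i = k
    · exact ki ▸ (ht i j hij).1.ci
    by_cases kj : j = k
    · exact kj ▸ (ht i j hij).1.cj
    have := (ht i j hij).2.1 _ (Fs.conj (n := ρ k) (ht i j hij).1
      (fun k' b c => ⟨k', b, c, by
        by_cases q : k' = k
        · exact Or.inr (q ▸ rfi h.toTA (h.rf k'))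
        · exact Or.inl (fix (rfc (h.rf k) q))⟩)
      (fix (h.rr k i)) (fix (h.rr k j)) (fix (rfc (h.rf k) ki)) (fix (rfc (h.rf k) kj)))
    exact Commute.symm (mul_inv_eq_iff_eq_mul.1 this)
  · obtain ⟨n, hn, hρ⟩ := h.sw π
    exact ⟨n, hn, hρ, fun i j k => (ht _ _ (π.injective.ne k)).2.1 _ ((ht i j k).1.conj hn hρ)⟩

theorem Fs.two (h : TA a) (i : Fin 4) : a (ee i) * a (ee i) ≠ 1 := fun e =>
  (by decide : ∀ i : Fin 4, ee i + ee i ≠ 0) i (h.inj _ (by rw [h.add, e]))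

theorem FS.r2 (h : FS a ρ t) (i : Fin 4) : ρ i * ρ i = 1 ∧ ρ i ≠ 1 := by
  refine ⟨(h.rf i).1, fun e => Fs.two h.toTA i ?_⟩
  have := rfi h.toTA (h.rf i)
  rw [e, one_mul, inv_one, mul_one] at this
  exact mul_eq_one_iff_eq_inv.2 this

theorem Fs.sq2 {x y : G} (c : Commute x y) (hx : x * x = 1) (hy : y * y = 1) : x * y * (x * y) = 1 := by
  rw [← pow_two, c.mul_pow, pow_two, pow_two, hx, hy, one_mul]

theorem Fs.one23 {x : G} (h2 : x * x = 1) (h3 : x ^ 3 = 1) : x = 1 := by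
  rwa [pow_succ, pow_two, h2, one_mul] at h3

theorem FS.v2 (h : FS a ρ t) {i j : Fin 4} (hij : i ≠ j) : ρ j * t i j * (ρ j * t i j) = 1 ∧ ρ j * t i j ≠ 1 := by
  refine ⟨sq2 (h.tt i j hij).cj.symm (h.r2 j).1 (h.tt i j hij).sq, fun e => Fs.two h.toTA i ?_⟩
  have e1 : t i j = ρ j := mul_left_cancel (e.trans (h.r2 j).1.symm)
  have b := (h.tt i j hij).bi
  rw [e1] at b
  have y2 : ρ i * a (ee i) * (ρ i * a (ee i)) = 1 := by
    have := rfi h.toTA (h.rf i)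
    rw [inv_eq_of_mul_eq_one_right (h.r2 i).1] at this
    rw [← mul_assoc, this, inv_mul_cancel]
  have z := one23 (sq2 ((h.rr j i).mul_right (rfc (h.rf j) hij)) (h.r2 j).1 y2) b
  rw [← mul_assoc] at z
  rw [eq_inv_of_mul_eq_one_right z, ← _root_.mul_inv_rev, sq2 (h.rr j i) (h.r2 j).1 (h.r2 i).1, inv_one]

theorem FS.Ig_le (h : FS a ρ t) : Ig a ≤ 𝒞[ρ 0] := fun g hg => by
  obtain ⟨u, u0, rfl⟩ := h.toTA.mem_Ig.1 hg
  exact mem_cent1.2 ((h.rf 0).comm_a (by rw [dot, u0])).symm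

theorem Fs.cv (h : FS a ρ t) {j : Fin 4} (hj : j ≠ 0) {u : V4} (u0 : u 0 = 0) (uj : u j = 0) :
    Commute (ρ j * t 0 j) (a u) :=
  ((h.rf j).comm_a (by rw [dot, uj])).mul_left (span h.toTA fun k hk =>
    (h.tt 0 j hj.symm).cg k (fun e => hk (e ▸ u0)) fun e => hk (e ▸ uj))

theorem FS.U_cen (h : FS a ρ t) {j : Fin 4} (hj : j ≠ 0) {u : V4} (u0 : u 0 = 0) (uj : u j = 0) : Ug a ρ t j ≤ 𝒞[a u] := by
  refine (closure_le _).2 ?_
  rintro _ (rfl | rfl | rfl) <;> refine mem_cent1.2 ?_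
  · exact (h.rf 0).comm_a (by rw [dot, u0])
  · exact Fs.cv h hj u0 uj
  · exact ((h.toTA.comm _ u).mul_left (Fs.cv h hj u0 uj)).mul_left (h.toTA.comm _ u).inv_left

theorem Fs.m0 {j : Fin 4} : ρ 0 ∈ Ug a ρ t j := subset_closure (by simp)

theorem Fs.m1 {j : Fin 4} : ρ j * t 0 j ∈ Ug a ρ t j := subset_closure (by simp)

theorem Fs.m2 {j : Fin 4} : a (ee j) * (ρ j * t 0 j) * (a (ee j))⁻¹ ∈ Ug a ρ t j := subset_closure (by simp)

theorem Fs.m3 (h : FS a ρ t) {j : Fin 4} (hj : j ≠ 0) :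
    a (ee j) * (a (ee j) * (ρ j * t 0 j) * (a (ee j))⁻¹) * (a (ee j))⁻¹ =
      (ρ j * t 0 j * (a (ee j) * (ρ j * t 0 j) * (a (ee j))⁻¹))⁻¹ := by
  refine eq_inv_of_mul_eq_one_right ?_
  rw [← h.nr 0 j hj.symm, nrm]; group

theorem Fs.nrm_of {j : Fin 4} {n : G} (h0 : n * ρ 0 * n⁻¹ ∈ Ug a ρ t j) (h1 : n * (ρ j * t 0 j) * n⁻¹ ∈ Ug a ρ t j)
    (h2 : n * (a (ee j) * (ρ j * t 0 j) * (a (ee j))⁻¹) * n⁻¹ ∈ Ug a ρ t j) : n ∈ 𝒩(Ug a ρ t j) := by
  refine mem_norm_of_cj_le ?_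
  rw [cj, Ug, MonoidHom.map_closure, closure_le]
  rintro _ ⟨_, rfl | rfl | rfl, rfl⟩
  exacts [h0, h1, h2]

theorem Fs.gN (h : FS a ρ t) {j : Fin 4} (hj : j ≠ 0) : a (ee j) ∈ 𝒩(Ug a ρ t j) :=
  nrm_of (by rw [fix (rfc (h.rf 0) hj).symm]; exact m0) m2 (by rw [m3 h hj]; exact inv_mem (mul_mem m1 m2))

theorem Fs.split (h : TA a) (u : V4) (j : Fin 4) : a u = a (ee j) ^ (u j).val * a (u - u j • ee j) := by
  rw [← h.smul, ← h.add, add_sub_cancel]

theorem Fs.sub0 {u : V4} {j : Fin 4} (hj : j ≠ 0) (u0 : u 0 = 0) : (u - u j • ee j) 0 = 0 := by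
  rw [Pi.sub_apply, Pi.smul_apply, ee_ne j 0 hj, u0, smul_zero, sub_zero]

theorem Fs.subj (u : V4) (j : Fin 4) : (u - u j • ee j) j = 0 := by simp [ee]

theorem FS.U_norm (h : FS a ρ t) {j : Fin 4} (hj : j ≠ 0) : Ig a ≤ 𝒩(Ug a ρ t j) := fun g hg => by
  obtain ⟨u, u0, rfl⟩ := h.toTA.mem_Ig.1 hg
  rw [split h.toTA u j]
  exact mul_mem (pow_mem (gN h hj) _)
    (centralizer_le_normalizer _ (le_cent1_iff.1 (h.U_cen hj (sub0 hj u0) (subj u j))))

theorem FS.U_comm (h : FS a ρ t) {j : Fin 4} (hj : j ≠ 0) :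
    Ug a ρ t j ≤ 𝒞(Ug a ρ t j) ∧ IsPGroup 2 (Ug a ρ t j) ∧ ∀ x ∈ Ug a ρ t j, x * x = 1 := by
  have v2 := (h.v2 hj.symm).1
  have c01 : Commute (ρ 0) (ρ j * t 0 j) := (h.rr 0 j).mul_right (h.tt 0 j hj.symm).ci.symm
  have cg := rfc (h.rf 0) hj
  have e3 := m3 h hj
  rw [Ug]
  generalize ρ j * t 0 j = v at v2 c01 e3
  generalize a (ee j) = g at cg e3
  have w2 : ∀ g v : G, v * v = 1 → g * v * g⁻¹ * (g * v * g⁻¹) = 1 := fun g v e => by rw [← cmul, e]; group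
  have c02 : Commute (ρ 0) (g * v * g⁻¹) := (cg.mul_right c01).mul_right cg.inv_right
  have c12 : Commute v (g * v * g⁻¹) := by
    have := w2 g _ (w2 g v v2)
    rw [e3, ← _root_.mul_inv_rev, inv_eq_one] at this
    have := eq_inv_of_mul_eq_one_left this
    rwa [_root_.mul_inv_rev, inv_eq_of_mul_eq_one_right v2, inv_eq_of_mul_eq_one_right (w2 g v v2)] at this
  have ab : Subgroup.closure {ρ 0, v, g * v * g⁻¹} ≤ 𝒞(Subgroup.closure {ρ 0, v, g * v * g⁻¹}) := by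
    rw [centralizer_closure, closure_le]
    rintro _ (rfl | rfl | rfl) _ (rfl | rfl | rfl)
    exacts [rfl, c01.symm, c02.symm, c01, rfl, c12.symm, c02, c12, rfl]
  have sq : ∀ x ∈ Subgroup.closure {ρ 0, v, g * v * g⁻¹}, x * x = 1 := fun x hx => by
    induction hx using closure_induction with
    | mem x hx => rcases hx with rfl | rfl | rfl; exacts [(h.r2 0).1, v2, w2 g v v2]
    | one => exact one_mul 1
    | mul x y hx hy a b => exact sq2 (ab hy x hx) a b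
    | inv x _ a => rw [← _root_.mul_inv_rev, a, inv_one]
  exact ⟨ab, fun x => ⟨1, Subtype.ext (by simpa [pow_two] using sq x x.2)⟩, sq⟩

theorem FS.move (h : FS a ρ t) {j : Fin 4} (hj : j ≠ 0) {u : V4} (u0 : u 0 = 0) (uj : u j ≠ 0) :
    ¬ Commute (a u) (ρ j * t 0 j) := fun c => by
  have c1 : Commute (a (u j • ee j)) (ρ j * t 0 j) := by
    have e : a (u j • ee j) = a u * (a (u - u j • ee j))⁻¹ := by
      rw [← h.toTA.neg, ← h.add, neg_sub, add_sub_cancel]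
    rw [e]
    exact c.mul_left (Fs.cv h hj (sub0 hj u0) (subj u j)).symm.inv_left
  have c2 : Commute (a (ee j)) (ρ j * t 0 j) := by
    have := c1.pow_left (u j).val
    rwa [← h.toTA.smul, smul_smul, bas_sq _ uj, one_smul] at this
  have e := m3 h hj
  rw [fix c2, fix c2, (h.v2 hj.symm).1, inv_one] at e
  exact (h.v2 hj.symm).2 e

theorem Fs.rN (h : FS a ρ t) {j : Fin 4} (hj : j ≠ 0) (k : Fin 4) : ρ k ∈ 𝒩(Ug a ρ t j) := by
  have c : Commute (ρ k) (ρ j * t 0 j) := (h.rr k j).mul_right (h.tr 0 j k hj.symm).symm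
  refine nrm_of (by rw [fix (h.rr k 0)]; exact m0) (by rw [fix c]; exact m1) ?_
  by_cases q : j = k
  · subst q
    have e : ρ j * (a (ee j))⁻¹ * (ρ j)⁻¹ = a (ee j) := by
      rw [← conj_inv, rfi h.toTA (h.rf j), inv_inv]
    rw [cmul, cmul, fix c, e, rfi h.toTA (h.rf j)]
    have := (mem_normalizer_iff.1 (inv_mem (gN h hj)) _).1 (m1 (a := a) (ρ := ρ) (t := t) (j := j))
    rwa [inv_inv] at this
  · have := rfc (h.rf k) q
    rw [fix ((this.mul_right c).mul_right this.inv_right)]; exact m2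

theorem Fs.signs (h : FS a ρ t) (l : Finset (Fin 4)) : ∃ d, (∀ i, d * a (ee i) * d⁻¹ = a (if i ∈ l then -ee i else ee i)) ∧
    Commute d (ρ 0) ∧ ∀ j, j ≠ 0 → d ∈ 𝒩(Ug a ρ t j) := by
  induction l using Finset.induction_on with
  | empty => exact ⟨1, fun i => by simp, Commute.one_left _, fun _ _ => one_mem _⟩
  | insert k l hk ih =>
    obtain ⟨d, h1, h2, h3⟩ := ih
    refine ⟨ρ k * d, fun i => ?_, (h.rr k 0).mul_left h2, fun j hj => mul_mem (rN h hj k) (h3 j hj)⟩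
    rw [show ρ k * d * a (ee i) * (ρ k * d)⁻¹ = ρ k * (d * a (ee i) * d⁻¹) * (ρ k)⁻¹ by group, h1, (h.rf k).2]
    by_cases q : i = k
    · subst q
      rw [if_neg hk, (svee i i).1, if_pos rfl, if_pos (Finset.mem_insert_self _ _)]
    · by_cases m : i ∈ l
      · rw [if_pos m, (svee k i).2, if_neg q, if_pos (Finset.mem_insert_of_mem m)]
      · rw [if_neg m, (svee k i).1, if_neg q, if_neg (by simp [q, m])]

theorem FS.iso0 (h : FS a ρ t) {β : M4} (hβ : Iso0 β) : ∃ n, Ac a n β ∧ Commute n (ρ 0) ∧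
    ∀ j k : Fin 4, j ≠ 0 → (β *ᵥ ee j = ee k ∨ β *ᵥ ee j = -ee k) → cj n (Ug a ρ t j) = Ug a ρ t k := by
  have uq : ∀ (v : V4) (k m : Fin 4), (v = ee k ∨ v = -ee k) → (v = ee m ∨ v = -ee m) → k = m := by
    rintro v k m (rfl | rfl) <;> revert k m <;> decide
  have ex : ∀ i, ∃ k, β *ᵥ ee i = ee k ∨ β *ᵥ ee i = -ee k := fun i => by
    by_cases q : i = 0
    · exact ⟨0, Or.inl (q ▸ hβ.2)⟩
    · exact (hβ.ee q).imp fun _ => And.right
  choose σ hσ using ex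
  have inj : Function.Injective σ := fun i i' e => by
    have d := iso_dot hβ.1 (ee i) (ee i')
    by_contra q
    rw [dot (ee i), ee_ne i i' q] at d
    have p := hσ i'
    rw [← e] at p
    rcases hσ i with b | b <;> rcases p with c | c <;> rw [b, c] at d <;> revert d <;> generalize σ i = k <;>
      revert k <;> decide
  let π : Equiv.Perm (Fin 4) := Equiv.ofBijective σ (Finite.injective_iff_bijective.1 inj)
  have p0 : π 0 = 0 := uq _ _ _ (hσ 0) (Or.inl hβ.2)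
  obtain ⟨n, hn, hρ, ht⟩ := h.sw π
  obtain ⟨d, h1, h2, h3⟩ := signs h (Finset.univ.filter fun i => β *ᵥ ee i = -ee (σ i))
  have n0 : n * ρ 0 * n⁻¹ = ρ 0 := by rw [hρ, p0]
  refine ⟨n * d, ac h.toTA fun i => ?_, Commute.mul_left (mul_inv_eq_iff_eq_mul.1 n0) h2, fun j k hj e => ?_⟩
  · rw [show n * d * a (ee i) * (n * d)⁻¹ = n * (d * a (ee i) * d⁻¹) * n⁻¹ by group, h1, hn]
    by_cases q : β *ᵥ ee i = -ee (σ i)
    · rw [if_pos (by simpa using q), mulVec_neg, pm_ee, q]; rfl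
    · rw [if_neg (by simpa using q), pm_ee, (hσ i).resolve_right q]; rfl
  · obtain rfl : π j = k := uq _ _ _ (hσ j) e
    have e1 : n * (ρ j * t 0 j) * n⁻¹ = ρ (π j) * t 0 (π j) := by rw [cmul, hρ, ht 0 j hj.symm, p0]
    have e2 : n * a (ee j) * n⁻¹ = a (ee (π j)) := by rw [hn, pm_ee]
    rw [cj_mul, cj_eq_of_mem_norm (h3 j hj), cj, Ug, Ug, MonoidHom.map_closure, Set.image_insert_eq,
      Set.image_pair, ← e1, ← e2]
    congr 2
    congr 2
    simp only [MulEquiv.toMonoidHom_eq_coe, MonoidHom.coe_coe, MulAut.conj_apply]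
    group

theorem PS.uniq (h : PS a ρ t ψ) (h' : PS a ρ t ψ') : ψ = ψ' := by
  refine MonoidHom.eq_of_eqOn_dense gen_S ?_
  rintro _ (rfl | rfl | rfl | rfl | rfl | rfl | rfl | rfl)
  exacts [(h.x _).trans (h'.x _).symm, (h.y _).trans (h'.y _).symm, (h.x _).trans (h'.x _).symm,
    (h.y _).trans (h'.y _).symm, (h.x _).trans (h'.x _).symm, (h.y _).trans (h'.y _).symm,
    h.t3.trans h'.t3.symm, h.t6.trans h'.t6.symm]

theorem PS.pjm (h : PS a ρ t ψ) (ta : TA a) {u : V4} (u0 : u 0 = 0) : ψ (jm u) = a u := by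
  rw [jm, map_mul, map_mul, map_pow, map_pow, map_pow, h.c, h.c, h.c, ← ta.smul, ← ta.smul, ← ta.smul,
    ← ta.add, ← ta.add]
  conv_rhs => rw [dec u, u0, zero_smul, zero_add]
  rfl

end Cfsg.Agent.S86
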