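import Cfsg.Agent.S86.SimB
import Cfsg.Agent.S86.Fs

/-! Project S86 (S3159): the second frame (notes/S86.md, PfF). -/

set_option autoImplicit false
set_option linter.unusedSectionVars false

namespace Cfsg.Agent.S86

open Subgroup H49 Matrix F42
open Cfsg.Agent.L72 (O2N)

variable {G : Type*} [Group G] [Finite G] {a : V4 → G} {ψ ψ' : S6 →* G} {ρ : Fin 4 → G} {t : Fin 4 → Fin 4 → G}
  {e E : ℕ → G} {φ : S8 →* G}

namespace PfF

theorem model : tq * tq = 1 ∧ Commute tq (cm 0) ∧ Commute tq sw ∧ Commute tq sw1 ∧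
    (tq * (sw * cc)) ^ 3 = 1 ∧ (tq * (sw1 * ff⁻¹)) ^ 3 = 1 := by
  simp only [comm_iff, cd_eq_iff, tq, sw1, sw, cc, ff, cm, xm, ym, Em, cd_mul, cd_pow, cd_inv, cd_tv, cd_one]
  decide +kernel

theorem vec : sf *ᵥ ee 0 = cv ∧ sf *ᵥ ee 1 = -fv ∧ sf *ᵥ ee 2 = ee 0 + ee 1 ∧ sf *ᵥ ee 3 = -ee 0 + ee 1 ∧
    cv 0 = 0 ∧ fv 0 = 0 ∧ ee 0 = -ee 0 + ee 1 + -(ee 0 + ee 1) ∧ ee 1 = -(-ee 0 + ee 1 + (ee 0 + ee 1)) := by
  decide +kernel

/-- two families of reflections are conjugate under the torus -/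
theorem adj (tj : TJ0 a) {r r' : Fin 4 → G} (h : ∀ k, Rf a (ee k) (r k)) (h' : ∀ k, Rf a (ee k) (r' k)) :
    ∃ u, ∀ k, a u * r k * (a u)⁻¹ = r' k := by
  choose m hm using fun k => tj.rf_uniq (by rw [(qt_ee' k).1]; decide) (h k) (h' k)
  refine ⟨fun k => (m k : ZMod 3), fun k => ?_⟩
  generalize hu : (fun k => (m k : ZMod 3) : V4) = u
  have e : a u = a (ee k) ^ m k * a (u - u k • ee k) := by
    rw [tj.pow, ← tj.add, show (m k : ZMod 3) = u k from congrFun hu k, add_sub_cancel]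
  have c := (h k).comm_a (u := u - u k • ee k) (by rw [Fs.dot, Fs.subj])
  rw [(hm k).2, e, _root_.mul_inv_rev, mul_assoc _ _ (r k), ← c.eq]
  group

theorem frame (tj : TJ0 a) (h : ∀ k, Rf a (ee k) (ρ k)) (π : Equiv.Perm (Fin 4)) :
    ∃ n, Ac a n (pm π) ∧ ∀ k, n * ρ k * n⁻¹ = ρ (π k) := by
  obtain ⟨n, -, hn⟩ := tj.iso_gen tj.hasW_norm (sim_pm π)
  obtain ⟨u, hu⟩ := adj tj (r := fun k => n * ρ (π.symm k) * n⁻¹) (fun k => by
    have := (h (π.symm k)).cj hn (Or.inl (sim_pm π))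
    rwa [pm_ee, π.apply_symm_apply] at this) h
  refine ⟨a u * n, fun v => ?_, fun k => ?_⟩
  · rw [show a u * n * a v * (a u * n)⁻¹ = a u * (n * a v * n⁻¹) * (a u)⁻¹ by group, hn, Fs.fix (tj.comm _ _)]
  · rw [← hu (π k), π.symm_apply_apply]; group

end PfF

theorem PfF.exρ (h : St a ψ) (tj : TJ0 a) :
    ∃ ρ : Fin 4 → G, (∀ k, Rf (tw a sf) (ee k) (ρ k)) ∧ ρ 0 = ψ sw ∧ ρ 1 = ψ sw1 := by
  have tj' := tj.tw sim_sf
  obtain ⟨v0, v1, -⟩ := PfF.vec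
  obtain ⟨r2, h2⟩ := tj'.rf (ee 2) (by decide)
  obtain ⟨r3, h3⟩ := tj'.rf (ee 3) (by decide)
  have h0 : Rf (tw a sf) (ee 0) (ψ sw) := (Rf_tw sim_sf).2 (by rw [v0]; exact h.rfs.1)
  have h1 : Rf (tw a sf) (ee 1) (ψ sw1) := (Rf_tw sim_sf).2 (by rw [v1]; exact Rf_neg.2 h.rfs.2)
  generalize ψ sw = x at h0 ⊢
  generalize ψ sw1 = y at h1 ⊢
  refine ⟨![x, y, r2, r3], fun k => ?_, rfl, rfl⟩
  fin_cases k
  exacts [h0, h1, h2, h3]

theorem SM.pf (h : SM a ψ) (tj : TJ0 a) : ∃ ρ t, FS (tw a sf) ρ t ∧ ρ 0 = ψ sw ∧ ρ 1 = ψ sw1 ∧ t 0 1 = ψ tq := by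
  have tj' := tj.tw sim_sf
  have st := h.toSt
  obtain ⟨m1, m2, m3, m4, m5, m6⟩ := PfF.model
  obtain ⟨v0, v1, v2, v3, c0, f0, w0, w1⟩ := PfF.vec
  have nz : ∀ k : Fin 4, ee k ⬝ᵥ ee k ≠ 0 := by decide
  obtain ⟨ρ, rf, r0, r1⟩ := PfF.exρ st tj
  have a0 : tw a sf (ee 0) = ψ cc := by rw [tw, v0, ← st.pjm c0, jm_named.1]
  have a1 : tw a sf (ee 1) = ψ ff⁻¹ := by rw [tw, v1, tj.neg, ← st.pjm f0, jm_named.2.1, map_inv]
  have e1 : a (ee 1) = ψ (cm 0) := (h.c 0).symm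
  have tt : TT (tw a sf) ρ 0 1 (ψ tq) :=
    { sq := by rw [← map_mul, m1, map_one]
      cg := fun k b c => by
        have p := (h.bL tq).symm
        have q : Commute (ψ tq) (a (ee 1)) := by rw [e1]; exact m2.map ψ
        obtain rfl | rfl := (by decide : ∀ k : Fin 4, k ≠ 0 → k ≠ 1 → k = 2 ∨ k = 3) k b c
        · rw [tw, v2, tj.add]; exact p.mul_right q
        · rw [tw, v3, tj.add, tj.neg]; exact p.inv_right.mul_right q
      ci := by rw [r0]; exact m3.map ψ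
      cj := by rw [r1]; exact m4.map ψ
      bi := by rw [r0, a0, ← map_mul, ← map_mul, ← map_pow, m5, map_one]
      bj := by rw [r1, a1, ← map_mul, ← map_mul, ← map_pow, m6, map_one] }
  have uq : ∀ y, TT (tw a sf) ρ 0 1 y → y = ψ tq := fun y hy => by
    have p := hy.cg 2 (by decide) (by decide)
    have q := hy.cg 3 (by decide) (by decide)
    rw [tw, v2] at p
    rw [tw, v3] at q
    have p0 := q.mul_right p.inv_right
    have p1 := (q.mul_right p).inv_right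
    rw [← tj.neg, ← tj.add, ← w0] at p0
    rw [← tj.add, ← tj.neg, ← w1, e1] at p1
    obtain ⟨γ, -, rfl⟩ := st.two (g := y) ⟨1, by rw [pow_one, pow_two, hy.sq]⟩ p0
    have cm' : ∀ {x y : S6}, Commute (ψ x) (ψ y) → Commute x y := fun k =>
      h.ψi (by rw [map_mul, map_mul]; exact k)
    obtain ⟨sq, -, ci, cj, bi, bj⟩ := hy
    rw [r0] at ci
    rw [r1] at cj
    rw [r0, a0, ← map_mul, ← map_mul, ← map_pow, ← map_one ψ] at bi
    rw [r1, a1, ← map_mul, ← map_mul, ← map_pow, ← map_one ψ] at bj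
    rw [← map_mul, ← map_one ψ] at sq
    exact congrArg ψ (mT' (cm' p1) (h.ψi sq) (cm' ci) (cm' cj) (h.ψi bi) (h.ψi bj))
  have nr : nrm (ρ 1 * ψ tq) (tw a sf (ee 1)) = 1 := by
    have : ∀ x y : S6, nrm (ψ x) (ψ y) = ψ (nrm x y) := fun x y => by simp only [nrm, map_mul, map_inv]
    rw [r1, a1, ← map_mul, this, vq_eq.2.2.1, map_one]
  have rr : ∀ i j, Commute (ρ i) (ρ j) := fun i j => by
    by_cases q : i = j
    · exact q ▸ Commute.refl _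
    · exact tj'.rf_comm (nz i) (nz j) (by rw [Fs.dot, Fs.ee_ne i j q]) (rf i) (rf j)
  obtain ⟨t, ht, e⟩ := PF.fs ⟨h.toTA.tw sim_sf, rf, rr, PfF.frame tj' rf, tt, uq, nr⟩
  exact ⟨ρ, t, ht, r0, r1, e⟩

end Cfsg.Agent.S86
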