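import Cfsg.Agent.S86.BaseA

set_option autoImplicit false
set_option linter.unusedSectionVars false

namespace Cfsg.Agent.S86

open Subgroup H49 Matrix F42
open Cfsg.Agent.L72 (O2N)

namespace Setup

variable {G : Type*} [Group G] [Finite G] {b : G} {ψ : S6 →* G}

theorem mem_cyc {R : Subgroup G} (hR : IsCyclic R) (hb : b ∈ R) (ob : orderOf b = 3) {x : G} (hx : x ∈ R)
    (x3 : x ^ 3 = 1) : x ∈ zpowers b := by
  classical
  have := Fintype.ofFinite R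
  have h := IsCyclic.card_pow_eq_one_le (α := R) (n := 3) (by norm_num)
  have o' : orderOf (⟨b, hb⟩ : R) = 3 := by rw [← ob]; exact (Subgroup.orderOf_mk b hb)
  have hs : (Finset.univ.filter fun y : R => y ∈ zpowers (⟨b, hb⟩ : R)) ⊆
      Finset.univ.filter fun y : R => y ^ 3 = 1 := by
    intro y hy
    simp only [Finset.mem_filter, Finset.mem_univ, true_and] at hy ⊢
    exact orderOf_dvd_iff_pow_eq_one.1 (o' ▸ orderOf_dvd_of_mem_zpowers hy)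
  have hc : (Finset.univ.filter fun y : R => y ∈ zpowers (⟨b, hb⟩ : R)).card = 3 := by
    rw [← o', ← Nat.card_zpowers, Nat.card_eq_fintype_card, Fintype.card_subtype]
  have e := Finset.eq_of_subset_of_card_le hs (h.trans hc.ge)
  have : (⟨x, hx⟩ : R) ∈ Finset.univ.filter fun y : R => y ^ 3 = 1 := by
    simp only [Finset.mem_filter, Finset.mem_univ, true_and]
    exact Subtype.ext x3
  rw [← e] at this
  simp only [Finset.mem_filter, Finset.mem_univ, true_and] at this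
  obtain ⟨k, hk⟩ := this
  exact ⟨k, congrArg Subtype.val hk⟩

theorem isP_zp3 {n : G} (h : El 3 n) : IsPGroup 3 (zpowers n) := by
  obtain ⟨k, h⟩ := h
  rintro ⟨_, j, rfl⟩
  refine ⟨k, Subtype.ext ?_⟩
  show (n ^ j) ^ 3 ^ k = 1
  rw [← zpow_natCast, ← _root_.zpow_mul, mul_comm, _root_.zpow_mul, zpow_natCast, h, _root_.one_zpow]

theorem jm_zero : jm 0 = 1 := by simp [jm]

theorem jm_e0 (c : ZMod 3) (u : V4) : jm (u + c • ee 0) = jm u := by simp [jm, ee]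

theorem Jm_cube {γ : S6} (h : γ ∈ Jm) : γ ^ 3 = 1 := by
  obtain ⟨u, -, rfl⟩ := mem_Jm.1 h
  rw [pow_succ, pow_two, ← jm_add, ← jm_add, bas_two, neg_add_cancel, jm_zero]

/-- the data on `C(b)` that are invariant under conjugation -/
structure Pre (b : G) (ψ : S6 →* G) : Prop where
  ob : orderOf b = 3
  ψi : Function.Injective ψ
  bL : ∀ γ, Commute b (ψ γ)
  nrm : ∀ g, Commute g b → ∃ γ, ∀ δ, g * ψ δ * g⁻¹ = ψ (γ * δ * γ⁻¹)
  cyc : ∀ P : Subgroup G, IsPGroup 3 P → (∀ x ∈ P, ∀ δ, Commute x (ψ δ)) → IsCyclic P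

theorem comm_conj {x y : G} (g : G) : Commute (g * x * g⁻¹) (g * y * g⁻¹) ↔ Commute x y := by
  constructor
  · intro h
    have := h.map (MulAut.conj g⁻¹)
    simpa [mul_assoc] using this
  · intro h
    exact h.map (MulAut.conj g)

theorem Pre.cj (h : Pre b ψ) (g : G) : Pre (g * b * g⁻¹) (cjh g ψ) where
  ob := by rw [← h.ob]; exact (MulAut.conj g).orderOf_eq b
  ψi := (MulAut.conj g).injective.comp h.ψi
  bL γ := (comm_conj g).2 (h.bL γ)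
  nrm x hx := by
    obtain ⟨γ, hγ⟩ := h.nrm (g⁻¹ * x * g) ((comm_conj g).1 (by simpa [mul_assoc] using hx))
    refine ⟨γ, fun δ => ?_⟩
    rw [cjh_apply, cjh_apply, ← hγ]
    group
  cyc P hP hc := by
    refine (isCyclic_cj (g := g⁻¹)).1 (h.cyc _ (isPGroup_cj.2 hP) fun x hx δ => ?_)
    have := hc _ (mem_cj.1 hx) δ
    rw [cjh_apply, inv_inv] at this
    exact (comm_conj g).1 this

theorem Pre.b3 (h : Pre b ψ) : b ^ 3 = 1 := h.ob ▸ pow_orderOf_eq_one b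

theorem Pre.uq (h : Pre b ψ) {g : G} {γ γ' : S6} (e : ∀ δ, g * ψ δ * g⁻¹ = ψ (γ * δ * γ⁻¹))
    (e' : ∀ δ, g * ψ δ * g⁻¹ = ψ (γ' * δ * γ'⁻¹)) : γ = γ' := by
  have : γ'⁻¹ * γ = 1 := center_S6 fun δ => by
    have := h.ψi ((e δ).symm.trans (e' δ))
    show γ'⁻¹ * γ * δ = δ * (γ'⁻¹ * γ)
    calc _ = γ'⁻¹ * (γ * δ * γ⁻¹) * γ := by group
      _ = _ := by rw [this]; group
  exact (inv_mul_eq_one.1 this).symm

/-- the projection of `C(b)` to `Sp₆(2)` -/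
def IsPr (b : G) (ψ : S6 →* G) (π : 𝒞[b] →* S6) : Prop :=
  ∀ (g : 𝒞[b]) δ, (g : G) * ψ δ * (g : G)⁻¹ = ψ (π g * δ * (π g)⁻¹)

theorem Pre.proj (h : Pre b ψ) : ∃ π, IsPr b ψ π := by
  choose f hf using fun g : 𝒞[b] => h.nrm g (mem_cent1.1 g.2)
  refine ⟨MonoidHom.mk' f fun x y => h.uq (hf (x * y)) fun δ => ?_, hf⟩
  calc _ = (x : G) * ((y : G) * ψ δ * (y : G)⁻¹) * (x : G)⁻¹ := by
        rw [Subgroup.coe_mul]; group
    _ = _ := by
        rw [hf, hf]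
        exact congrArg ψ (by group)

variable {π : 𝒞[b] →* S6}

theorem Pre.ker (h : Pre b ψ) (hπ : IsPr b ψ π) {g : 𝒞[b]} : π g = 1 ↔ ∀ δ, Commute (g : G) (ψ δ) := by
  constructor
  · intro e δ
    have := hπ g δ
    rw [e, one_mul, inv_one, mul_one] at this
    exact mul_inv_eq_iff_eq_mul.1 this
  · intro e
    exact h.uq (hπ g) fun δ => by rw [(e δ).eq]; simp

theorem Pre.prψ (h : Pre b ψ) (hπ : IsPr b ψ π) {g : 𝒞[b]} {k : G} {γ : S6} (hk : ∀ δ, Commute k (ψ δ))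
    (e : (g : G) = k * ψ γ) : π g = γ :=
  h.uq (hπ g) fun δ => by
    rw [e]
    calc _ = k * (ψ γ * ψ δ * (ψ γ)⁻¹) * k⁻¹ := by group
      _ = _ := by rw [← map_inv, ← map_mul, ← map_mul, (hk _).eq]; group

theorem Pre.cen (h : Pre b ψ) (g : G) (hg : Commute g b) : ∃ k γ, (∀ δ, Commute k (ψ δ)) ∧ g = k * ψ γ := by
  obtain ⟨γ, hγ⟩ := h.nrm g hg
  refine ⟨g * (ψ γ)⁻¹, γ, fun δ => ?_, by simp⟩
  show g * (ψ γ)⁻¹ * ψ δ = ψ δ * (g * (ψ γ)⁻¹)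
  have := hγ (γ⁻¹ * δ * γ)
  rw [show γ * (γ⁻¹ * δ * γ) * γ⁻¹ = δ by group, map_mul, map_mul, map_inv] at this
  calc _ = g * ((ψ γ)⁻¹ * ψ δ * ψ γ) * g⁻¹ * (g * (ψ γ)⁻¹) := by group
    _ = _ := by rw [this]

theorem Pre.cycP (h : Pre b ψ) {x : G} (hb : Commute x b) (hx : ∀ δ, Commute x (ψ δ)) (x3 : El 3 x) :
    IsCyclic ↥(zpowers b ⊔ zpowers x) := by
  refine h.cyc _ (H70.isPGroup_sup_of_norm' (isP_zp3 ⟨1, h.b3⟩) (isP_zp3 x3)
    (norm_of_cent (by rw [cent_zpowers]; exact zpowers_le.2 (mem_cent1.2 hb)))) fun y hy δ => ?_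
  have : zpowers b ⊔ zpowers x ≤ 𝒞[ψ δ] :=
    sup_le (zpowers_le.2 (mem_cent1.2 (h.bL δ))) (zpowers_le.2 (mem_cent1.2 (hx δ)))
  exact mem_cent1.1 (this hy)

theorem Pre.om (h : Pre b ψ) {x : G} (hb : Commute x b) (hx : ∀ δ, Commute x (ψ δ)) (x3 : x ^ 3 = 1) :
    x ∈ zpowers b :=
  mem_cyc (h.cycP hb hx ⟨1, x3⟩) (mem_sup_left (mem_zpowers b)) h.ob (mem_sup_right (mem_zpowers x)) x3

theorem Pre.cardE (h : Pre b ψ) (hπ : IsPr b ψ π) {E : Subgroup 𝒞[b]} (h3 : ∀ x ∈ E, x ^ 3 = 1) :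
    Nat.card E ≤ 3 * Nat.card (E.map π) := by
  rw [← relIndex_ker, ← (π.ker.subgroupOf E).card_mul_index]
  refine Nat.mul_le_mul_right _ ?_
  refine le_of_le_of_eq ?_ ((Nat.card_zpowers b).trans h.ob)
  refine Nat.card_le_card_of_injective (fun x => ⟨x.1.1.1, h.om (mem_cent1.1 x.1.1.2) ((h.ker hπ).1 x.2)
    (congrArg Subtype.val (h3 _ x.1.2))⟩) fun x y e => ?_
  have e' : (x.1.1.1 : G) = y.1.1.1 := congrArg (fun z : zpowers b => (z : G)) e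
  exact Subtype.ext (Subtype.ext (Subtype.ext e'))

theorem imE {E : Subgroup 𝒞[b]} (hE : Cfsg.IsElementaryAbelian 3 E) :
    IsPGroup 3 (E.map π) ∧ E.map π ≤ 𝒞(E.map π) := by
  refine ⟨IsPGroup.map (fun x => ⟨1, Subtype.ext (by simpa using hE.2 _ x.2)⟩) π, ?_⟩
  rintro _ ⟨x, hx, rfl⟩ _ ⟨y, hy, rfl⟩
  rw [← map_mul, ← map_mul, abelian_iff.1 hE.1 hx y hy]

theorem Pre.le81 (h : Pre b ψ) {E : Subgroup 𝒞[b]} (hE : Cfsg.IsElementaryAbelian 3 E) : Nat.card E ≤ 81 := by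
  obtain ⟨π, hπ⟩ := h.proj
  have h1 := h.cardE hπ hE.2
  have h2 := (abM (imE (π := π) hE).1 (imE hE).2).1
  omega

theorem Pre.full (h : Pre b ψ) (hπ : IsPr b ψ π) {E : Subgroup 𝒞[b]} (hE : Cfsg.IsElementaryAbelian 3 E)
    (hc : 27 < Nat.card E) : ∃ γ, H49.cj γ (E.map π) = Jm := by
  have : Fact (Nat.Prime 3) := ⟨by norm_num⟩
  have h1 := h.cardE hπ hE.2
  obtain ⟨h2, h3⟩ := abM (imE (π := π) hE).1 (imE hE).2
  refine h3 ?_
  obtain ⟨n, hn⟩ := IsPGroup.iff_card.1 (imE (π := π) hE).1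
  rw [hn] at h1 h2 ⊢
  have : n = 3 := by
    have a1 : n < 4 := (Nat.pow_lt_pow_iff_right (by norm_num : 1 < 3)).1 (by omega)
    have a2 : 2 < n := (Nat.pow_lt_pow_iff_right (by norm_num : 1 < 3)).1 (by omega)
    omega
  rw [this]; norm_num

theorem map_norm {H : Type*} [Group H] (f : H →* S6) {E T : Subgroup H} (h : E ≤ 𝒩(T)) :
    E.map f ≤ 𝒩(T.map f) := by
  refine le_norm_iff.2 ?_
  rintro _ ⟨x, hx, rfl⟩ _ ⟨y, hy, rfl⟩
  exact ⟨_, conj_mem_of_norm h hx hy, by simp⟩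

theorem Pre.sig (h : Pre b ψ) (hπ : IsPr b ψ π) {E T : Subgroup 𝒞[b]} (hE : Cfsg.IsElementaryAbelian 3 E)
    (hc : 27 < Nat.card E) (hT : IsPGroup 2 T) (hn : E ≤ 𝒩(T)) : ∀ t ∈ T, ∀ δ, Commute (t : G) (ψ δ) := by
  have : Fact (Nat.Prime 2) := ⟨by norm_num⟩
  obtain ⟨γ, hγ⟩ := h.full hπ hE hc
  have e : H49.cj γ (T.map π) = ⊥ := by
    refine sigM _ ?_ ?_
    · obtain ⟨n, hn⟩ := IsPGroup.iff_card.1 (hT.map π)
      rw [card_cj, hn]
      exact Nat.Coprime.pow_left _ (by norm_num)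
    · rw [← hγ, ← cj_normalizer]
      exact cj_mono _ (map_norm π hn)
  rw [cj_eq_bot_iff] at e
  intro t ht
  exact (h.ker hπ).1 (by simpa [e] using mem_map_of_mem π ht)

/-- coordinates on `⟨b⟩ × 3³` -/
def av (b : G) (ψ : S6 →* G) (u : V4) : G := b ^ (u 0).val * ψ (jm u)

theorem av_e0 : av b ψ (ee 0) = b := by
  have : jm (ee 0) = 1 := by simp [jm, ee]
  rw [av, this, map_one, mul_one]
  show b ^ 1 = b
  exact pow_one b

theorem Pre.ta (h : Pre b ψ) : TA (av b ψ) where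
  add u v := by
    have e : b ^ ((u + v) 0).val = b ^ (u 0).val * b ^ (v 0).val := by
      rw [Pi.add_apply, ZMod.val_add, ← pow_add]
      exact (pow_eq_pow_mod _ h.b3).symm
    rw [av, av, av, e, jm_add, map_mul]
    exact (((h.bL (jm u)).pow_left _).mul_mul_mul_comm _ _)
  inj u hu := by
    have e : jm u = 1 := center_S6 fun δ => by
      have e1 : ψ (jm u) = (b ^ (u 0).val)⁻¹ := eq_inv_of_mul_eq_one_right hu
      refine h.ψi ?_
      rw [map_mul, map_mul, e1]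
      exact ((h.bL δ).pow_left _).inv_left
    rw [av, e, map_one, mul_one] at hu
    have := orderOf_dvd_of_pow_eq_one hu
    rw [h.ob] at this
    exact jm_inj ((ZMod.val_eq_zero _).1 (Nat.eq_zero_of_dvd_of_lt this (ZMod.val_lt _))) e

theorem av_comm {x : G} (hb : Commute x b) (hx : ∀ δ, Commute x (ψ δ)) (u : V4) : Commute x (av b ψ u) :=
  (hb.pow_right _).mul_right (hx _)

section TA

variable {a : V4 → G}

theorem a_zero (h : TA a) : a 0 = 1 := by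
  have := h.add 0 0
  rw [add_zero] at this
  exact (left_eq_mul.1 this)

theorem a_comm (h : TA a) (u v : V4) : Commute (a u) (a v) := by
  show _ = _
  rw [← h.add, ← h.add, add_comm]

/-- `a` as a homomorphism into `C(x)` -/
def ah (h : TA a) {x : G} (hx : ∀ u, Commute (a u) x) : Multiplicative V4 →* 𝒞[x] :=
  MonoidHom.mk' (fun u => ⟨a u.toAdd, mem_cent1.2 (hx _)⟩) fun _ _ => Subtype.ext (h.add _ _)

theorem ah_range (h : TA a) {x : G} (hx : ∀ u, Commute (a u) x) :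
    Cfsg.IsElementaryAbelian 3 (ah h hx).range ∧ Nat.card (ah h hx).range = 81 := by
  refine ⟨⟨abelian_iff.2 ?_, ?_⟩, ?_⟩
  · rintro _ ⟨u, rfl⟩ _ ⟨v, rfl⟩
    exact Subtype.ext (a_comm h _ _)
  · rintro _ ⟨u, rfl⟩
    rw [← map_pow, ← map_one (ah h hx)]
    congr 1
    apply Multiplicative.toAdd.injective
    rw [pow_succ, pow_two, toAdd_mul, toAdd_mul, bas_two, neg_add_cancel, toAdd_one]
  · have : Function.Injective (ah h hx) := (injective_iff_map_eq_one _).2 fun u hu =>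
      Multiplicative.toAdd.injective (h.inj _ (congrArg Subtype.val hu))
    rw [← Nat.card_congr (MonoidHom.ofInjective this).toEquiv, Nat.card_eq_fintype_card]
    simp

theorem a_pow (h : TA a) (u : V4) (k : ℕ) : a u ^ k = a ((k : ZMod 3) • u) := by
  induction k with
  | zero => simp [a_zero h]
  | succ k ih => rw [pow_succ, ih, ← h.add, Nat.cast_succ, add_smul, one_smul]

theorem a_inj (h : TA a) {u v : V4} (e : a u = a v) : u = v := by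
  refine sub_eq_zero.1 (h.inj _ (mul_right_cancel (b := a v) ?_))
  rw [← h.add, sub_add_cancel, one_mul, e]

end TA

theorem Pre.avb (h : Pre b ψ) (u : V4) : Commute (av b ψ u) b :=
  (av_comm (Commute.refl b) h.bL u).symm

theorem Pre.kodd (h : Pre b ψ)
    (hA5 : ∀ B : Subgroup ↥𝒞[b], Cfsg.IsElementaryAbelian 3 B → (∃ H : Subgroup ↥𝒞[b], Cfsg.IsTwoLocal H ∧ B ≤ H) →
      (∀ B' : Subgroup ↥𝒞[b], Cfsg.IsElementaryAbelian 3 B' → (∃ H : Subgroup ↥𝒞[b], Cfsg.IsTwoLocal H ∧ B' ≤ H) →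
        Nat.card ↥B' ≤ Nat.card ↥B) →
      ∃ Q : Subgroup ↥𝒞[b], IsPGroup 2 ↥Q ∧ B ≤ 𝒩(Q) ∧ ⁅Q, B⁆ ≠ ⊥)
    (k : G) (hb : Commute k b) (hk : ∀ δ, Commute k (ψ δ)) : Odd (orderOf k) := by
  by_contra ho
  obtain ⟨m, hm⟩ := Nat.not_odd_iff_even.1 ho
  have hp := orderOf_pos k
  obtain ⟨π, hπ⟩ := h.proj
  obtain ⟨hE, hc⟩ := ah_range h.ta h.avb
  let t : 𝒞[b] := ⟨k ^ m, mem_cent1.2 (hb.pow_left _)⟩
  have t2 : t * t = 1 := Subtype.ext (by
    show k ^ m * k ^ m = 1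
    rw [← pow_add, ← hm, pow_orderOf_eq_one])
  have t1 : t ≠ 1 := fun e => by
    have := Nat.le_of_dvd (by omega) (orderOf_dvd_of_pow_eq_one (congrArg Subtype.val e : k ^ m = 1))
    omega
  obtain ⟨Q, hQ, hn, hne⟩ := hA5 _ hE ⟨_, ⟨zpowers t, isP_zp t2, by simpa using t1, rfl⟩, by
    refine norm_of_cent ?_
    rw [cent_zpowers]
    rintro _ ⟨u, rfl⟩
    exact mem_cent1.2 (Subtype.ext (av_comm (hb.pow_left m) (fun δ => (hk δ).pow_left m) _).symm)⟩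
    fun B' hB' _ => hc ▸ h.le81 hB'
  refine hne (commutator_eq_bot_iff.2 fun q hq => ?_)
  rintro _ ⟨u, rfl⟩
  exact Subtype.ext (av_comm (mem_cent1.1 q.2) (h.sig hπ hE (by omega) hQ hn q hq) _).symm

theorem Pre.rkC (h : Pre b ψ) (ko : ∀ k, Commute k b → (∀ δ, Commute k (ψ δ)) → Odd (orderOf k)) :
    Cfsg.TwoLocalPRankLE 3 3 𝒞[b] := by
  rintro _ ⟨T, hT, h1, rfl⟩ A hA h3
  by_contra hc
  obtain ⟨π, hπ⟩ := h.proj
  have hE : Cfsg.IsElementaryAbelian 3 (A.map (𝒩(T)).subtype) := by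
    refine ⟨abelian_iff.2 ?_, ?_⟩
    · rintro _ ⟨x, hx, rfl⟩ _ ⟨y, hy, rfl⟩
      exact congrArg Subtype.val (abelian_iff.1 hA hx y hy)
    · rintro _ ⟨x, hx, rfl⟩
      exact congrArg Subtype.val (h3 x hx)
  refine h1 ((Subgroup.eq_bot_iff_forall _).2 fun t ht => ?_)
  have ho := ko t (mem_cent1.1 t.2) (h.sig hπ hE (by
    rw [card_map_of_injective (subtype_injective _)]; omega) hT (map_subtype_le _) t ht)
  obtain ⟨n, hn⟩ := H70.isPGroup_iff_mem.1 hT t ht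
  have hd : orderOf (t : G) ∣ 2 ^ n := orderOf_dvd_of_pow_eq_one (congrArg Subtype.val hn)
  have : orderOf (t : G) = 1 :=
    Nat.Coprime.eq_one_of_dvd (Nat.Coprime.pow_right n (Nat.coprime_two_right.2 ho)) hd
  exact Subtype.ext (orderOf_eq_one_iff.1 this)

theorem zp_av (h : Pre b ψ) {k : G} (hk : k ∈ zpowers b) (u : V4) (u0 : u 0 = 0) :
    ∃ v, k * ψ (jm u) = av b ψ v := by
  obtain ⟨i, rfl⟩ := (mem_powers_iff_mem_zpowers.2 hk : k ∈ Submonoid.powers b)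
  refine ⟨u + (i : ZMod 3) • ee 0, ?_⟩
  rw [av, jm_e0]
  congr 1
  have : (u + (i : ZMod 3) • ee 0) 0 = (i : ZMod 3) := by simp [ee, u0]
  rw [this, ZMod.val_natCast]
  exact pow_eq_pow_mod _ h.b3

theorem Pre.mv (h : Pre b ψ) (hwc : ∃ g : G, g * b * g⁻¹ ∈ 𝒞[b] ∧ zpowers (g * b * g⁻¹) ≠ zpowers b) :
    Mv (av b ψ) := by
  obtain ⟨g, hg, hne⟩ := hwc
  obtain ⟨π, hπ⟩ := h.proj
  have c3 : (g * b * g⁻¹) ^ 3 = 1 := by rw [conj_pow, h.b3]; simp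
  obtain ⟨k, γ, hk, e⟩ := h.cen _ (mem_cent1.1 hg)
  have γ3 : γ ^ 3 = 1 := by
    rw [← h.prψ hπ (g := ⟨_, hg⟩) hk e, ← map_pow, ← map_one π]
    exact congrArg π (Subtype.ext c3)
  have k3 : k ^ 3 = 1 := by
    rwa [e, (hk γ).mul_pow, ← map_pow, γ3, map_one, mul_one] at c3
  have kb : Commute k b := by
    rw [eq_mul_inv_of_mul_eq e.symm]
    exact Commute.mul_left (mem_cent1.1 hg) (h.bL γ).symm.inv_left
  obtain ⟨δ, hδ⟩ := ord3M γ3
  obtain ⟨u, u0, hu⟩ := mem_Jm.1 hδ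
  obtain ⟨v, hv⟩ := zp_av h (h.om kb hk k3) u u0
  have e2 : ψ δ * (g * b * g⁻¹) * (ψ δ)⁻¹ = av b ψ v := by
    rw [← hv, ← hu, e, map_mul, map_mul, map_inv, ← mul_assoc, ← (hk δ).eq]
    group
  have key : ∀ y, Commute (ψ δ) y → av b ψ v = y → g * b * g⁻¹ = y := fun y hy e3 => by
    rw [e3, mul_inv_eq_iff_eq_mul, ← hy.eq] at e2
    exact mul_left_cancel e2
  refine ⟨ψ δ * g, v, by rw [av_e0, ← e2]; group, ?_, ?_⟩
  · rintro rfl
    exact hne (by rw [key b (h.bL δ).symm av_e0])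
  · rintro rfl
    have : av b ψ (-ee 0) = b⁻¹ := by
      have e4 := h.ta.add (-ee 0) (ee 0)
      rw [neg_add_cancel, a_zero h.ta, av_e0] at e4
      exact eq_inv_of_mul_eq_one_left e4.symm
    exact hne (by rw [key b⁻¹ (h.bL δ).symm.inv_right this, zpowers_inv])

theorem smul_e0 : ∀ (c : ZMod 3) (u : V4), c • u = ee 0 → u = ee 0 ∨ u = -ee 0 := by
  decide

theorem Pre.k3 (h : Pre b ψ) (hm : Mv (av b ψ)) (k : G) (hb : Commute k b) (hk : ∀ δ, Commute k (ψ δ))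
    (h3 : El 3 k) : k ∈ zpowers b := by
  obtain ⟨ρ, hρ⟩ := (Subgroup.isCyclic_iff_exists_zpowers_eq_top _).1 (h.cycP hb hk h3)
  have hρb : b ∈ zpowers ρ := hρ ▸ mem_sup_left (mem_zpowers b)
  have hρk : k ∈ zpowers ρ := hρ ▸ mem_sup_right (mem_zpowers k)
  have hρm : ρ ∈ zpowers b ⊔ zpowers k := hρ ▸ mem_zpowers ρ
  have ρb : Commute ρ b := mem_cent1.1 ((sup_le (zpowers_le.2 (self_mem_cent1 b))
    (zpowers_le.2 (mem_cent1.2 hb)) : _ ≤ 𝒞[b]) hρm)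
  have ρL : ∀ δ, Commute ρ (ψ δ) := fun δ => mem_cent1.1 ((sup_le (zpowers_le.2 (mem_cent1.2 (h.bL δ)))
    (zpowers_le.2 (mem_cent1.2 (hk δ))) : _ ≤ 𝒞[ψ δ]) hρm)
  have hP : IsPGroup 3 ↥(zpowers b ⊔ zpowers k) := H70.isPGroup_sup_of_norm' (isP_zp3 ⟨1, h.b3⟩) (isP_zp3 h3)
    (norm_of_cent (by rw [cent_zpowers]; exact zpowers_le.2 (mem_cent1.2 hb)))
  obtain ⟨n, hn⟩ := H70.isPGroup_iff_mem.1 hP ρ hρm
  obtain ⟨i, hi⟩ := (mem_powers_iff_mem_zpowers.2 hρb : b ∈ Submonoid.powers ρ)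
  have hi' : ρ ^ i = b := hi
  by_cases hd : 3 ∣ i
  swap
  · have : ρ ∈ zpowers (ρ ^ i) := mem_zpowers_pow_iff.2 (Nat.Coprime.coprime_dvd_right (orderOf_dvd_of_pow_eq_one hn)
      (Nat.Coprime.pow_right n ((Nat.Prime.coprime_iff_not_dvd Nat.prime_three).2 hd).symm))
    exact zpowers_le.2 (hi' ▸ this) hρk
  exfalso
  obtain ⟨j, rfl⟩ := hd
  obtain ⟨g, u, e, u1, u2⟩ := hm
  rw [av_e0] at e
  have h' := h.cj g
  rw [e] at h'
  obtain ⟨π, hπ⟩ := h'.proj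
  have hx : ∀ v, Commute (av b ψ v) (av b ψ u) := fun v => a_comm h.ta v u
  obtain ⟨hE, hc⟩ := ah_range h.ta hx
  obtain ⟨γ, hγ⟩ := h'.full hπ hE (by omega)
  have σa : ∀ v, Commute (ρ ^ j) (av b ψ v) := av_comm (ρb.pow_left j) fun δ => (ρL δ).pow_left j
  let σ : 𝒞[av b ψ u] := ⟨ρ ^ j, mem_cent1.2 (σa u)⟩
  have hJ : γ * π σ * γ⁻¹ ∈ Jm := cenM fun i => by
    have : cm i ∈ Jm := subset_closure (by fin_cases i <;> simp)
    rw [← hγ, mem_cj'] at this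
    obtain ⟨_, ⟨_, ⟨v, rfl⟩, rfl⟩, e⟩ := this
    rw [e]
    have : Commute σ (ah h.ta hx v) := Subtype.ext (σa _)
    exact (comm_conj γ).2 (this.map π)
  have h1 : π (σ ^ 3) = 1 := by
    have := Jm_cube hJ
    rw [conj_pow, ← map_pow] at this
    simpa using this
  have hσ : ((σ ^ 3 : 𝒞[av b ψ u]) : G) = b := by
    show (ρ ^ j) ^ 3 = b
    rw [← pow_mul, mul_comm, hi']
  have h2 := h'.om (h.avb u).symm (hσ ▸ (h'.ker hπ).1 h1) h.b3
  obtain ⟨m, hm⟩ := (mem_powers_iff_mem_zpowers.2 h2 : b ∈ Submonoid.powers _)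
  have hm' : av b ψ u ^ m = av b ψ (ee 0) := by rw [av_e0]; exact hm
  rw [a_pow h.ta] at hm'
  rcases smul_e0 _ _ (a_inj h.ta hm') with e | e
  · exact u1 e
  · exact u2 e

end Setup

theorem setup {G : Type*} [Group G] [Finite G] (hG : Cfsg.IsCharacteristicTwoType G) (b : G) (hb : orderOf b = 3)
    (L : Subgroup G) (hLC : L ≤ 𝒞[b]) (hLn : (L.subgroupOf 𝒞[b]).Normal) {F : Type*} [Field F] [Fintype F]
    (hF : Fintype.card F = 2) (hLX : Nonempty (↥L ≃* Cfsg.PSp 3 F))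
    (hcyc : ∀ R : Sylow 3 ↥𝒞(L), IsCyclic ↥(R : Subgroup ↥𝒞(L)))
    (hrk : ∀ k : ℕ, Cfsg.TwoLocalPRankLE 3 k G ↔ Cfsg.TwoLocalPRankLE 3 k ↥𝒞[b])
    (hwc : ∃ g : G, g * b * g⁻¹ ∈ 𝒞[b] ∧ zpowers (g * b * g⁻¹) ≠ zpowers b)
    (hA5 : ∀ B : Subgroup ↥𝒞[b], Cfsg.IsElementaryAbelian 3 B → (∃ H : Subgroup ↥𝒞[b], Cfsg.IsTwoLocal H ∧ B ≤ H) →
      (∀ B' : Subgroup ↥𝒞[b], Cfsg.IsElementaryAbelian 3 B' → (∃ H : Subgroup ↥𝒞[b], Cfsg.IsTwoLocal H ∧ B' ≤ H) →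
        Nat.card ↥B' ≤ Nat.card ↥B) →
      ∃ Q : Subgroup ↥𝒞[b], IsPGroup 2 ↥Q ∧ B ≤ 𝒩(Q) ∧ ⁅Q, B⁆ ≠ ⊥) :
    ∃ (a : V4 → G) (ψ : S6 →* G), St a ψ ∧ Mv a := by
  have : Fact (Nat.Prime 3) := ⟨by norm_num⟩
  obtain ⟨e1⟩ := hLX
  obtain ⟨e2⟩ := OR.Sp62.equiv' hF
  obtain ⟨e3⟩ := OR.Sp62.equiv (F := ZMod 2) (by simp)
  obtain ⟨e⟩ : Nonempty (S6 ≃* L) := ⟨(e3.trans e2.symm).trans e1.symm⟩
  let ψ : S6 →* G := L.subtype.comp e.toMonoidHom
  have hψ : ∀ γ, ψ γ = (e γ : G) := fun _ => rfl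
  have hN : 𝒞[b] ≤ 𝒩(L) := (normal_subgroupOf_iff_le_normalizer hLC).1 hLn
  have h : Setup.Pre b ψ :=
    { ob := hb
      ψi := (subtype_injective _).comp e.injective
      bL := fun γ => (mem_cent1.1 (hLC (e γ).2)).symm
      nrm := fun g hg => by
        obtain ⟨γ, hγ⟩ := aut_S6 ((e.trans (L.normalizerMonoidHom ⟨g, hN (mem_cent1.2 hg)⟩)).trans e.symm)
        refine ⟨γ, fun δ => ?_⟩
        rw [← hγ, hψ, hψ]
        exact (congrArg Subtype.val (e.apply_symm_apply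
          (L.normalizerMonoidHom ⟨g, hN (mem_cent1.2 hg)⟩ (e δ)))).symm
      cyc := fun P hP hc => by
        have hle : P ≤ 𝒞(L) := fun x hx y hy => by
          have := hc x hx (e.symm ⟨y, hy⟩)
          rw [hψ, MulEquiv.apply_symm_apply] at this
          exact this.symm
        obtain ⟨S, hS⟩ := (hP.comap_subtype (K := 𝒞(L))).exists_le_sylow
        have : IsCyclic ((S : Subgroup 𝒞(L)).map (𝒞(L)).subtype) :=
          ((S : Subgroup 𝒞(L)).equivMapOfInjective _ (subtype_injective _)).isCyclic.1 (hcyc S)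
        exact isCyclic_of_le (H' := (S : Subgroup 𝒞(L)).map (𝒞(L)).subtype)
          fun r hr => ⟨⟨r, hle hr⟩, hS hr, rfl⟩ }
  have ko := h.kodd hA5
  have mv := h.mv hwc
  refine ⟨Setup.av b ψ, ψ, ⟨h.ta, ⟨fun X hX h1 => H70.isChar_iff.2 (hG.2 X hX h1),
    fun X hX h1 E hE hE' h3 => ?_⟩, h.ψi, fun i => ?_, ?_, ?_, ?_, ?_⟩, mv⟩
  · rw [← Nat.card_congr (subgroupOfEquivOfLe hE).toEquiv]
    have := abelian_iff.2 hE'
    exact (hrk 3).2 (h.rkC ko) _ ⟨X, hX, h1, rfl⟩ (E.subgroupOf _) inferInstance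
      fun a ha => Subtype.ext (h3 a ha)
  · have : ee i.succ 0 = 0 := by simp [ee, (Fin.succ_ne_zero i).symm]
    rw [Setup.av, this, jm_ee]
    simp
  · rw [Setup.av_e0]; exact h.bL
  · rw [Setup.av_e0]; exact h.cen
  · rw [Setup.av_e0]; exact ko
  · rw [Setup.av_e0]; exact h.k3 mv

end Cfsg.Agent.S86
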