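import Cfsg.Agent.S86.SimB

set_option autoImplicit false

namespace Cfsg.Agent.S86

open Subgroup H49 Matrix F42
open Cfsg.Agent.L72 (O2N)

variable {G : Type*} [Group G] [Finite G] {a : V4 → G} {ψ ψ' : S6 →* G} {ρ : Fin 4 → G} {t : Fin 4 → Fin 4 → G}
  {e E : ℕ → G} {φ : S8 →* G}

namespace TjF

theorem mv (h : SM a ψ) (hf : ∃ n, Ac a n hF) (v : V4) :
    (v ⬝ᵥ v = 1 → (∃ n θ, Ac a n θ ∧ θ *ᵥ ee 0 = v) ∧ ∃ n θ, Ac a n θ ∧ θ *ᵥ ee 1 = v) ∧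
      (v ⬝ᵥ v = -1 → ∃ n θ, Ac a n θ ∧ θ *ᵥ cv = v) := by
  obtain ⟨k1, k2⟩ := lin_n1 (W := {θ | ∃ n, Ac a n θ}) (fun _ ⟨_, h1⟩ _ ⟨_, h2⟩ => ⟨_, h1.mul h2⟩)
    (fun β hβ => let ⟨γ, hγ⟩ := h.toSt.iso0 hβ; ⟨_, hγ⟩) h.p01 hf (v := v)
  refine ⟨fun hv => ?_, fun hv => ?_⟩
  · obtain ⟨⟨θ, ⟨n, hn⟩, e1⟩, η, ⟨m, hm⟩, e2⟩ := k1 hv
    exact ⟨⟨n, θ, hn, e1⟩, m, η, hm, e2⟩
  · obtain ⟨θ, ⟨n, hn⟩, e1⟩ := k2 hv
    exact ⟨n, θ, hn, e1⟩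

theorem dot0 (u : V4) : u ⬝ᵥ ee 0 = u 0 := by simp [ee]

theorem sf0 : sf *ᵥ ee 0 = cv := by decide +kernel

theorem cen (h : SM a ψ) (hf : ∃ n, Ac a n hF) {g : G} (hg : ∀ u, Commute g (a u)) : ∃ u, g = a u := by
  have ta : TA a := h.toTA
  obtain ⟨u, k, rfl, h6, hk⟩ := h.toSt.cenA hg
  have k3 : (orderOf k).Coprime 3 := h6.coprime_dvd_right (by norm_num)
  have kc : ∀ {n θ}, Ac a n θ → ∀ γ, Commute k (cjh n ψ γ) := fun hn γ =>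
    (h.toSt.ac hn).k0 (fun _ => hk _) k3 γ
  have rs := h.toSt.rfs.1
  have s1 : ψ sw ≠ 1 := fun e => by
    have := rs.2 cv
    rw [e, one_mul, inv_one, mul_one] at this
    exact absurd (ta.injective this) (by decide)
  have pQ := L72.O2N_isP (zpowers (ψ sw))
  have hQ : O2N (zpowers (ψ sw)) ≤ 𝒞[k] := by
    refine hypI (ta.tw sim_sf) ?_ (fun x hx => ?_) fun l _ _ y hy hc => ?_
    · obtain ⟨m, hm⟩ := pQ.exists_card_eq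
      rw [hm]
      exact Nat.Coprime.pow_left _ (by norm_num)
    · obtain ⟨w, w0, rfl⟩ := (ta.tw sim_sf).mem_Ig.1 hx
      refine L72.norm_O2N _ ?_
      rw [norm_zp rs.1]
      exact mem_cent1.2 (rs.comm_a (u := sf *ᵥ w) (by
        rw [← sf0, sim_sf.dot_eq_zero, dot0, w0])).symm.eq
    · obtain ⟨v, v1, v2, v3⟩ := lin_hyp2 (sf *ᵥ l)
      obtain ⟨w, rfl⟩ := sim_sf.surj v
      rw [← sf0, sim_sf.dot_eq_zero, dot0] at v3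
      obtain ⟨⟨n, θ, hn, e⟩, -⟩ := (mv h hf _).1 v1
      obtain ⟨γ, -, rfl⟩ := (h.toSt.ac hn).two (BaseB_el pQ hy) (by
        show Commute y (a (θ *ᵥ ee 0))
        rw [e]
        exact hc w v3 (sim_sf.dot_eq_zero.1 v2))
      exact mem_cent1.2 (kc hn γ).symm.eq
  obtain ⟨m, hm⟩ := BaseB_el pQ (h.toGl.cen rs.1 s1 (h.toSt.k0 hk k3 sw)
    fun q hq => (Commute.symm (mem_cent1.1 (hQ hq))))
  have k1 : k = 1 := orderOf_eq_one_iff.1 (Nat.eq_one_of_dvd_coprimes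
    (Nat.Coprime.pow_right m (h6.coprime_dvd_right (by norm_num : 2 ∣ 6))) dvd_rfl (orderOf_dvd_of_pow_eq_one hm))
  exact ⟨u, by rw [k1, mul_one]⟩

end TjF

theorem SM.tj (h : SM a ψ) (hf : ∃ n, Ac a n hF) : TJ0 a := by
  have ta : TA a := h.toTA
  refine ⟨ta.add, ta.inj, fun g hg => TjF.cen h hf hg, fun v hv => ?_, fun n hn => ?_,
    fun P A hP hA hB hc h81 => h.uniq hP hA hB hc h81, fun Y h3 hn => ?_⟩
  · rcases (by decide : ∀ x : ZMod 3, x ≠ 0 → x = 1 ∨ x = -1) _ hv with e | e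
    · obtain ⟨-, n, θ, hn, rfl⟩ := (TjF.mv h hf v).1 e
      exact ⟨_, (h.toSt.rfx 0).cj hn (h.sim n θ hn)⟩
    · obtain ⟨n, θ, hn, rfl⟩ := (TjF.mv h hf v).2 e
      exact ⟨_, h.toSt.rfs.1.cj hn (h.sim n θ hn)⟩
  · obtain ⟨θ, hθ⟩ := ta.acN.1 hn
    exact ⟨θ, h.sim n θ hθ, hθ⟩
  · refine le_bot_iff.1 (hypA ta h3 hn fun l _ y hy hc => ?_)
    obtain ⟨v, v1, v2⟩ := lin_hyp l
    obtain ⟨⟨n, θ, hθ, rfl⟩, -⟩ := (TjF.mv h hf _).1 v1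
    have h' := h.toSt.ac hθ
    have yb := hc _ v2
    have k := h'.sigb (Y := Y ⊓ 𝒞[a (θ *ᵥ ee 0)]) (h3.coprime_dvd_left (card_dvd_of_le inf_le_left)) inf_le_right
      (fun x hx => by
        obtain ⟨w, -, rfl⟩ := h'.toTA.mem_Ig.1 hx
        exact inf_normalizer_le_normalizer_inf ⟨hn (ta.mem_Jg.2 ⟨_, rfl⟩),
          le_normalizer (mem_cent1.2 (ta.comm _ _).eq)⟩) y ⟨hy, mem_cent1.2 yb.eq⟩
    obtain ⟨u, rfl⟩ := TjF.cen h hf (g := y) fun u => by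
      obtain ⟨w, rfl⟩ := (h.sim n θ hθ).surj u
      exact BaseA.comm_a h' yb k w
    exact mem_bot.2 (orderOf_eq_one_iff.1 (Nat.eq_one_of_dvd_coprimes h3 (Subgroup.orderOf_dvd_natCard _ hy)
      (orderOf_dvd_of_pow_eq_one (ta.cube u))))

end Cfsg.Agent.S86
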