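import Cfsg.Agent.S86.Defs
import Cfsg.Agent.H46.Generation
import Cfsg.Agent.H49.Quot
import Cfsg.Agent.H72.GN7

/-! General lemmas: coprime generation, the torus, involution centralisers, a transfer argument. -/

set_option autoImplicit false
set_option linter.unusedSectionVars false

namespace Cfsg.Agent.S86

open Subgroup H49 Matrix F42
open Cfsg.Agent.L72 (O2N)

variable {G : Type*} [Group G] [Finite G] {a : V4 → G} {ψ ψ' : S6 →* G} {ρ : Fin 4 → G} {t : Fin 4 → Fin 4 → G}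
  {e E : ℕ → G} {φ : S8 →* G}

namespace GenA

theorem f3 : Fact (Nat.Prime 3) := ⟨Nat.prime_three⟩

theorem nd3 {n : ℕ} (h : n.Coprime 3) : ¬ 3 ∣ n := (Nat.Prime.coprime_iff_not_dvd Nat.prime_three).1 h.symm

/-- the image of a subspace -/
def img (h : TA a) (U : Submodule (ZMod 3) V4) : Subgroup G where
  carrier := {g | ∃ u ∈ U, g = a u}
  one_mem' := ⟨0, U.zero_mem, h.zero.symm⟩
  mul_mem' := by
    rintro _ _ ⟨u, hu, rfl⟩ ⟨v, hv, rfl⟩
    exact ⟨u + v, U.add_mem hu hv, (h.add u v).symm⟩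
  inv_mem' := by
    rintro _ ⟨u, hu, rfl⟩
    exact ⟨-u, U.neg_mem hu, (h.neg u).symm⟩

theorem gen (h : TA a) (W : Submodule (ZMod 3) V4) {A Y X : Subgroup G}
    (hA : ∀ g, g ∈ A ↔ ∃ u ∈ W, g = a u) (h1 : ee 1 ∈ W) (h3 : (Nat.card Y).Coprime 3) (hn : A ≤ 𝒩(Y))
    (hp : ∀ f : V4 →ₗ[ZMod 3] ZMod 3, (∃ w ∈ W, f w ≠ 0) → ∀ y ∈ Y,
      (∀ u ∈ W, f u = 0 → Commute y (a u)) → y ∈ X) : Y ≤ X := by
  have := f3
  have hAJ : A ≤ Jg a := fun g hg => let ⟨u, _, e⟩ := (hA g).1 hg; h.mem_Jg.2 ⟨u, e⟩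
  refine H46.le_of_forall_cyclic_quotient (h.isP.to_le hAJ)
    (abelian_of_le (abelian_iff.2 h.Jg_comm) hAJ) X Y (nd3 h3) hn ?_
  rintro B hB ⟨g, hg, hBg⟩ y ⟨hy, hyB⟩
  obtain ⟨w, hw, rfl⟩ := (hA g).1 hg
  let S : Submodule (ZMod 3) V4 :=
    { carrier := {u | a u ∈ B}
      add_mem' := fun {u v} hu hv => by
        change a (u + v) ∈ B
        rw [h.add]; exact B.mul_mem hu hv
      zero_mem' := by
        change a 0 ∈ B
        rw [h.zero]; exact B.one_mem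
      smul_mem' := fun c u hu => by
        change a (c • u) ∈ B
        rw [h.smul]; exact B.pow_mem hu _ }
  have hS : ∀ u ∈ S, Commute y (a u) := fun u hu => (mem_centralizer_iff.1 hyB _ hu).symm
  have hW : ∀ u ∈ W, ∃ s ∈ S, ∃ c : ZMod 3, u = s + c • w := by
    intro u hu
    have h4 : A ≤ img h (S ⊔ Submodule.span (ZMod 3) {w}) := by
      rw [← hBg]
      refine sup_le (fun b hb => ?_) (zpowers_le.2
        ⟨w, Submodule.mem_sup_right (Submodule.mem_span_singleton_self w), rfl⟩)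
      obtain ⟨v, -, rfl⟩ := (hA b).1 (hB hb)
      exact ⟨v, Submodule.mem_sup_left hb, rfl⟩
    obtain ⟨v, hv, e⟩ := h4 ((hA _).2 ⟨u, hu, rfl⟩)
    obtain ⟨s, hs, x, hx, rfl⟩ := Submodule.mem_sup.1 hv
    obtain ⟨c, rfl⟩ := Submodule.mem_span_singleton.1 hx
    exact ⟨s, hs, c, h.injective e⟩
  by_cases hwS : w ∈ S
  · refine hp (LinearMap.proj 1) ⟨ee 1, h1, by decide⟩ y hy fun u hu _ => hS u ?_
    obtain ⟨s, hs, c, rfl⟩ := hW u hu
    exact S.add_mem hs (S.smul_mem c hwS)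
  · obtain ⟨f, hf, hf'⟩ := LinearMap.exists_extend_of_notMem (K := ZMod 3) (p := S)
      (0 : _ →ₗ[ZMod 3] ZMod 3) hwS 1
    refine hp f ⟨w, hw, by rw [hf']; exact one_ne_zero⟩ y hy fun u hu fu => hS u ?_
    obtain ⟨s, hs, c, rfl⟩ := hW u hu
    have h5 : f s = 0 := LinearMap.congr_fun hf ⟨s, hs⟩
    rw [map_add, map_smul, h5, hf', zero_add, smul_eq_mul, mul_one] at fu
    rwa [fu, zero_smul, add_zero]

theorem dot (f : V4 →ₗ[ZMod 3] ZMod 3) (u : V4) : u ⬝ᵥ (fun i => f (ee i)) = f u := by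
  rw [LinearMap.pi_apply_eq_sum_univ f u, dotProduct]
  refine Finset.sum_congr rfl fun i _ => ?_
  rw [smul_eq_mul]
  congr 2
  ext j
  simp [ee, Pi.single_apply, eq_comm]

theorem ac_one (h : TA a) {θ : M4} (hn : Ac a 1 θ) : θ = 1 :=
  Matrix.toLin'.injective (LinearMap.ext fun u => by
    have := hn u
    rw [one_mul, inv_one, mul_one] at this
    rw [toLin'_apply, toLin'_apply, one_mulVec]
    exact (h.injective this).symm)

end GenA

open GenA

theorem hypI (h : TA a) {Y X : Subgroup G} (h3 : (Nat.card Y).Coprime 3) (hn : Ig a ≤ 𝒩(Y))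
    (hp : ∀ l : V4, l 0 = 0 → l ≠ 0 → ∀ y ∈ Y, (∀ u : V4, u 0 = 0 → u ⬝ᵥ l = 0 → Commute y (a u)) → y ∈ X) : Y ≤ X := by
  refine gen h (LinearMap.ker (LinearMap.proj 0)) (fun g => h.mem_Ig) (by rw [LinearMap.mem_ker]; decide)
    h3 hn ?_
  rintro f ⟨w, hw, fw⟩ y hy hc
  have k : ∀ u : V4, u 0 = 0 → u ⬝ᵥ Function.update (fun i => f (ee i)) 0 0 = f u := fun u u0 => by
    rw [← dot f u]
    simp [dotProduct, Fin.sum_univ_four, u0]
  refine hp (Function.update (fun i => f (ee i)) 0 0) (Function.update_self _ _ _) (fun e => fw ?_) y hy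
    fun u u0 hu => hc u u0 (k u u0 ▸ hu)
  rw [← k w hw, e, dotProduct_zero]

theorem hypA (h : TA a) {Y X : Subgroup G} (h3 : (Nat.card Y).Coprime 3) (hn : Jg a ≤ 𝒩(Y))
    (hp : ∀ l : V4, l ≠ 0 → ∀ y ∈ Y, (∀ u : V4, u ⬝ᵥ l = 0 → Commute y (a u)) → y ∈ X) : Y ≤ X := by
  refine gen h ⊤ (fun g => by simpa using h.mem_Jg) trivial h3 hn ?_
  rintro f ⟨w, -, fw⟩ y hy hc
  refine hp (fun i => f (ee i)) (fun e => fw ?_) y hy fun u hu => hc u trivial (dot f u ▸ hu)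
  rw [← dot f w, e, dotProduct_zero]

theorem genQ {z r : G} {Q R U X : Subgroup G} (h : XQ z Q R r) (z3 : orderOf z = 3) (h3 : (Nat.card U).Coprime 3)
    (hn : Q ≤ 𝒩(U)) (hz : U ≤ 𝒞[z]) (hp : ∀ q ∈ Q, q ∉ zpowers z → U ⊓ 𝒞[q] ≤ X) : U ≤ X := by
  have := f3
  have hN : 𝒞[z] ≤ 𝒩(zpowers z) := cent_zpowers z ▸ cent_le_norm _
  have hQ := h.Qc.trans hN
  have hU := hz.trans hN
  have cZ : Nat.card (zpowers z) = 3 := by rw [Nat.card_zpowers, z3]
  have dis : ∀ x ∈ U, x ∈ zpowers z → x = 1 := fun x hx hx' =>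
    orderOf_eq_one_iff.1 (Nat.eq_one_of_dvd_coprimes h3 (orderOf_dvd_natCard U hx)
      (cZ ▸ orderOf_dvd_natCard _ hx'))
  have c9 : Nat.card (quo Q (zpowers z)) = 9 := by
    have := card_mul_card_quo (zpowers_le.2 h.zQ) hQ
    rw [cZ, h.card] at this
    omega
  have k : quo U (zpowers z) ≤ quo (U ⊓ X) (zpowers z) := by
    refine H46.le_of_forall_element (p := 3) (A := quo Q (zpowers z)) (IsPGroup.of_card (n := 2) c9)
      ((quo_abelian_iff hQ).2 (commutator_le.2 h.comm)) (fun hc => ?_)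
      (fun hd => nd3 h3 (hd.trans (card_quo_dvd _ _))) (quo_norm _ hn) ?_
    · have h1 : Monoid.exponent (quo Q (zpowers z)) ∣ 3 := Monoid.exponent_dvd_of_forall_pow_eq_one (by
        rintro ⟨_, q, hq, rfl⟩
        refine Subtype.ext ?_
        change coset _ q ^ 3 = 1
        rw [← map_pow, show q ^ 3 = 1 from Subtype.ext (h.exp q hq), map_one])
      rw [IsCyclic.exponent_eq_card, c9] at h1
      omega
    · rintro _ ⟨q, hq, rfl⟩ h1 _ ⟨⟨u, hu, rfl⟩, h2⟩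
      have hq' : (q : G) ∈ Q := hq
      have hu' : (u : G) ∈ U := hu
      refine coset_mem_quo ⟨hu', hp q hq' (fun h4 => h1 (coset_eq_one_iff.2 h4)) ⟨hu', mem_cent1.2 ?_⟩⟩
      have h4 := mem_cent1.1 h2
      rw [← map_mul, ← map_mul, coset_eq_iff] at h4
      have h5 := dis _ (by
        have : ((u * q : 𝒩(zpowers z)) : G)⁻¹ * (q * u : 𝒩(zpowers z)) = (q : G)⁻¹ * (u : G)⁻¹ * q * u := by
          simp only [coe_mul]; group
        rw [this]
        exact U.mul_mem (conj_mem_of_norm' hn hq' (U.inv_mem hu')) hu') h4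
      exact inv_mul_eq_one.1 h5
  intro u hu
  obtain ⟨x, hx, e⟩ := mem_quo.1 (k (coset_mem_quo (x := ⟨u, hU hu⟩) hu))
  have h1 := dis _ (U.mul_mem (U.inv_mem hx.1) hu) (coset_eq_iff.1 e)
  rw [← inv_mul_eq_one.1 h1]
  exact hx.2

theorem TA.big (h : TA a) {x : G} {u v w : V4} (ind : ∀ i j k : ZMod 3, i • u + j • v + k • w = 0 → i = 0 ∧ j = 0 ∧ k = 0)
    (h1 : Commute x (a u)) (h2 : Commute x (a v)) (h3 : Commute x (a w)) : Big x := by
  let f : Multiplicative (ZMod 3 × ZMod 3 × ZMod 3) →* G := MonoidHom.mk'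
    (fun p => a (p.toAdd.1 • u + p.toAdd.2.1 • v + p.toAdd.2.2 • w)) fun p q => by
      rw [← h.add]
      congr 1
      simp only [toAdd_mul, Prod.fst_add, Prod.snd_add, add_smul]
      abel
  have hf : Function.Injective f := (injective_iff_map_eq_one f).2 fun p hp => by
    obtain ⟨e1, e2, e3⟩ := ind _ _ _ (h.inj _ hp)
    exact Multiplicative.toAdd.injective (Prod.ext e1 (Prod.ext e2 e3))
  have hc : Nat.card f.range = 27 := by
    rw [← Nat.card_congr (MonoidHom.ofInjective hf).toEquiv, Nat.card_eq_fintype_card]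
    rfl
  rw [Big, ← hc]
  refine card_dvd_of_le ?_
  rintro _ ⟨p, rfl⟩
  refine mem_cent1.2 (Commute.symm (?_ : Commute x (a _))).eq
  rw [h.add, h.add, h.smul, h.smul, h.smul]
  exact ((h1.pow_right _).mul_right (h2.pow_right _)).mul_right (h3.pow_right _)

theorem Big.conj {x y : G} (h : Big x) (e : IsConj x y) : Big y := by
  obtain ⟨g, rfl⟩ := isConj_iff.1 e
  rwa [Big, ← cj_cent1, card_cj]

theorem TA.acN (h : TA a) {n : G} : n ∈ 𝒩(Jg a) ↔ ∃ θ, Ac a n θ := by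
  constructor
  · intro hn
    choose f hf using fun u => h.mem_Jg.1 ((mem_normalizer_iff.1 hn (a u)).1 (h.mem_Jg.2 ⟨u, rfl⟩))
    let f' : V4 →+ V4 := AddMonoidHom.mk' f fun u v => h.injective (by
      rw [h.add, ← hf, ← hf, ← hf, h.add]; group)
    refine ⟨LinearMap.toMatrix' (f'.toZModLinearMap 3), fun u => ?_⟩
    rw [hf, ← toLin'_apply, toLin'_toMatrix']
    rfl
  · rintro ⟨θ, hθ⟩
    refine mem_normalizer_fintype fun g hg => ?_
    obtain ⟨u, rfl⟩ := h.mem_Jg.1 hg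
    exact h.mem_Jg.2 ⟨_, hθ u⟩

theorem TA.ac_inv (h : TA a) {n : G} {θ : M4} (hn : Ac a n θ) : ∃ θ', θ * θ' = 1 ∧ θ' * θ = 1 ∧ Ac a n⁻¹ θ' := by
  obtain ⟨θ', h'⟩ := h.acN.1 (inv_mem (h.acN.2 ⟨θ, hn⟩))
  exact ⟨θ', ac_one h (mul_inv_cancel n ▸ hn.mul h'), ac_one h (inv_mul_cancel n ▸ h'.mul hn), h'⟩

theorem TA.ac_pow (h : TA a) {n : G} {θ : M4} (hn : Ac a n θ) {k : ℕ} (e : n ^ k = 1) : θ ^ k = 1 := by
  have : ∀ m : ℕ, Ac a (n ^ m) (θ ^ m) := fun m => by
    induction m with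
    | zero => intro u; simp
    | succ m ih => rw [pow_succ, pow_succ]; exact ih.mul hn
  exact ac_one h (e ▸ this k)

theorem norm_zp {r : G} (h : r * r = 1) : 𝒩(zpowers r) = 𝒞[r] := L72.norm_zpowers_two h

theorem isP_zp {r : G} (h : r * r = 1) : IsPGroup 2 (zpowers r) := L72.isP_zpowers_two h

theorem Gl.rkA (h : Gl G) (ta : TA a) {X : Subgroup G} (hX : IsPGroup 2 X) (hn : Jg a ≤ 𝒩(X)) : X = ⊥ := by
  by_contra h0
  have := h.rk X hX h0 (Jg a) hn ta.Jg_comm fun x hx => by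
    obtain ⟨u, rfl⟩ := ta.mem_Jg.1 hx
    exact ta.cube u
  rw [ta.card_Jg] at this
  omega

theorem Gl.odd3 (h : Gl G) (ta : TA a) {Y : Subgroup G} (h3 : (Nat.card Y).Coprime 3) (hn : Jg a ≤ 𝒩(Y)) :
    Odd (Nat.card Y) := by
  have := f3
  obtain ⟨Q, -, hQ⟩ := H46.exists_invariant_sylow_ge ta.isP (nd3 h3) hn 2 (R := ⊥) IsPGroup.of_bot bot_le
    (by rw [norm_bot]; exact le_top)
  have h1 := h.rkA ta (Q.isPGroup'.map _) hQ
  rw [map_eq_bot_iff_of_injective _ Y.subtype_injective] at h1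
  have h2 := Q.not_dvd_index
  rw [h1, index_bot] at h2
  exact Nat.odd_iff.2 (by omega)

theorem Gl.cen (h : Gl G) {r g : G} (r2 : r * r = 1) (r1 : r ≠ 1) (hg : Commute g r)
    (hc : ∀ q ∈ O2N (zpowers r), Commute g q) : g ∈ O2N (zpowers r) :=
  h.ch2 _ (isP_zp r2) (zpowers_ne_bot.2 r1) ⟨by rw [norm_zp r2]; exact mem_cent1.2 hg,
    fun q hq => (hc q hq).symm⟩

theorem Gl.odd_bot (h : Gl G) {r : G} (r2 : r * r = 1) (r1 : r ≠ 1) {Y : Subgroup G} (ho : Odd (Nat.card Y))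
    (hY : Y ≤ 𝒞[r]) (hn : 𝒞[r] ≤ 𝒩(Y)) : Y = ⊥ := by
  have h1 : Y ⊓ O2N (zpowers r) = ⊥ := (eq_bot_iff_forall _).2 fun x hx => by
    obtain ⟨k, hk⟩ := L72.O2N_isP (zpowers r) ⟨x, hx.2⟩
    exact orderOf_eq_one_iff.1 (Nat.eq_one_of_dvd_coprimes ((Nat.coprime_two_right.2 ho).pow_right k)
      (orderOf_dvd_natCard Y hx.1) (orderOf_dvd_of_pow_eq_one (congrArg Subtype.val hk)))
  have h2 := cent_of_norm_of_disjoint ((norm_zp r2 ▸ hY).trans (L72.norm_O2N _))
    ((L72.O2N_le _).trans (norm_zp r2 ▸ hn)) h1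
  have h3 : Y ≤ O2N (zpowers r) := fun y hy =>
    h.cen r2 r1 (mem_cent1.1 (hY hy)) fun q hq => (h2 hy q hq).symm
  rw [← h1, inf_eq_left.2 h3]

theorem three_mem {r v g : G} {Y : Subgroup G} (v2 : v * v = 1) (r2 : r * r = 1) (vr : Commute v r) (gr : Commute g r)
    (g3 : g ^ 3 = 1) (nr : nrm v g = 1) (hn : g ∈ 𝒩(Y)) {y : G} (hy : y ∈ Y) (hU : y ∈ Subgroup.closure {r, v, g * v * g⁻¹})
    (h : y ∉ zpowers r) : v ∈ Y := by
  obtain ⟨v', hv'⟩ : ∃ v', g * v * g⁻¹ = v' := ⟨_, rfl⟩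
  obtain ⟨v'', hv''⟩ : ∃ v'', g * v' * g⁻¹ = v'' := ⟨_, rfl⟩
  have c3 : g * v'' * g⁻¹ = v := by
    calc g * v'' * g⁻¹ = g ^ 3 * v * (g ^ 3)⁻¹ := by
          rw [← hv'', ← hv']
          simp only [pow_succ, pow_zero, one_mul, _root_.mul_inv_rev, mul_assoc]
      _ = v := by rw [g3]; group
  have s1 : v' * v' = 1 := by rw [← hv', conj_mul, v2, mul_one, mul_inv_cancel]
  have s2 : v'' * v'' = 1 := by rw [← hv'', conj_mul, s1, mul_one, mul_inv_cancel]
  have n1 : v * v' * v'' = 1 := by rw [← nr, nrm, ← hv'', ← hv']; group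
  have n2 : v * v' = v'' := by rw [← mul_one (v * v'), ← s2, ← mul_assoc, n1, one_mul]
  have n3 : v' * v'' = v := by rw [← one_mul (v' * v''), ← v2, mul_assoc, ← mul_assoc v v', n1, mul_one]
  have n4 : v' * v = v * v' := by rw [n2, ← n3, ← mul_assoc, s1, one_mul]
  have r1 : Commute v' r := hv' ▸ (gr.mul_left vr).mul_left gr.inv_left
  have vv : ∀ x, v * (v * x) = x := fun x => by rw [← mul_assoc, v2, one_mul]
  have ww : ∀ x, v' * (v' * x) = x := fun x => by rw [← mul_assoc, s1, one_mul]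
  have wv : ∀ x, v' * (v * x) = v * (v' * x) := fun x => by rw [← mul_assoc, n4, mul_assoc]
  let K : G → Prop := fun w => w = 1 ∨ w = v ∨ w = v' ∨ w = v * v'
  have Kr : ∀ w, K w → Commute w r := by
    rintro w (e | e | e | e) <;> rw [e]
    exacts [Commute.one_left _, vr, r1, vr.mul_left r1]
  have Km : ∀ w w', K w → K w' → K (w * w') := by
    rintro w w' (e | e | e | e) (e' | e' | e' | e') <;> rw [e, e'] <;>
      simp [K, mul_assoc, v2, s1, n4, vv, wv]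
  have Ki : ∀ w, K w → w * w = 1 := by
    rintro w (e | e | e | e) <;> rw [e]
    exacts [one_mul 1, v2, s1, n2 ▸ s2]
  obtain ⟨e, he, w, hw, rfl⟩ : ∃ e ∈ zpowers r, ∃ w, K w ∧ y = e * w := by
    rw [hv'] at hU
    clear hy h
    induction hU using closure_induction with
    | mem x hx =>
      rcases hx with e | e | e
      · exact ⟨x, e ▸ mem_zpowers r, 1, Or.inl rfl, (mul_one _).symm⟩
      · exact ⟨1, one_mem _, x, Or.inr (Or.inl e), (one_mul _).symm⟩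
      · exact ⟨1, one_mem _, x, Or.inr (Or.inr (Or.inl e)), (one_mul _).symm⟩
    | one => exact ⟨1, one_mem _, 1, Or.inl rfl, (one_mul _).symm⟩
    | mul x y _ _ hx hy =>
      obtain ⟨_, ⟨k, rfl⟩, w, hw, rfl⟩ := hx
      obtain ⟨_, ⟨m, rfl⟩, w', hw', rfl⟩ := hy
      refine ⟨_, mul_mem ⟨k, rfl⟩ ⟨m, rfl⟩, _, Km w w' hw hw', ?_⟩
      simp only [mul_assoc]
      rw [← mul_assoc w, ((Kr w hw).zpow_right m).eq, mul_assoc]
    | inv x _ hx =>
      obtain ⟨_, ⟨k, rfl⟩, w, hw, rfl⟩ := hx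
      refine ⟨_, inv_mem ⟨k, rfl⟩, w, hw, ?_⟩
      rw [_root_.mul_inv_rev, inv_eq_of_mul_eq_one_right (Ki w hw)]
      exact ((Kr w hw).zpow_right k).inv_right.eq
  have e2 : e * e = 1 ∧ Commute g e ∧ Commute v' e := by
    rcases (L72.mem_zpowers_two r2).1 he with e1 | e1 <;> rw [e1]
    exacts [⟨one_mul 1, Commute.one_right _, Commute.one_right _⟩, ⟨r2, gr, r1⟩]
  have st : ∀ x, e * x ∈ Y → e * (g * x * g⁻¹) ∈ Y := fun x hx => by
    have := (mem_normalizer_iff.1 hn _).1 hx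
    rwa [← mul_assoc, e2.2.1.eq, mul_assoc, mul_assoc, ← mul_assoc g] at this
  have fin : e * v' ∈ Y → v ∈ Y := fun h1 => by
    have h2 := Y.mul_mem h1 (hv'' ▸ st _ h1)
    rwa [mul_assoc, ← mul_assoc v', e2.2.2.eq, mul_assoc, n3, ← mul_assoc, e2.1, one_mul] at h2
  rcases hw with e1 | e1 | e1 | e1 <;> rw [e1] at hy h
  · exact absurd (by rwa [mul_one]) h
  · exact fin (hv' ▸ st _ hy)
  · exact fin hy
  · rw [n2] at hy
    exact fin (hv' ▸ st _ (c3 ▸ st _ hy))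

theorem transfer3 (h3 : ∀ N : Subgroup G, N.Normal → N.index = 3 → False) {S B : Subgroup G} (hS : ¬ 3 ∣ S.index)
    (f : S →* Multiplicative (ZMod 3)) (hB : IsPGroup 3 B) {c : G} (c1 : c ^ 3 = 1) (c2 : c ∈ B)
    (c3 : ∀ b ∈ B, b * c = c * b) {x : Multiplicative (ZMod 3)}
    (h : ∀ g : G, (∀ b ∈ B, g⁻¹ * b * g ∈ S) → ∀ hg : g⁻¹ * c * g ∈ S, f ⟨_, hg⟩ = x) : x = 1 := by
  have hA : ∀ a : Multiplicative (ZMod 3), a ^ 3 = 1 := by decide
  classical
  have := f3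
  have : Fintype (Quotient (MulAction.orbitRel (zpowers c) (G ⧸ S))) := Fintype.ofFinite _
  have : Fintype (G ⧸ S) := Fintype.ofFinite _
  have fx : ∀ (b : G) (q : G ⧸ S), b • q = q ↔ q.out⁻¹ * b * q.out ∈ S := fun b q => by
    conv_lhs => rw [← q.out_eq', MulAction.Quotient.smul_mk, eq_comm, QuotientGroup.eq]
    rw [smul_eq_mul, mul_assoc]
  let F : G ⧸ S → Multiplicative (ZMod 3) :=
    fun q => if h : q.out⁻¹ * c * q.out ∈ S then f ⟨_, h⟩ else 1
  have e1 : MonoidHom.transfer f c = ∏ q, F q := by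
    rw [MonoidHom.transfer_eq_prod_quotient_orbitRel_zpowers_quot]
    have k : ∀ q : G ⧸ S, f ⟨_, QuotientGroup.out_conj_pow_minimalPeriod_mem S c q⟩ = F q := by
      intro q
      by_cases e : c • q = q
      · have m := Function.minimalPeriod_eq_one_iff_isFixedPt.2 (show Function.IsFixedPt (c • ·) q
          from e)
        simp only [F, dif_pos ((fx c q).1 e), m, pow_one]
      · have m := ((Nat.dvd_prime Nat.prime_three).1 (MulAction.pow_smul_eq_iff_minimalPeriod_dvd.1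
          (show c ^ 3 • q = q by rw [c1, one_smul]))).resolve_left fun f =>
            e (Function.minimalPeriod_eq_one_iff_isFixedPt.1 f)
        simp only [F, dif_neg (mt (fx c q).2 e), m, c1, mul_one, inv_mul_cancel]
        exact map_one f
    simp only [k]
    refine Finset.prod_bij_ne_one (fun q _ _ => q.out) (fun _ _ _ => Finset.mem_univ _)
      (fun _ _ _ _ _ _ e => Quotient.out_injective e) (fun q _ e => ?_) fun _ _ _ => rfl
    have f : c • q = q := (fx c q).2 (by_contra fun f => e (dif_neg f))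
    have o : (Quotient.mk (MulAction.orbitRel (zpowers c) (G ⧸ S)) q).out = q := by
      obtain ⟨⟨_, n, rfl⟩, hn⟩ := Quotient.exact (Quotient.out_eq
        (Quotient.mk (MulAction.orbitRel (zpowers c) (G ⧸ S)) q))
      exact hn.symm.trans (zpow_mem (MulAction.mem_stabilizer_iff.2 f) n)
    exact ⟨_, Finset.mem_univ _, by rwa [o], o⟩
  have e0 : MonoidHom.transfer f c = 1 := by
    by_contra e
    refine h3 (MonoidHom.transfer f).ker inferInstance ?_
    rw [index_ker]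
    have h1 := card_subgroup_dvd_card (MonoidHom.transfer f).range
    rw [show Nat.card (Multiplicative (ZMod 3)) = 3 by simp] at h1
    refine ((Nat.dvd_prime Nat.prime_three).1 h1).resolve_left fun h2 => e ?_
    exact mem_bot.1 (card_eq_one.1 h2 ▸ MonoidHom.mem_range.2 ⟨c, rfl⟩)
  have e2 := H72.GN.prod_eq_one_of_fix hB hA (fun q => F q * x⁻¹) (fun b q => ?_) fun q hq => ?_
  · rw [Finset.prod_mul_distrib, ← e1, e0, one_mul,
      Finset.prod_const, inv_pow, inv_eq_one, Finset.card_univ, ← Nat.card_eq_fintype_card] at e2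
    exact (pow_eq_one_iff_of_coprime ((Nat.Prime.coprime_iff_not_dvd Nat.prime_three).2 hS)).1 ⟨hA x, e2⟩
  · congr 1
    obtain ⟨s, hs⟩ := QuotientGroup.mk_out_eq_mul S ((b : G) * q.out)
    have o : (b • q).out = b * q.out * s := by
      rw [← hs]; congr 1
      conv_lhs => rw [← q.out_eq']
      rfl
    have e : (b • q).out⁻¹ * c * (b • q).out = (s : G)⁻¹ * (q.out⁻¹ * c * q.out) * s := by
      rw [o]
      calc _ = (s : G)⁻¹ * q.out⁻¹ * ((b : G)⁻¹ * (c * b)) * q.out * s := by group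
        _ = _ := by rw [← c3 b b.2]; group
    by_cases f1 : q.out⁻¹ * c * q.out ∈ S
    · have f' : (b • q).out⁻¹ * c * (b • q).out ∈ S :=
        e ▸ S.mul_mem (S.mul_mem (S.inv_mem s.2) f1) s.2
      simp only [F, dif_pos f1, dif_pos f']
      rw [show (⟨_, f'⟩ : S) = s⁻¹ * ⟨_, f1⟩ * s from Subtype.ext e, map_mul, map_mul, map_inv,
        inv_mul_cancel_comm]
    · have f' : (b • q).out⁻¹ * c * (b • q).out ∉ S := fun f' => f1 (by
        rwa [e, S.mul_mem_cancel_right s.2, S.mul_mem_cancel_left (S.inv_mem s.2)] at f')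
      simp only [F, dif_neg f1, dif_neg f']
  · have k := fun b hb => (fx b q).1 (hq ⟨b, hb⟩)
    simp only [F, dif_pos (k c c2), h _ k, mul_inv_cancel]

end Cfsg.Agent.S86
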