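import Cfsg.Agent.S86.ModA
import Cfsg.Agent.S86.ModB
import Cfsg.Agent.S86.GenA

/-! The structure of the centraliser of `b`. -/

set_option autoImplicit false
set_option linter.unusedSectionVars false

namespace Cfsg.Agent.S86

open Subgroup H49 Matrix F42
open Cfsg.Agent.L72 (O2N)

variable {G : Type*} [Group G] [Finite G] {a : V4 → G} {ψ ψ' : S6 →* G} {ρ : Fin 4 → G} {t : Fin 4 → Fin 4 → G}
  {e E : ℕ → G} {φ : S8 →* G}

namespace BaseA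

theorem sw_sq : sw * sw = 1 :=
  cd_inj (by simp only [sw, Em, cd_mul, cd_tv, cd_one]; decide +kernel)

theorem sw1_sq : sw1 * sw1 = 1 :=
  cd_inj (by simp only [sw1, sw, xm, Em, cd_mul, cd_tv, cd_one]; decide +kernel)

theorem cenL (h : St a ψ) {γ : S6} (hc : ∀ δ, Commute (ψ γ) (ψ δ)) : γ = 1 :=
  center_S6 fun δ => h.ψi (by rw [map_mul, map_mul]; exact hc δ)

theorem dec (h : St a ψ) {g : G} (hc : Commute g (a (ee 0))) :
    ∃ k γ, Commute k (a (ee 0)) ∧ (∀ δ, Commute k (ψ δ)) ∧ g = k * ψ γ := by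
  obtain ⟨k, γ, h1, rfl⟩ := h.cen g hc
  refine ⟨k, γ, ?_, h1, rfl⟩
  have := hc.mul_left (h.bL γ).symm.inv_left
  rwa [mul_inv_cancel_right] at this

theorem pw (h : St a ψ) {k : G} {γ : S6} (hk : ∀ δ, Commute k (ψ δ)) {n : ℕ} (hn : (k * ψ γ) ^ n = 1) :
    k ^ n = 1 ∧ γ ^ n = 1 := by
  rw [(hk γ).mul_pow, ← map_pow] at hn
  have h1 : γ ^ n = 1 := cenL h fun δ => by
    rw [eq_inv_of_mul_eq_one_right hn]
    exact ((hk δ).pow_left n).inv_left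
  rw [h1, map_one, mul_one] at hn
  exact ⟨hn, h1⟩

theorem uq (h : St a ψ) {g : G} {γ γ' : S6} (h1 : ∀ δ, Commute (g * (ψ γ)⁻¹) (ψ δ))
    (h2 : ∀ δ, Commute (g * (ψ γ')⁻¹) (ψ δ)) : γ = γ' := by
  refine mul_inv_eq_one.1 (cenL h fun δ => ?_)
  have := (h1 δ).inv_left.mul_left (h2 δ)
  rwa [show (g * (ψ γ)⁻¹)⁻¹ * (g * (ψ γ')⁻¹) = ψ (γ * γ'⁻¹) by rw [map_mul, map_inv]; group] at this

theorem coord (h : St a ψ) (u : V4) : a u = a (ee 0) ^ (u 0).val * ψ (jm u) := by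
  have h1 : ∀ u : V4, u = u 0 • ee 0 + (u 1 • ee 1 + u 2 • ee 2 + u 3 • ee 3) := fun u => by
    ext i
    fin_cases i <;> simp [ee]
  have h2 := h.c 0
  have h3 := h.c 1
  have h4 := h.c 2
  rw [jm, map_mul, map_mul, map_pow, map_pow, map_pow, h2, h3, h4, ← h.toTA.smul, ← h.toTA.smul, ← h.toTA.smul,
    ← h.toTA.smul, ← h.add, ← h.add, ← h.add]
  exact congrArg a (h1 u)

theorem pjm (h : St a ψ) {u : V4} (u0 : u 0 = 0) : ψ (jm u) = a u := by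
  rw [coord h u, u0, ZMod.val_zero, pow_zero, one_mul]

theorem comm_a (h : St a ψ) {k : G} (h1 : Commute k (a (ee 0))) (h2 : ∀ δ, Commute k (ψ δ)) (u : V4) :
    Commute k (a u) := by
  rw [coord h u]
  exact (h1.pow_right _).mul_right (h2 _)

theorem cube (h : St a ψ) {γ : S6} (hc : ∀ i, Commute γ (cm i)) : γ ^ 3 = 1 := by
  obtain ⟨u, u0, rfl⟩ := mem_Jm.1 (cenM hc)
  exact h.ψi (by rw [map_pow, pjm h u0, h.toTA.cube, map_one])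

theorem comm_cm (h : St a ψ) {k : G} {γ : S6} (hk : ∀ δ, Commute k (ψ δ)) (hg : ∀ u, Commute (k * ψ γ) (a u))
    (i : Fin 3) : Commute γ (cm i) := by
  have h1 := (hk (cm i)).inv_left.mul_left (h.c i ▸ hg (ee i.succ))
  rw [inv_mul_cancel_left] at h1
  exact h.ψi (by rw [map_mul, map_mul]; exact h1)

theorem rfg (h : St a ψ) {γ : S6} {v : V4} (h2 : γ * γ = 1) (v0 : v 0 = 0)
    (hγ : ∀ u, γ * jm u * γ⁻¹ = jm (sv v u)) : Rf a v (ψ γ) := by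
  refine ⟨by rw [← map_mul, h2, map_one], fun u => ?_⟩
  have h1 : sv v u 0 = u 0 := by simp [sv, v0]
  rw [coord h u, coord h (sv v u), h1, ← hγ, map_mul, map_mul, map_inv, ← mul_assoc,
    ← ((h.bL γ).pow_left _).eq]
  simp only [mul_assoc]

theorem cc' {n x y : G} (h : Commute x (n * y * n⁻¹)) : Commute (n⁻¹ * x * n) y := by
  have := qt_comm (g := n⁻¹).2 h
  simpa [mul_assoc] using this

end BaseA

open BaseA

theorem St.proj (h : St a ψ) : ∃ π : 𝒞[a (ee 0)] →* S6, ∀ g : 𝒞[a (ee 0)], ∀ δ, Commute (g.1 * (ψ (π g))⁻¹) (ψ δ) := by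
  have h1 : ∀ g : 𝒞[a (ee 0)], ∃ γ, ∀ δ, Commute (g.1 * (ψ γ)⁻¹) (ψ δ) := fun g => by
    obtain ⟨k, γ, h1, h2⟩ := h.cen g.1 (mem_cent1.1 g.2)
    exact ⟨γ, by rwa [h2, mul_inv_cancel_right]⟩
  choose f hf using h1
  refine ⟨MonoidHom.mk' f fun x y => uq h (hf (x * y)) fun δ => ?_, hf⟩
  have e1 : (x * y).1 * (ψ (f x * f y))⁻¹ = (x.1 * (ψ (f x))⁻¹) * (y.1 * (ψ (f y))⁻¹) := by
    have := (hf y (f x)).inv_right.eq
    rw [map_mul, _root_.mul_inv_rev, Subgroup.coe_mul, mul_assoc, mul_assoc, ← this]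
    simp only [mul_assoc]
  rw [e1]
  exact (hf x δ).mul_left (hf y δ)

theorem St.two (h : St a ψ) {g : G} (h2 : El 2 g) (hc : Commute g (a (ee 0))) : ∃ γ, El 2 γ ∧ g = ψ γ := by
  obtain ⟨k, γ, h3, h4, rfl⟩ := dec h hc
  obtain ⟨m, hm⟩ := h2
  obtain ⟨h5, h6⟩ := pw h h4 hm
  have h7 : orderOf k = 1 :=
    Nat.eq_one_of_dvd_coprimes ((Nat.coprime_two_left.2 (h.kodd k h3 h4)).pow_left m)
      (orderOf_dvd_of_pow_eq_one h5) dvd_rfl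
  exact ⟨γ, ⟨m, h6⟩, by rw [orderOf_eq_one_iff.1 h7, one_mul]⟩

theorem St.three (h : St a ψ) {g : G} (h3 : El 3 g) (hc : Commute g (a (ee 0))) :
    ∃ (k : ℕ) (γ : S6), El 3 γ ∧ g = a (ee 0) ^ k * ψ γ := by
  obtain ⟨k, γ, h1, h4, rfl⟩ := dec h hc
  obtain ⟨m, hm⟩ := h3
  obtain ⟨h5, h6⟩ := pw h h4 hm
  obtain ⟨j, hj⟩ := mem_powers_iff_mem_zpowers.2 (h.k3 k h1 h4 ⟨m, h5⟩)
  exact ⟨j, γ, ⟨m, h6⟩, by rw [← hj]⟩

theorem St.pjm (h : St a ψ) {u : V4} (u0 : u 0 = 0) : ψ (jm u) = a u := BaseA.pjm h u0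

theorem St.Ig_eq (h : St a ψ) : Jm.map ψ = Ig a := by
  ext g
  rw [h.toTA.mem_Ig, mem_map]
  constructor
  · rintro ⟨γ, hγ, rfl⟩
    obtain ⟨u, u0, rfl⟩ := mem_Jm.1 hγ
    exact ⟨u, u0, h.pjm u0⟩
  · rintro ⟨u, u0, rfl⟩
    exact ⟨jm u, mem_Jm.2 ⟨u, u0, rfl⟩, h.pjm u0⟩

theorem St.k0 (h : St a ψ) {k : G} (hk : ∀ u, Commute k (a u)) (h3 : (orderOf k).Coprime 3) (γ : S6) : Commute k (ψ γ) := by
  obtain ⟨k, δ, -, h4, rfl⟩ := dec h (hk _)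
  have h5 := cube h (comm_cm h h4 hk)
  have h6 := (pw h h4 (pow_orderOf_eq_one (k * ψ δ))).2
  have h7 : δ = 1 := orderOf_eq_one_iff.1
    (Nat.eq_one_of_dvd_coprimes h3 (orderOf_dvd_of_pow_eq_one h6) (orderOf_dvd_of_pow_eq_one h5))
  rw [h7, map_one, mul_one]
  exact h4 γ

theorem St.cenA (h : St a ψ) {g : G} (hg : ∀ u, Commute g (a u)) :
    ∃ u k, g = a u * k ∧ (orderOf k).Coprime 6 ∧ ∀ v, Commute k (a v) := by
  obtain ⟨k, γ, h1, h4, rfl⟩ := dec h (hg _)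
  obtain ⟨u, u0, rfl⟩ := mem_Jm.1 (cenM (comm_cm h h4 hg))
  obtain ⟨m, r, hr, hn⟩ := Nat.exists_eq_pow_mul_and_not_dvd (orderOf_pos k).ne' 3 (by norm_num)
  have h5 : k ^ r ∈ zpowers (a (ee 0)) := h.k3 _ (h1.pow_left r) (fun δ => (h4 δ).pow_left r)
    ⟨m, by rw [← pow_mul, mul_comm, ← hn, pow_orderOf_eq_one]⟩
  obtain ⟨j, hj⟩ := mem_powers_iff_mem_zpowers.2 h5
  replace hj : a (ee 0) ^ j = k ^ r := hj
  have h6 : (k ^ r) ^ 3 = 1 := by rw [← hj, ← pow_mul, mul_comm, pow_mul, h.toTA.cube, one_pow]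
  have h7 : r * r % 3 = 1 := by
    have : r % 3 = 1 ∨ r % 3 = 2 := by omega
    rcases this with h8 | h8 <;> simp [Nat.mul_mod, h8]
  have h8 : Commute ((k ^ r) ^ r)⁻¹ k := (((Commute.refl k).pow_left r).pow_left r).inv_left
  have h9 : (((k ^ r) ^ r)⁻¹ * k) ^ r = 1 := by
    rw [h8.mul_pow, inv_pow, ← pow_mul (k ^ r), pow_eq_pow_mod _ h6, h7, pow_one, inv_mul_cancel]
  have h10 : r.Coprime 6 := by
    have h11 : Odd r := Odd.of_dvd_nat (h.kodd k h1 h4) (hn ▸ dvd_mul_left r _)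
    exact Nat.Coprime.mul_right (Nat.coprime_two_right.2 h11)
      ((Nat.Prime.coprime_iff_not_dvd Nat.prime_three).2 hr).symm
  have h11 : ∀ x, Commute k x → Commute (((k ^ r) ^ r)⁻¹ * k) x := fun x hx =>
    ((hx.pow_left r).pow_left r).inv_left.mul_left hx
  refine ⟨((j * r : ℕ) : ZMod 3) • ee 0 + u, ((k ^ r) ^ r)⁻¹ * k, ?_,
    h10.coprime_dvd_left (orderOf_dvd_of_pow_eq_one h9), comm_a h (h11 _ h1) fun δ => h11 _ (h4 δ)⟩
  rw [h.add, ← h.toTA.pow, pow_mul, hj, ← h.pjm u0, mul_assoc, ← (h11 _ (h4 _)).eq]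
  simp only [mul_assoc, mul_inv_cancel_left]

theorem St.cen3 (h : St a ψ) {g : G} (h3 : El 3 g) (hg : ∀ u, Commute g (a u)) : ∃ u, g = a u := by
  obtain ⟨u, k, rfl, h1, h2⟩ := h.cenA hg
  obtain ⟨m, hm⟩ := h3
  have h4 : (a u * k) ^ 3 ^ (m + 1) = 1 := by rw [pow_succ, pow_mul, hm, one_pow]
  rw [(h2 u).symm.mul_pow, pow_succ', pow_mul, h.toTA.cube, one_pow, one_mul, ← pow_succ'] at h4
  have h5 : orderOf k = 1 := Nat.eq_one_of_dvd_coprimes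
    ((h1.coprime_dvd_right (by norm_num : 3 ∣ 6)).pow_right (m + 1)) dvd_rfl (orderOf_dvd_of_pow_eq_one h4)
  exact ⟨u, by rw [orderOf_eq_one_iff.1 h5, mul_one]⟩

theorem St.cja (h : St a ψ) (n : G) : St (cja n a) (cjh n ψ) where
  toTA := h.toTA.cja n
  toGl := h.toGl
  ψi := (MulAut.conj n).injective.comp h.ψi
  c i := by rw [cjh_apply, h.c]; rfl
  bL γ := qt_comm.2 (h.bL γ)
  cen g hg := by
    obtain ⟨k, γ, h1, h2⟩ := h.cen _ (cc' hg)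
    refine ⟨n * k * n⁻¹, γ, fun δ => qt_comm.2 (h1 δ), ?_⟩
    rw [cjh_apply, conj_mul, ← h2]
    group
  kodd k h1 h2 := by
    have := h.kodd _ (cc' h1) fun δ => cc' (h2 δ)
    rwa [show n⁻¹ * k * n = MulAut.conj n⁻¹ k by simp, MulEquiv.orderOf_eq] at this
  k3 k h1 h2 h3 := by
    obtain ⟨m, hm⟩ := h3
    obtain ⟨j, hj⟩ := h.k3 _ (cc' h1) (fun δ => cc' (h2 δ))
      ⟨m, by rw [show n⁻¹ * k * n = MulAut.conj n⁻¹ k by simp, ← map_pow, hm, map_one]⟩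
    refine ⟨j, ?_⟩
    replace hj : a (ee 0) ^ j = n⁻¹ * k * n := hj
    change (n * a (ee 0) * n⁻¹) ^ j = k
    rw [conj_zpow, hj]
    group

theorem St.ac (h : St a ψ) {n : G} {θ : M4} (hn : Ac a n θ) : St (tw a θ) (cjh n ψ) := hn.cja_eq ▸ h.cja n

theorem St.normL (h : St a ψ) {n : G} (hn : n * a (ee 0) * n⁻¹ = a (ee 0) ∨ n * a (ee 0) * n⁻¹ = (a (ee 0))⁻¹) :
    ∃ γ, ∀ δ, n * ψ δ * n⁻¹ = ψ (γ * δ * γ⁻¹) := by
  have h1 : ∀ m, tv m ∈ ψ.range.comap (cjh n ψ) := fun m => by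
    have h2 : Commute (cjh n ψ (tv m)) (n * a (ee 0) * n⁻¹) := qt_comm.2 (h.bL _).symm
    have h3 : Commute (cjh n ψ (tv m)) (a (ee 0)) := by
      rcases hn with e | e <;> rw [e] at h2
      exacts [h2, Commute.inv_right_iff.1 h2]
    obtain ⟨γ, -, e⟩ := h.two ⟨1, by rw [pow_one, sq, ← map_mul, tv_sq, map_one]⟩ h3
    exact ⟨γ, e.symm⟩
  have h2 : ψ.range.comap (cjh n ψ) = ⊤ := by
    rw [eq_top_iff, ← gen_S, closure_le]
    rintro _ (rfl | rfl | rfl | rfl | rfl | rfl | rfl | rfl) <;> exact h1 _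
  have h3 : ∀ δ, ∃ γ, ψ γ = cjh n ψ δ := fun δ => (h2 ▸ mem_top δ : δ ∈ ψ.range.comap (cjh n ψ))
  choose f hf using h3
  have : Finite S6 := Nat.finite_of_card_ne_zero (by rw [card_S6]; norm_num)
  let α : S6 →* S6 := MonoidHom.mk' f fun x y => h.ψi (by rw [map_mul, hf, hf, hf, map_mul])
  have h4 : Function.Injective α := fun x y e => (h.cja n).ψi (by rw [← hf, ← hf]; exact congrArg ψ e)
  obtain ⟨γ, hγ⟩ := aut_S6 (MulEquiv.ofBijective α h4.bijective_of_finite)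
  exact ⟨γ, fun δ => by rw [← hγ]; exact (hf δ).symm⟩

theorem St.rf0 (h : St a ψ) {r : G} (hr : Rf a (ee 0) r) (γ : S6) : Commute r (ψ γ) := by
  obtain ⟨β, hβ⟩ := h.normL (n := r) (.inr (by rw [hr.2, sv_self (by decide), h.toTA.neg]))
  have h1 : β ^ 3 = 1 := cube h fun i => by
    have h2 : r * ψ (cm i) * r⁻¹ = ψ (cm i) := by
      rw [h.c, hr.2, sv_perp (by revert i; decide)]
    exact mul_inv_eq_iff_eq_mul.1 (h.ψi ((hβ _).symm.trans h2))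
  have h2 : β * β = 1 := center_S6 fun δ => by
    have h3 : ψ (β * (β * δ * β⁻¹) * β⁻¹) = ψ δ := by
      rw [← hβ, ← hβ]
      calc r * (r * ψ δ * r⁻¹) * r⁻¹ = r * r * ψ δ * (r * r)⁻¹ := by group
        _ = ψ δ := by rw [hr.1]; group
    have h4 := h.ψi h3
    exact mul_inv_eq_iff_eq_mul.1 (by rw [← h4]; nth_rw 2 [← h4]; rw [h4]; group)
  have h3 : β = 1 := by rwa [pow_three, h2, mul_one] at h1
  have h4 := hβ γ
  rw [h3, one_mul, inv_one, mul_one] at h4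
  exact mul_inv_eq_iff_eq_mul.1 h4

theorem St.rfx (h : St a ψ) (i : Fin 3) : Rf a (ee i.succ) (ψ (xm i)) :=
  rfg h (tv_sq _) (by revert i; decide) (xm_jm i)

theorem St.rfs (h : St a ψ) : Rf a cv (ψ sw) ∧ Rf a fv (ψ sw1) :=
  ⟨rfg h sw_sq rfl sw_jm, rfg h sw1_sq rfl sw1_jm⟩

theorem St.rfu (h : St a ψ) (i : Fin 3) {r : G} (hr : Rf a (ee i.succ) r) :
    ∃ m : ℕ, r = a (ee i.succ) ^ m * ψ (xm i) * (a (ee i.succ) ^ m)⁻¹ := by
  obtain ⟨γ, -, rfl⟩ := h.two ⟨1, by rw [pow_one, sq, hr.1]⟩ (hr.comm_a (u := ee 0) (by clear hr; revert i; decide))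
  obtain ⟨m, hm⟩ := mR (γ := γ) i (h.ψi (by rw [map_mul, hr.1, map_one])) fun k => by
    have h1 : ψ γ * (ψ (xm i) * ψ (cm k) * (ψ (xm i))⁻¹) * (ψ γ)⁻¹ = ψ (cm k) := by
      rw [h.c, (h.rfx i).2, hr.2, bas_sv_sv (by clear hr; revert i; decide)]
    refine h.ψi ?_
    simp only [map_mul]
    nth_rw 2 [← h1]
    group
  exact ⟨m, by rw [hm, map_mul, map_mul, map_inv, map_pow, h.c]⟩

theorem St.sigb (h : St a ψ) {Y : Subgroup G} (h3 : (Nat.card Y).Coprime 3) (hb : Y ≤ 𝒞[a (ee 0)])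
    (hn : Ig a ≤ 𝒩(Y)) : ∀ y ∈ Y, ∀ γ, Commute y (ψ γ) := by
  obtain ⟨π, hπ⟩ := h.proj
  have h1 : (Y.subgroupOf 𝒞[a (ee 0)]).map π = ⊥ := by
    refine sigM _ (h3.coprime_dvd_left ?_) (le_norm_iff.2 ?_)
    · rw [← Nat.card_congr (subgroupOfEquivOfLe hb).toEquiv]
      exact card_map_dvd _ _
    · rintro j hj _ ⟨y, hy, rfl⟩
      have h2 : ψ j ∈ 𝒞[a (ee 0)] := mem_cent1.2 (h.bL j).symm
      have h4 : π ⟨ψ j, h2⟩ = j := uq h (hπ ⟨ψ j, h2⟩) fun δ => by simp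
      refine ⟨⟨ψ j, h2⟩ * y * ⟨ψ j, h2⟩⁻¹, ?_, by rw [map_mul, map_mul, map_inv, h4]⟩
      exact conj_mem_of_norm hn (h.Ig_eq ▸ mem_map_of_mem ψ hj) hy
  intro y hy γ
  have h2 : π ⟨y, hb hy⟩ = 1 := mem_bot.1 (h1 ▸ mem_map_of_mem π (show ⟨y, hb hy⟩ ∈ Y.subgroupOf _ from hy))
  simpa [h2] using hπ ⟨y, hb hy⟩ γ

end Cfsg.Agent.S86
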