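import Cfsg.Agent.S86.Defs
import Cfsg.Agent.S2166

/-! The classes of involutions of `Sp₈(2)`. -/

set_option autoImplicit false

namespace Cfsg.Agent.S86

open Subgroup H49 Matrix F42
open Cfsg.Agent.L72 (O2N)

namespace Cls

/-- the index type -/
abbrev I8 : Type := Fin 4 ⊕ Fin 4

/-- position of an index -/
def ix : I8 → ℕ := Sum.elim Fin.val fun i => 4 + i.val

/-- a matrix from the codes of its rows -/
def mk {ι κ : Type} (f : ι → ℕ) (g : κ → ℕ) (l : List ℕ) : Matrix ι κ (ZMod 2) :=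
  Matrix.of fun i j => ((l.getD (f i) 0 / 2 ^ g j : ℕ) : ZMod 2)

/-- square matrices -/
abbrev M8 (l : List ℕ) : Matrix I8 I8 (ZMod 2) := mk ix ix l

theorem rank_of {r : ℕ} {N : Matrix I8 I8 (ZMod 2)} (b c d e : List ℕ)
    (h1 : N = @HMul.hMul (Matrix I8 (Fin r) (ZMod 2)) (Matrix (Fin r) I8 (ZMod 2)) _
      Matrix.instHMulOfFintypeOfMulOfAddCommMonoid (mk ix Fin.val b) (mk Fin.val ix c))
    (h2 : mk (Fin.val : Fin r → ℕ) ix d * mk ix (Fin.val : Fin r → ℕ) b = 1)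
    (h3 : mk (Fin.val : Fin r → ℕ) ix c * mk ix (Fin.val : Fin r → ℕ) e = 1) : N.rank = r := by
  refine le_antisymm (h1 ▸ (rank_mul_le_left _ _).trans
    ((rank_le_card_width _).trans (Fintype.card_fin r).le)) ?_
  have h4 : mk (Fin.val : Fin r → ℕ) ix d * N * mk ix (Fin.val : Fin r → ℕ) e = 1 := by
    rw [h1, ← Matrix.mul_assoc, h2, Matrix.one_mul, h3]
  have h5 := (rank_mul_le_left (mk (Fin.val : Fin r → ℕ) ix d * N)
    (mk ix (Fin.val : Fin r → ℕ) e)).trans (rank_mul_le_right _ _)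
  rwa [h4, rank_one, Fintype.card_fin] at h5

theorem quad_zero {S : Matrix I8 I8 (ZMod 2)} (h1 : ∀ i j, S i j = S j i) (h2 : ∀ i, S i i = 0)
    (v : I8 → ZMod 2) : v ⬝ᵥ (S *ᵥ v) = 0 := by
  simp only [dotProduct, mulVec, Finset.mul_sum]
  rw [← Finset.sum_product']
  refine Finset.sum_ninvolution Prod.swap (fun p => ?_) (fun p hp e => hp ?_) (fun p => by simp)
    fun p => rfl
  · rw [Prod.fst_swap, Prod.snd_swap, h1 p.2 p.1, show v p.2 * (S p.1 p.2 * v p.1) =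
      v p.1 * (S p.1 p.2 * v p.2) by ring]
    exact CharTwo.add_self_eq_zero _
  · rw [show p.2 = p.1 from congrArg Prod.fst e, h2, zero_mul, mul_zero]

/-- the form attached to the element is alternating -/
def Alt (x : S8) : Prop := ∀ v, sympForm 4 (ZMod 2) v (x.1 *ᵥ v) = 0

theorem alt_of {x : S8} {l : List ℕ} (h : x.1 = M8 l)
    (h1 : ∀ i j, (J (Fin 4) (ZMod 2) * M8 l) i j = (J (Fin 4) (ZMod 2) * M8 l) j i)
    (h2 : ∀ i, (J (Fin 4) (ZMod 2) * M8 l) i i = 0) : Alt x := fun v => by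
  rw [sympForm, mulVec_mulVec, h]
  exact quad_zero h1 h2 v

theorem nalt_of {x : S8} {l : List ℕ} (h : x.1 = M8 l)
    (h2 : (J (Fin 4) (ZMod 2) * M8 l) (.inr 0) (.inr 0) ≠ 0) : ¬ Alt x := fun h' => by
  have := h' (Pi.single (.inr 0) 1)
  rw [sympForm, mulVec_mulVec, h, single_dotProduct, one_mul, mulVec_single_one] at this
  exact h2 this

theorem ord_of {x : S8} (h2 : x * x = 1) (h1 : x ≠ 1) : orderOf x = 2 :=
  orderOf_eq_prime (by rw [pow_two, h2]) h1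

theorem ord_of' {x : S8} {l : List ℕ} (h : x.1 = M8 l) (h2 : M8 l * M8 l = 1) (h1 : M8 l ≠ 1) :
    orderOf x = 2 :=
  ord_of (Subtype.ext (by rw [Submonoid.coe_mul, h, h2]; rfl)) fun e => h1 (by rw [← h, e]; rfl)

theorem mul_of {x y : S8} {l l' l'' : List ℕ} (h : x.1 = M8 l) (h' : y.1 = M8 l')
    (e : M8 l * M8 l' = M8 l'') : (x * y).1 = M8 l'' := by
  rw [Submonoid.coe_mul, h, h', e]

theorem m100 : (t8 1 0 0).1 = M8 [17, 2, 4, 8, 16, 32, 64, 128] := by decide +kernel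
theorem m001 : (t8 0 0 1).1 = M8 [1, 34, 4, 8, 16, 32, 64, 128] := by decide +kernel
theorem m101 : (t8 1 0 1).1 = M8 [49, 50, 4, 8, 16, 32, 64, 128] := by decide +kernel
theorem m018 : (t8 0 1 8).1 = M8 [1, 2, 4, 8, 19, 35, 64, 128] := by decide +kernel
theorem m119 : (t8 1 1 9).1 = M8 [50, 49, 4, 8, 35, 19, 64, 128] := by decide +kernel
theorem m6 : (t8 0 0 6).1 = M8 [1, 2, 196, 200, 16, 32, 64, 128] := by decide +kernel
theorem m48 : (t8 0 0 48).1 = M8 [1, 2, 4, 8, 16, 32, 76, 140] := by decide +kernel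
theorem m54 : (t8 0 0 54).1 = M8 [1, 2, 200, 196, 16, 32, 140, 76] := by decide +kernel

theorem msw : sw8.1 = M8 [1, 2, 8, 4, 16, 32, 128, 64] := by
  have e : sw8 = t8 0 0 6 * (t8 0 0 48 * t8 0 0 54) := by simp [sw8, w8]
  rw [e]
  exact mul_of m6 (mul_of (l'' := [1, 2, 200, 196, 16, 32, 128, 64]) m48 m54 (by decide +kernel))
    (by decide +kernel)

theorem mc2 : c28.1 = M8 [49, 18, 4, 8, 16, 32, 64, 128] := mul_of m001 m101 (by decide +kernel)

theorem ma2 : (t8 1 0 0 * c28).1 = M8 [33, 18, 4, 8, 16, 32, 64, 128] :=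
  mul_of m100 mc2 (by decide +kernel)

theorem mb3 : (t8 1 0 0 * sw8).1 = M8 [17, 2, 8, 4, 16, 32, 128, 64] :=
  mul_of m100 msw (by decide +kernel)

theorem ma4 : a48.1 = M8 [2, 1, 8, 4, 32, 16, 128, 64] :=
  mul_of (mul_of (l'' := [2, 1, 4, 8, 32, 16, 64, 128])
    (mul_of (l'' := [49, 50, 4, 8, 19, 35, 64, 128]) m101 m018 (by decide +kernel)) m119
    (by decide +kernel)) msw (by decide +kernel)

theorem mc4 : (c28 * sw8).1 = M8 [49, 18, 8, 4, 16, 32, 128, 64] :=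
  mul_of mc2 msw (by decide +kernel)

theorem b1 : orderOf (t8 1 0 0) = 2 ∧ ((t8 1 0 0).1 - 1).rank = 1 ∧ ¬ Alt (t8 1 0 0) :=
  ⟨ord_of' m100 (by decide +kernel) (by decide +kernel),
    rank_of [1, 0, 0, 0, 0, 0, 0, 0] [16] [1] [0, 0, 0, 0, 1, 0, 0, 0]
      (by rw [m100]; decide +kernel) (by decide +kernel) (by decide +kernel),
    nalt_of m100 (by decide +kernel)⟩

theorem a2 : orderOf (t8 1 0 0 * c28) = 2 ∧ ((t8 1 0 0 * c28).1 - 1).rank = 2 ∧
    Alt (t8 1 0 0 * c28) :=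
  ⟨ord_of' ma2 (by decide +kernel) (by decide +kernel),
    rank_of [1, 2, 0, 0, 0, 0, 0, 0] [32, 16] [1, 2] [0, 0, 0, 0, 2, 1, 0, 0]
      (by rw [ma2]; decide +kernel) (by decide +kernel) (by decide +kernel),
    alt_of ma2 (by decide +kernel) (by decide +kernel)⟩

theorem c2 : orderOf c28 = 2 ∧ (c28.1 - 1).rank = 2 ∧ ¬ Alt c28 :=
  ⟨ord_of' mc2 (by decide +kernel) (by decide +kernel),
    rank_of [1, 2, 0, 0, 0, 0, 0, 0] [48, 16] [1, 2] [0, 0, 0, 0, 2, 3, 0, 0]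
      (by rw [mc2]; decide +kernel) (by decide +kernel) (by decide +kernel),
    nalt_of mc2 (by decide +kernel)⟩

theorem b3 : orderOf (t8 1 0 0 * sw8) = 2 ∧ ((t8 1 0 0 * sw8).1 - 1).rank = 3 ∧
    ¬ Alt (t8 1 0 0 * sw8) :=
  ⟨ord_of' mb3 (by decide +kernel) (by decide +kernel),
    rank_of [1, 0, 2, 2, 0, 0, 4, 4] [16, 12, 192] [1, 4, 64] [0, 0, 2, 0, 1, 0, 4, 0]
      (by rw [mb3]; decide +kernel) (by decide +kernel) (by decide +kernel),
    nalt_of mb3 (by decide +kernel)⟩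

theorem a4 : orderOf a48 = 2 ∧ (a48.1 - 1).rank = 4 ∧ Alt a48 :=
  ⟨ord_of' ma4 (by decide +kernel) (by decide +kernel),
    rank_of [1, 1, 2, 2, 4, 4, 8, 8] [3, 12, 48, 192] [1, 4, 16, 64] [1, 0, 2, 0, 4, 0, 8, 0]
      (by rw [ma4]; decide +kernel) (by decide +kernel) (by decide +kernel),
    alt_of ma4 (by decide +kernel) (by decide +kernel)⟩

theorem c4 : orderOf (c28 * sw8) = 2 ∧ ((c28 * sw8).1 - 1).rank = 4 ∧ ¬ Alt (c28 * sw8) :=
  ⟨ord_of' mc4 (by decide +kernel) (by decide +kernel),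
    rank_of [1, 2, 4, 4, 0, 0, 8, 8] [48, 16, 12, 192] [1, 2, 4, 64] [0, 0, 4, 0, 2, 3, 8, 0]
      (by rw [mc4]; decide +kernel) (by decide +kernel) (by decide +kernel),
    nalt_of mc4 (by decide +kernel)⟩

theorem rank_le {m : S8} (h2 : m * m = 1) : (m.1 - 1).rank ≤ 4 := by
  have h3 : m.1 * m.1 = 1 := congrArg Subtype.val h2
  have h4 : (m.1 - 1) * (m.1 - 1) = 0 := by
    rw [sub_mul, mul_sub, h3, mul_one, one_mul, sub_eq_zero]
    ext i j
    simp only [Matrix.sub_apply, CharTwo.sub_eq_add, add_comm]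
  have := rank_add_rank_le_card_of_mul_eq_zero h4
  simp only [Fintype.card_sum, Fintype.card_fin] at this
  omega

theorem rank_ne {m : S8} (h1 : m ≠ 1) : (m.1 - 1).rank ≠ 0 := fun h => by
  rw [H29.sp_rank, Submodule.finrank_eq_zero, LinearMap.range_eq_bot, sub_eq_zero] at h
  exact h1 (H27.sp_ext fun x => by
    rw [show (1 : S8).1 = 1 from rfl, one_mulVec]
    exact LinearMap.congr_fun h x)

end Cls

open Cls in
theorem cls8 {m : S8} (h2 : m * m = 1) (h1 : m ≠ 1) :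
    ∃ x ∈ [t8 1 0 0, t8 1 0 0 * c28, c28, t8 1 0 0 * sw8, a48, c28 * sw8], IsConj x m := by
  have ho := ord_of h2 h1
  have h3 := rank_le h2
  have h4 := rank_ne h1
  by_cases h : Alt m
  · have h5 := H29.sp_even ho h
    obtain e | e : (m.1 - 1).rank = 2 ∨ (m.1 - 1).rank = 4 := by
      obtain ⟨k, hk⟩ := h5
      omega
    · exact ⟨_, by simp, H29.sp_isConj a2.1 ho (a2.2.1.trans e.symm) (iff_of_true a2.2.2 h)⟩
    · exact ⟨_, by simp, H29.sp_isConj a4.1 ho (a4.2.1.trans e.symm) (iff_of_true a4.2.2 h)⟩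
  · obtain e | e | e | e : (m.1 - 1).rank = 1 ∨ (m.1 - 1).rank = 2 ∨ (m.1 - 1).rank = 3 ∨
      (m.1 - 1).rank = 4 := by omega
    · exact ⟨_, by simp, H29.sp_isConj b1.1 ho (b1.2.1.trans e.symm) (iff_of_false b1.2.2 h)⟩
    · exact ⟨_, by simp, H29.sp_isConj c2.1 ho (c2.2.1.trans e.symm) (iff_of_false c2.2.2 h)⟩
    · exact ⟨_, by simp, H29.sp_isConj b3.1 ho (b3.2.1.trans e.symm) (iff_of_false b3.2.2 h)⟩
    · exact ⟨_, by simp, H29.sp_isConj c4.1 ho (c4.2.1.trans e.symm) (iff_of_false c4.2.2 h)⟩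

end Cfsg.Agent.S86
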