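import Cfsg.Agent.F42.QT
import Cfsg.Agent.F42.Weyl
import Cfsg.Agent.F42.SpS
import Cfsg.Agent.F42.SpL
import Cfsg.Agent.F42.PM
import Cfsg.Agent.L72.Gen

/-! Definitions for the 3-local recognition of `Sp₈(2)` and `F₄(2)` from an element of order three whose
centraliser has a component `Sp₆(2)`. -/

set_option autoImplicit false

namespace Cfsg.Agent.S86

open Subgroup H49 Matrix F42
open Cfsg.Agent.L72 (O2N)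

/-! ### Vectors, matrices, the model `Sp₆(2)` -/

def cv : V4 := ![0, 0, 1, -1]

def fv : V4 := ![0, 0, 1, 1]

def zv : V4 := ![0, 1, -1, -1]

/-- the element that signals the form of minus type -/
def thm : M4 := !![0, 0, 1, -1; 0, 1, 0, 0; 1, 0, 1, 1; 1, 0, -1, -1]

/-- an isometry that is not monomial -/
def hF : M4 := !![1, 1, 1, 1; 1, 1, -1, -1; 1, -1, 1, -1; 1, -1, -1, 1]

/-- the second frame, columns `cv, -fv, (1,1,0,0), (-1,1,0,0)` -/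
def sf : M4 := !![0, 0, 1, -1; 0, 0, 1, 1; 1, -1, 0, 0; -1, -1, 0, 0]

/-- the matrix with `pm π *ᵥ ee k = ee (π k)` -/
def pm (π : Equiv.Perm (Fin 4)) : M4 := fun i j => if i = π j then 1 else 0

/-- `θ` acts on `ee 0 ^⊥` as a signed permutation -/
def Aff (θ : M4) : Prop := ∃ β, Iso0 β ∧ ∀ u : V4, u 0 = 0 → θ *ᵥ u = β *ᵥ u

/-- signed permutations -/
def Mono (θ : M4) : Prop := ∀ i, ∃ k, θ *ᵥ ee i = ee k ∨ θ *ᵥ ee i = -ee k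

/-- the torus `3³` of the model -/
def Jm : Subgroup S6 := closure {cm 0, cm 1, cm 2}

/-- the element of the torus with coordinates `u 1, u 2, u 3` -/
def jm (u : V4) : S6 := cm 0 ^ (u 1).val * cm 1 ^ (u 2).val * cm 2 ^ (u 3).val

/-- the cyclic permutation of the three planes -/
def q3 : S6 := Em 3 24 * sw

def cc : S6 := cm 1 * (cm 2)⁻¹

def ff : S6 := cm 1 * cm 2

def tq : S6 := Em 2 4

def u1 : S6 := wd [1, 9, 15, 55]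

def u2 : S6 := wd [1, 7, 14, 62]

def bm : S6 := u1 * cc * u1⁻¹

/-- `O₃(C(zp))` -/
def Qm : Subgroup S6 := closure {zp, cc, bm}

/-- the quaternion group in `C(zp, sw)` -/
def Rm : Subgroup S6 := closure {u1, u2}

/-- its partner in `C(zm, sw)` -/
def Rm' : Subgroup S6 := cj (xm 0) Rm

/-! ### The model `Sp₈(2)` -/

abbrev S8 : Type := Matrix.symplecticGroup (Fin 4) (ZMod 2)

/-- the vector `α u₀ + β v₀ + vc n` -/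
def v8 (α β : ZMod 2) (n : ℕ) : Fin 4 ⊕ Fin 4 → ZMod 2 :=
  Sum.elim (Fin.cons α fun i => vc n (.inl i)) (Fin.cons β fun i => vc n (.inr i))

def t8 (α β : ZMod 2) (n : ℕ) : S8 := H27.spT (v8 α β n) 1

/-- the image of a word of `Sp₆(2)` -/
def w8 (l : List ℕ) : S8 := (l.map (t8 0 0)).prod

def sw8 : S8 := w8 [6, 48, 54]

def c28 : S8 := t8 0 0 1 * t8 1 0 1

def a48 : S8 := t8 1 0 1 * t8 0 1 8 * t8 1 1 9 * sw8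

variable {G : Type*} [Group G]

/-- `x` is a `p`-element -/
def El (p : ℕ) (x : G) : Prop := ∃ k : ℕ, x ^ p ^ k = 1

/-- 27 divides the order of the centraliser -/
def Big (x : G) : Prop := 27 ∣ Nat.card 𝒞[x]

/-- conjugation of a homomorphism -/
def cjh (n : G) (ψ : S6 →* G) : S6 →* G := (MulAut.conj n).toMonoidHom.comp ψ

theorem cjh_apply (n : G) (ψ : S6 →* G) (γ : S6) : cjh n ψ γ = n * ψ γ * n⁻¹ := rfl

/-- the global hypotheses -/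
structure Gl (G : Type*) [Group G] : Prop where
  ch2 : ∀ X : Subgroup G, IsPGroup 2 X → X ≠ ⊥ → 𝒩(X) ⊓ 𝒞(O2N X) ≤ O2N X
  rk : ∀ X : Subgroup G, IsPGroup 2 X → X ≠ ⊥ → ∀ E : Subgroup G, E ≤ 𝒩(X) → E ≤ 𝒞(E) →
    (∀ x ∈ E, x ^ 3 = 1) → Nat.card E ≤ 27

/-- coordinates on `A = 3⁴` -/
structure TA (a : V4 → G) : Prop where
  add : ∀ u v, a (u + v) = a u * a v
  inj : ∀ u, a u = 1 → u = 0

/-- the subgroup `3³` of the vectors with first coordinate zero -/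
def Ig (a : V4 → G) : Subgroup G := closure (a '' {u | u 0 = 0})

/-- `C(b) = K × L` for `b = a (ee 0)`, `L = ψ.range` -/
structure St (a : V4 → G) (ψ : S6 →* G) : Prop extends TA a, Gl G where
  ψi : Function.Injective ψ
  c : ∀ i, ψ (cm i) = a (ee i.succ)
  bL : ∀ γ, Commute (a (ee 0)) (ψ γ)
  cen : ∀ g, Commute g (a (ee 0)) → ∃ k γ, (∀ δ, Commute k (ψ δ)) ∧ g = k * ψ γ
  kodd : ∀ k, Commute k (a (ee 0)) → (∀ δ, Commute k (ψ δ)) → Odd (orderOf k)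
  k3 : ∀ k, Commute k (a (ee 0)) → (∀ δ, Commute k (ψ δ)) → El 3 k → k ∈ zpowers (a (ee 0))

/-- `⟨b⟩` is not weakly closed in `A` -/
def Mv (a : V4 → G) : Prop := ∃ g u, g * a (ee 0) * g⁻¹ = a u ∧ u ≠ ee 0 ∧ u ≠ -ee 0

/-- the affine case -/
structure AF (a : V4 → G) (ψ : S6 →* G) (w : Fin 3 → G) : Prop extends St a ψ where
  ac : ∀ i u, w i * a u * (w i)⁻¹ = a (u + u 0 • ee i.succ)
  wc : ∀ i j, Commute (w i) (w j)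
  cube : ∀ i, w i ^ 3 = a (ee i.succ) ∨ w i ^ 3 = a (-ee i.succ)
  qw : ∀ i, ∃ u : V4, u 0 = 0 ∧ ψ q3 * w i * (ψ q3)⁻¹ = w (i + 1) * a u
  one : ∀ n θ, Ac a n θ → (θ *ᵥ ee 0) 0 = 1

/-- the case of the form of minus type; `r` is the reflection in `ee 0` -/
structure OM (a : V4 → G) (ψ : S6 →* G) (r v : G) (P P' : Subgroup G) : Prop extends St a ψ where
  rf : Rf a (ee 0) r
  rL : ∀ γ, Commute r (ψ γ)
  q8 : T3.Q8 P r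
  tr : ∀ g ∈ P, ∀ h ∈ P, g ∉ zpowers r → h ∉ zpowers r →
    ∃ m : ℕ, a (ee 1) ^ m * g * (a (ee 1) ^ m)⁻¹ = h ∨ a (ee 1) ^ m * g * (a (ee 1) ^ m)⁻¹ = h * r
  nc : ∀ g ∈ P, g ∉ zpowers r → ¬ Commute g (a (ee 1) * g * (a (ee 1))⁻¹)
  gen : ∀ g ∈ P, g ∉ zpowers r → P ≤ closure {g, a (ee 1) * g * (a (ee 1))⁻¹}
  Pn : Ig a ≤ 𝒩(P)
  Pc : P ≤ 𝒞[a fv] ⊓ 𝒞[a (sg 3)]
  v2 : v * v = 1
  v1 : v ≠ 1
  vr : Commute v r
  ve : Commute v (a (ee 1))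
  vf : Commute v (a fv)
  vn : nrm v (a cv) = 1
  vP : ∀ p ∈ P, Commute v p
  vP' : ∀ p ∈ P', Commute v p
  o1 : ∀ Y : Subgroup G, IsPGroup 2 Y → Y ≤ 𝒞[r] → Ig a ≤ 𝒩(Y) → Y ≤ 𝒞[a fv] → Y ≤ 𝒞[a cv] → Y ≤ zpowers r
  o2 : ∀ Y : Subgroup G, IsPGroup 2 Y → Y ≤ 𝒞[r] → Ig a ≤ 𝒩(Y) → Y ≤ 𝒞[a fv] → Y ≤ 𝒞[a (ee 1)] →
    Y ≤ closure {r, v, a cv * v * (a cv)⁻¹}
  o3 : ∀ Y : Subgroup G, IsPGroup 2 Y → Y ≤ 𝒞[r] → Y ≤ 𝒞[a fv] → Y ≤ 𝒞[a (sg 3)] → Y ≤ P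
  o3' : ∀ Y : Subgroup G, IsPGroup 2 Y → Y ≤ 𝒞[r] → Y ≤ 𝒞[a fv] → Y ≤ 𝒞[a (sg 2)] → Y ≤ P'

/-- the case of the form of plus type -/
structure SM (a : V4 → G) (ψ : S6 →* G) : Prop extends St a ψ where
  sim : ∀ n θ, Ac a n θ → Sim θ
  p01 : ∃ n, Ac a n p01

/-- the relations that characterise the involution attached to the pair `i, j` -/
structure TT (a : V4 → G) (ρ : Fin 4 → G) (i j : Fin 4) (t : G) : Prop where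
  sq : t * t = 1
  cg : ∀ k, k ≠ i → k ≠ j → Commute t (a (ee k))
  ci : Commute t (ρ i)
  cj : Commute t (ρ j)
  bi : (t * (ρ i * a (ee i))) ^ 3 = 1
  bj : (t * (ρ j * a (ee j))) ^ 3 = 1

/-- a frame with commuting reflections -/
structure PF (a : V4 → G) (ρ : Fin 4 → G) (t : G) : Prop extends TA a where
  rf : ∀ i, Rf a (ee i) (ρ i)
  rr : ∀ i j, Commute (ρ i) (ρ j)
  sw : ∀ π : Equiv.Perm (Fin 4), ∃ n, Ac a n (pm π) ∧ ∀ k, n * ρ k * n⁻¹ = ρ (π k)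
  tt : TT a ρ 0 1 t
  uq : ∀ t', TT a ρ 0 1 t' → t' = t
  nr : nrm (ρ 1 * t) (a (ee 1)) = 1

/-- the generators of a future `Sp₈(2)` -/
structure FS (a : V4 → G) (ρ : Fin 4 → G) (t : Fin 4 → Fin 4 → G) : Prop extends TA a where
  rf : ∀ i, Rf a (ee i) (ρ i)
  rr : ∀ i j, Commute (ρ i) (ρ j)
  tt : ∀ i j, i ≠ j → TT a ρ i j (t i j)
  uq : ∀ i j, i ≠ j → ∀ t', TT a ρ i j t' → t' = t i j
  ts : ∀ i j, i ≠ j → t i j = t j i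
  tr : ∀ i j k, i ≠ j → Commute (t i j) (ρ k)
  nr : ∀ i j, i ≠ j → nrm (ρ j * t i j) (a (ee j)) = 1
  sw : ∀ π : Equiv.Perm (Fin 4), ∃ n, Ac a n (pm π) ∧ (∀ k, n * ρ k * n⁻¹ = ρ (π k)) ∧
    ∀ i j, i ≠ j → n * t i j * n⁻¹ = t (π i) (π j)

/-- the group of order eight at `ρ 0` and `ee j` -/
def Ug (a : V4 → G) (ρ : Fin 4 → G) (t : Fin 4 → Fin 4 → G) (j : Fin 4) : Subgroup G :=
  closure {ρ 0, ρ j * t 0 j, a (ee j) * (ρ j * t 0 j) * (a (ee j))⁻¹}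

/-- the future `Z(O₂(C(ρ 0)))` of order `2⁷` -/
def Zg (a : V4 → G) (ρ : Fin 4 → G) (t : Fin 4 → Fin 4 → G) : Subgroup G :=
  Ug a ρ t 1 ⊔ Ug a ρ t 2 ⊔ Ug a ρ t 3

/-- the 2-subgroups of `C(ρ 0)` normalised by `Ig a` -/
structure LC (a : V4 → G) (ρ : Fin 4 → G) (t : Fin 4 → Fin 4 → G) : Prop extends FS a ρ t, Gl G where
  w1 : ∀ Y : Subgroup G, IsPGroup 2 Y → Y ≤ 𝒞[ρ 0] → Ig a ≤ 𝒩(Y) → Y ≤ 𝒞[a (ee 2)] → Y ≤ 𝒞[a (ee 3)] →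
    Y ≤ Ug a ρ t 1
  w2 : ∀ Y : Subgroup G, IsPGroup 2 Y → Y ≤ 𝒞[ρ 0] → Ig a ≤ 𝒩(Y) → Y ≤ 𝒞[a (ee 1)] → Y ≤ 𝒞[a cv] →
    Y ≤ zpowers (ρ 0)
  w3a : ∀ Y : Subgroup G, IsPGroup 2 Y → Y ≤ 𝒞[ρ 0] → Ig a ≤ 𝒩(Y) → Y ≤ 𝒞[a zv] → Y ≤ 𝒞[a cv] → Y ≤ 𝒞(Y) →
    Y ≤ zpowers (ρ 0)
  w3b : ∀ Y : Subgroup G, IsPGroup 2 Y → Y ≤ 𝒞[ρ 0] → Ig a ≤ 𝒩(Y) → Y ≤ 𝒞[a zv] → Y ≤ 𝒞[a cv] →
    Y ≤ 𝒞[ρ 1 * t 0 1]
  ph1 : Big (ρ 0 * (ρ 1 * t 0 1))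
  ph2 : ¬ Big (ρ 1 * t 0 1)

/-- Output of `OA1`. -/
structure LZ (a : V4 → G) (ρ : Fin 4 → G) (t : Fin 4 → Fin 4 → G) : Prop extends LC a ρ t where
  zc : Zg a ρ t ≤ 𝒞(Zg a ρ t)
  zn : 𝒞[ρ 0] ≤ 𝒩(Zg a ρ t)
  zq : Zg a ρ t ≤ O2N (zpowers (ρ 0))
  cz : 𝒞(Zg a ρ t) ≤ O2N (zpowers (ρ 0))

/-- `g` acts on `Z/⟨r⟩` as `γ` in the coordinates `e` -/
def AZ (r : G) (e : ℕ → G) (g : G) (γ : S6) : Prop :=
  ∀ n < 64, g * e n * g⁻¹ = e (act γ n) ∨ g * e n * g⁻¹ = e (act γ n) * r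

/-- Output of `OA2`: coordinates on `Z`. -/
structure LE (a : V4 → G) (ρ : Fin 4 → G) (t : Fin 4 → Fin 4 → G) (e : ℕ → G) : Prop extends LZ a ρ t where
  mul : ∀ n < 64, ∀ m < 64, e (n ^^^ m) = e n * e m
  e0 : ∀ n < 64, e n = 1 ∨ e n = ρ 0 → n = 0
  mem : ∀ w, w ∈ Zg a ρ t ↔ ∃ n < 64, w = e n ∨ w = e n * ρ 0
  e1 : e 1 = ρ 1 * t 0 1
  e2 : e 2 = ρ 2 * t 0 2
  ax : ∀ i : Fin 3, AZ (ρ 0) e (ρ i.succ) (xm i)
  ac : ∀ i : Fin 3, AZ (ρ 0) e (a (ee i.succ)) (cm i)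
  a3 : AZ (ρ 0) e (t 1 2) (tv 3)
  a5 : AZ (ρ 0) e (t 1 3) (tv 5)
  a6 : AZ (ρ 0) e (t 2 3) (tv 6)

/-- a copy of `Sp₆(2)` on the planes `1, 2, 3` -/
structure PS (a : V4 → G) (ρ : Fin 4 → G) (t : Fin 4 → Fin 4 → G) (ψ : S6 →* G) : Prop where
  ψi : Function.Injective ψ
  c : ∀ i, ψ (cm i) = a (ee i.succ)
  x : ∀ i, ψ (xm i) = ρ i.succ
  t3 : ψ (tv 3) = t 1 2
  t5 : ψ (tv 5) = t 1 3
  t6 : ψ (tv 6) = t 2 3
  cb : ∀ γ, Commute (a (ee 0)) (ψ γ)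
  cr : ∀ γ, Commute (ρ 0) (ψ γ)

/-- Output of `OA4`: the structure of `C(ρ 0)`. -/
structure OE (a : V4 → G) (ρ : Fin 4 → G) (t : Fin 4 → Fin 4 → G) (ψ : S6 →* G) (E : ℕ → G) : Prop
    extends LZ a ρ t where
  ps : PS a ρ t ψ
  E0 : E 0 = 1
  E1 : E 1 = ρ 0 * (ρ 1 * t 0 1)
  Er : ∀ n < 64, Commute (E n) (ρ 0)
  mul : ∀ n < 64, ∀ m < 64, E n * E m = E (n ^^^ m) * ρ 0 ^ bf n m
  cov : ∀ γ, ∀ n < 64, ψ γ * E n * (ψ γ)⁻¹ = E (act γ n)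
  mem : ∀ w, w ∈ Zg a ρ t ↔ ∃ n < 64, w = E n ∨ w = E n * ρ 0
  e0 : ∀ n < 64, E n = 1 ∨ E n = ρ 0 → n = 0
  big : ∀ n < 64, n ≠ 0 → Big (E n) ∧ ¬ Big (E n * ρ 0)
  dec : ∀ g, Commute g (ρ 0) → ∃ q ∈ O2N (zpowers (ρ 0)), ∃ γ, g = q * ψ γ

/-- the first frame in the case of plus type -/
structure FB (a : V4 → G) (ψ : S6 →* G) (ρ : Fin 4 → G) (t : Fin 4 → Fin 4 → G) : Prop extends SM a ψ where
  fs : FS a ρ t
  ps : PS a ρ t ψ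

/-- the case `W = W(B₄)` -/
structure B4 (a : V4 → G) (ψ : S6 →* G) (ρ : Fin 4 → G) (t : Fin 4 → Fin 4 → G) (E : ℕ → G) : Prop
    extends FB a ψ ρ t where
  mono : ∀ n θ, Ac a n θ → Mono θ
  oe : OE a ρ t ψ E
  qz : O2N (zpowers (ρ 0)) ≤ Zg a ρ t

/-- the subgroup `Sp₈(2)` -/
structure PH (a : V4 → G) (ψ : S6 →* G) (ρ : Fin 4 → G) (E : ℕ → G) (φ : S8 →* G) : Prop where
  inj : Function.Injective φ
  u0 : φ (t8 1 0 0) = ρ 0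
  v0 : φ (t8 0 1 0) = ρ 0 * a (ee 0)
  t0 : ∀ n < 64, φ (t8 0 0 n) = ψ (tv n)
  t1 : ∀ n < 64, φ (t8 1 0 n) = ψ (tv n) * E n * ρ 0
  cen : 𝒞[ρ 0] ≤ φ.range

/-- the case `W ≥ W(F₄)`: both frames -/
structure F4 (a : V4 → G) (ψ ψ' : S6 →* G) (ρ : Fin 4 → G) (t : Fin 4 → Fin 4 → G) (E : ℕ → G) : Prop
    extends SM a ψ where
  tj : TJ0 a
  oe : OE (tw a sf) ρ t ψ' E
  s : ρ 0 = ψ sw

/-- what is known on `C(z)` before the `Z*`-theorem -/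
structure FZ (z j c b r1 r2 : G) (A Q1 Q2 R1 R2 : Subgroup G) : Prop where
  z3 : orderOf z = 3
  x1 : XQ z Q1 R1 r1
  x2 : XQ z Q2 R2 r2
  QQ : Q1 ≤ 𝒞(Q2)
  R1c : R1 ≤ 𝒞(Q2)
  R2c : R2 ≤ 𝒞(Q1)
  RR : R1 ≤ 𝒞(R2)
  dec : ∀ g, Commute g z → Commute g r1 → ∃ u ∈ R1, ∃ q ∈ Q2, ∃ v ∈ R2, ∃ k : ℕ, g = u * q * v * j ^ k
  j3 : j ^ 3 = 1
  jz : Commute j z
  jQ1 : j ∈ 𝒩(Q1)
  jQ2 : j ∈ 𝒩(Q2)
  jR1 : j ∈ 𝒩(R1)
  jR2 : j ∈ 𝒩(R2)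
  jm : ∃ u ∈ R1, ¬ Commute j u
  b1 : Big r1
  b2 : Big r2
  b0 : ¬ Big (r1 * r2)
  AX : A ≤ 𝒞[z]
  A3 : IsPGroup 3 A
  three : ∀ P : Subgroup G, IsPGroup 3 P → A ≤ P → P ≤ 𝒞[z] → P ≤ Q1 ⊔ Q2 ⊔ zpowers j
  sig : ∀ Y : Subgroup G, (Nat.card Y).Coprime 3 → A ≤ 𝒩(Y) → Y = ⊥
  cQ : c ∈ Q1
  cz : c ∉ zpowers z
  bQ : b ∈ Q2
  bz : b ∉ zpowers z
  nc : ¬ IsConj z c
  nb : ¬ IsConj z b
  zi : IsConj z z⁻¹
  mix : IsConj z (c * b)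

/-! ### The torus -/

namespace TA

variable {a : V4 → G}

theorem zero (h : TA a) : a 0 = 1 := by
  have := h.add 0 0
  rw [add_zero] at this
  exact mul_left_cancel (this.symm.trans (mul_one _).symm)

theorem neg (h : TA a) (u : V4) : a (-u) = (a u)⁻¹ :=
  eq_inv_of_mul_eq_one_left (by rw [← h.add, neg_add_cancel, h.zero])

theorem comm (h : TA a) (u v : V4) : Commute (a u) (a v) := by
  rw [Commute, SemiconjBy, ← h.add, ← h.add, add_comm]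

theorem pow (h : TA a) (k : ℕ) (u : V4) : a u ^ k = a ((k : ZMod 3) • u) := by
  induction k with
  | zero => simp [h.zero]
  | succ k ih => rw [pow_succ, ih, ← h.add, Nat.cast_succ, add_smul, one_smul]

theorem smul (h : TA a) (c : ZMod 3) (u : V4) : a (c • u) = a u ^ c.val := by
  rw [h.pow, ZMod.natCast_zmod_val]

theorem cube (h : TA a) (u : V4) : a u ^ 3 = 1 := by
  rw [h.pow, show ((3 : ℕ) : ZMod 3) = 0 from rfl, zero_smul, h.zero]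

theorem injective (h : TA a) : Function.Injective a := fun u v e =>
  sub_eq_zero.1 (h.inj _ (by rw [sub_eq_add_neg, h.add, h.neg, e, mul_inv_cancel]))

theorem ord (h : TA a) {u : V4} (hu : u ≠ 0) : orderOf (a u) = 3 :=
  haveI : Fact (Nat.Prime 3) := ⟨Nat.prime_three⟩
  orderOf_eq_prime (h.cube u) fun e => hu (h.inj u e)

theorem mem_Jg (h : TA a) {g : G} : g ∈ Jg a ↔ ∃ u, g = a u := by
  refine ⟨fun hg => ?_, fun ⟨u, e⟩ => e ▸ subset_closure ⟨u, rfl⟩⟩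
  induction hg using closure_induction with
  | mem x hx => obtain ⟨u, rfl⟩ := hx; exact ⟨u, rfl⟩
  | one => exact ⟨0, h.zero.symm⟩
  | mul x y _ _ hx hy => obtain ⟨u, rfl⟩ := hx; obtain ⟨v, rfl⟩ := hy; exact ⟨u + v, (h.add u v).symm⟩
  | inv x _ hx => obtain ⟨u, rfl⟩ := hx; exact ⟨-u, (h.neg u).symm⟩

theorem mem_Ig (h : TA a) {g : G} : g ∈ Ig a ↔ ∃ u : V4, u 0 = 0 ∧ g = a u := by
  refine ⟨fun hg => ?_, fun ⟨u, u0, e⟩ => e ▸ subset_closure ⟨u, u0, rfl⟩⟩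
  induction hg using closure_induction with
  | mem x hx => obtain ⟨u, u0, rfl⟩ := hx; exact ⟨u, u0, rfl⟩
  | one => exact ⟨0, rfl, h.zero.symm⟩
  | mul x y _ _ hx hy =>
    obtain ⟨u, u0, rfl⟩ := hx; obtain ⟨v, v0, rfl⟩ := hy
    exact ⟨u + v, by rw [Pi.add_apply, u0, v0, add_zero], (h.add u v).symm⟩
  | inv x _ hx => obtain ⟨u, u0, rfl⟩ := hx; exact ⟨-u, by rw [Pi.neg_apply, u0, neg_zero], (h.neg u).symm⟩

theorem Ig_le (h : TA a) : Ig a ≤ Jg a := fun _ hg =>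
  let ⟨u, _, e⟩ := h.mem_Ig.1 hg
  h.mem_Jg.2 ⟨u, e⟩

theorem card_Jg (h : TA a) : Nat.card (Jg a) = 81 := by
  have e : V4 ≃ Jg a := Equiv.ofBijective (fun u => ⟨a u, h.mem_Jg.2 ⟨u, rfl⟩⟩)
    ⟨fun u v e => h.injective (congrArg Subtype.val e), fun x =>
      let ⟨u, e⟩ := h.mem_Jg.1 x.2
      ⟨u, Subtype.ext e.symm⟩⟩
  rw [← Nat.card_congr e, Nat.card_eq_fintype_card]
  rfl

theorem isP (h : TA a) : IsPGroup 3 (Jg a) := IsPGroup.of_card (n := 4) h.card_Jg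

theorem Jg_comm (h : TA a) : Jg a ≤ 𝒞(Jg a) := fun x hx y hy => by
  obtain ⟨u, rfl⟩ := h.mem_Jg.1 hx
  obtain ⟨v, rfl⟩ := h.mem_Jg.1 hy
  exact h.comm v u

theorem cja (h : TA a) (g : G) : TA (cja g a) :=
  ⟨fun u v => by simp only [F42.cja, h.add]; group, fun u e => h.inj u (by
    have : a u = g⁻¹ * (g * a u * g⁻¹) * g := by group
    rw [this, show g * a u * g⁻¹ = 1 from e]; group)⟩

theorem tw (h : TA a) {θ : M4} (hθ : Sim θ) : TA (tw a θ) :=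
  ⟨fun u v => by simp only [F42.tw, Matrix.mulVec_add, h.add], fun u e => hθ.eq_zero.1 (h.inj _ e)⟩

end TA

theorem sim_sf : Sim sf := Or.inr (by decide +kernel)

theorem sim_hF : Sim hF := Or.inl (by decide +kernel)

theorem pm_ee : ∀ (π : Equiv.Perm (Fin 4)) (k : Fin 4), pm π *ᵥ ee k = ee (π k) := by decide +kernel

theorem sim_pm : ∀ π : Equiv.Perm (Fin 4), (pm π)ᵀ * pm π = 1 := by decide +kernel

theorem PS.y {a : V4 → G} {ρ : Fin 4 → G} {t : Fin 4 → Fin 4 → G} {ψ : S6 →* G} (h : PS a ρ t ψ) (i : Fin 3) :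
    ψ (ym i) = ρ i.succ * a (ee i.succ) := by
  rw [← h.x, ← h.c, ← map_mul, cm, ← mul_assoc, xm, tv_sq, one_mul]

end Cfsg.Agent.S86
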