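import Cfsg.Agent.S86.SimB
import Cfsg.Agent.S86.Fs

set_option autoImplicit false
set_option linter.unusedSectionVars false
set_option linter.unusedVariables false

namespace Cfsg.Agent.S86

open Subgroup H49 Matrix F42
open Cfsg.Agent.L72 (O2N)

variable {G : Type*} [Group G] [Finite G] {a : V4 → G} {ψ ψ' : S6 →* G} {ρ : Fin 4 → G} {t : Fin 4 → Fin 4 → G}
  {e E : ℕ → G} {φ : S8 →* G}

namespace FbL

theorem model (h : FB a ψ ρ t) (π : Equiv.Perm (Fin 4)) : ∃ χ : S6 →* G, Function.Injective χ ∧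
    (∀ γ, IsConj (χ γ) (ψ γ)) ∧ (∀ i, χ (cm i) = a (ee (π i.succ))) ∧ (∀ i, χ (xm i) = ρ (π i.succ)) ∧
    χ (tv 3) = t (π 1) (π 2) ∧ χ (tv 6) = t (π 2) (π 3) ∧ (∀ γ, Commute (a (ee (π 0))) (χ γ)) ∧
    (∀ g, El 2 g → Commute g (a (ee (π 0))) → ∃ γ, g = χ γ) ∧
    ∀ g, El 3 g → Commute g (a (ee (π 0))) → ∃ (k : ℕ) (γ : S6), El 3 γ ∧ g = a (ee (π 0)) ^ k * χ γ := by
  obtain ⟨n, hn, hρ, ht⟩ := h.fs.sw π
  have st := h.toSt.ac hn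
  have e0 : tw a (pm π) (ee 0) = a (ee (π 0)) := by rw [tw, pm_ee]
  refine ⟨cjh n ψ, st.ψi, fun γ => (isConj_iff.2 ⟨n, rfl⟩).symm, fun i => ?_, fun i => ?_, ?_, ?_, e0 ▸ st.bL,
    fun g h2 hc => ?_, fun g h3 hc => e0 ▸ st.three h3 (e0 ▸ hc)⟩
  · rw [st.c, tw, pm_ee]
  · rw [cjh_apply, h.ps.x, hρ]
  · rw [cjh_apply, h.ps.t3, ht _ _ (by decide)]
  · rw [cjh_apply, h.ps.t6, ht _ _ (by decide)]
  · obtain ⟨γ, -, k⟩ := st.two h2 (e0 ▸ hc)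
    exact ⟨γ, k⟩

theorem el {χ : S6 →* G} (hi : Function.Injective χ) {γ : S6} {Y : Subgroup G} (hY : IsPGroup 2 Y) (h : χ γ ∈ Y) :
    El 2 γ := by
  obtain ⟨k, hk⟩ := hY ⟨_, h⟩
  exact ⟨k, hi (by rw [map_pow, map_one]; exact congrArg Subtype.val hk)⟩

theorem el' {y : G} {Y : Subgroup G} (hY : IsPGroup 2 Y) (h : y ∈ Y) : El 2 y := by
  obtain ⟨k, hk⟩ := hY ⟨_, h⟩
  exact ⟨k, congrArg Subtype.val hk⟩

theorem pull {χ : S6 →* G} (hi : Function.Injective χ) {γ δ : S6} (h : Commute (χ γ) (χ δ)) : Commute γ δ :=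
  hi (by rw [map_mul, map_mul]; exact h)

theorem cen {x y : G} (h : x ∈ 𝒞[y]) : Commute x y := mem_centralizer_singleton_iff.1 h

theorem cnj (ta : TA a) {Y : Subgroup G} (hn : Ig a ≤ 𝒩(Y)) {u : V4} (u0 : u 0 = 0) {y : G} (hy : y ∈ Y) :
    y * (a u * y * (a u)⁻¹) ∈ Y :=
  mul_mem hy ((mem_normalizer_iff.1 (hn (ta.mem_Ig.2 ⟨u, u0, rfl⟩)) y).1 hy)

theorem strip {b x y : G} {k : ℕ} (h : Commute (b ^ k * x) y) (hb : Commute b y) : Commute x y := by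
  have := (hb.pow_left k).inv_left.mul_left h
  rwa [inv_mul_cancel_left] at this

theorem fin2 {H : Type*} [Group H] {χ : H →* G} {S : Set G} {x y : G} {γ δ : H} {j : ℤ} (hx : x ∈ S) (hy : y ∈ S)
    (e : χ δ = y) (hj : δ ^ j = γ) (k : ℕ) : x ^ k * χ γ ∈ Subgroup.closure S := by
  refine mul_mem (pow_mem (Subgroup.subset_closure hx) k) ?_
  rw [← hj, map_zpow, e]
  exact zpow_mem (Subgroup.subset_closure hy) j

theorem acv (ta : TA a) : a cv = a (ee 2) * (a (ee 3))⁻¹ := by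
  rw [← ta.neg, ← ta.add]; exact congrArg a (by decide)

theorem afv (ta : TA a) : a fv = a (ee 2) * a (ee 3) := by
  rw [← ta.add]; exact congrArg a (by decide)

theorem sw_eq : sw = nrm (tv 6) (cm 1 * cm 2) :=
  cd_inj (by simp only [sw, Em, cm, xm, ym, cd_nrm, cd_mul, cd_tv]; decide +kernel)

theorem swm (χ : S6 →* G) : χ sw = nrm (χ (tv 6)) (χ (cm 1) * χ (cm 2)) := by
  rw [sw_eq]
  simp only [nrm, map_mul, map_inv]

theorem swc (h : St a ψ) {u : V4} (hu : sv cv u = u) : Commute (ψ sw) (a u) :=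
  mul_inv_eq_iff_eq_mul.1 (by rw [h.rfs.1.2, hu])

/-- the cycle `0 ↦ 3 ↦ 2 ↦ 1 ↦ 0` -/
def p1 : Equiv.Perm (Fin 4) := ⟨![3, 0, 1, 2], ![1, 2, 3, 0], by decide, by decide⟩

end FbL

open FbL

theorem FB.w1 (h : FB a ψ ρ t) (Y : Subgroup G) (hY : IsPGroup 2 Y) (h0 : Y ≤ 𝒞[ρ 0]) (hn : Ig a ≤ 𝒩(Y))
    (h2 : Y ≤ 𝒞[a (ee 2)]) (h3 : Y ≤ 𝒞[a (ee 3)]) : Y ≤ Ug a ρ t 1 := by
  obtain ⟨χ, hi, -, c, x, t3, -, -, two, -⟩ := model h p1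
  have c1 : χ (cm 1) = a (ee 1) := c 1
  have c2 : χ (cm 2) = a (ee 2) := c 2
  have x0 : χ (xm 0) = ρ 0 := x 0
  have x1 : χ (xm 1) = ρ 1 := x 1
  replace t3 : χ (tv 3) = t 0 1 := t3
  intro y hy
  obtain ⟨γ, rfl⟩ := two y (el' hY hy) (cen (h3 hy))
  have := mW1 (pull hi (c2 ▸ cen (h2 hy))) (pull hi (x0 ▸ cen (h0 hy))) (el hi hY hy) (el hi hY (by
    simp only [map_mul, map_inv, c1]
    exact cnj h.toTA hn (by decide) hy))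
  refine ((Subgroup.closure_le ((Ug a ρ t 1).comap χ)).2 ?_) this
  rintro _ (rfl | rfl | rfl) <;> simp only [SetLike.mem_coe, mem_comap, map_mul, map_inv, c1, x0, x1, t3]
  exacts [Fs.m0, Fs.m1, Fs.m2]

theorem FB.w2 (h : FB a ψ ρ t) (Y : Subgroup G) (hY : IsPGroup 2 Y) (h0 : Y ≤ 𝒞[ρ 0]) (hn : Ig a ≤ 𝒩(Y))
    (h2 : Y ≤ 𝒞[a (ee 1)]) (h3 : Y ≤ 𝒞[a cv]) : Y ≤ zpowers (ρ 0) := by
  obtain ⟨χ, hi, -, c, x, -, -, -, two, -⟩ := model h (Equiv.swap 0 1)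
  have c1 : χ (cm 1) = a (ee 2) := c 1
  have c2 : χ (cm 2) = a (ee 3) := c 2
  have x0 : χ (xm 0) = ρ 0 := x 0
  have c3 : χ cc = a cv := by rw [cc, map_mul, map_inv, c1, c2, acv h.toTA]
  intro y hy
  obtain ⟨γ, rfl⟩ := two y (el' hY hy) (cen (h2 hy))
  rcases mW2 (pull hi (c3 ▸ cen (h3 hy))) (pull hi (x0 ▸ cen (h0 hy))) (el hi hY hy) (el hi hY (by
    simp only [map_mul, map_inv, c1]
    exact cnj h.toTA hn (by decide) hy)) with rfl | rfl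
  · rw [map_one]; exact one_mem _
  · rw [x0]; exact mem_zpowers _

theorem FB.ph1 (h : FB a ψ ρ t) : IsConj (ρ 0 * (ρ 1 * t 0 1)) (ψ sw) ∧ Big (ψ sw) := by
  obtain ⟨χ, hi, cj, c, x, t3, -⟩ := model h p1
  have x0 : χ (xm 0) = ρ 0 := x 0
  have x1 : χ (xm 1) = ρ 1 := x 1
  replace t3 : χ (tv 3) = t 0 1 := t3
  refine ⟨IsConj.trans (isConj_iff.2 ⟨χ (wd [24, 28, 45]), ?_⟩) (cj sw), h.toTA.big (u := ee 0) (v := ee 1) (w := fv)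
    (by decide) (swc h.toSt (by decide)) (swc h.toSt (by decide)) (swc h.toSt (by decide))⟩
  rw [← conj_a2.1]
  simp only [map_mul, map_inv, x0, x1, t3]

theorem FB.ph2 (h : FB a ψ ρ t) : ¬ Big (ρ 1 * t 0 1) := by
  obtain ⟨χ, hi, -, c, x, t3, -, bL, -, three⟩ := model h p1
  have c2 : χ (cm 2) = a (ee 2) := c 2
  have x1 : χ (xm 1) = ρ 1 := x 1
  replace t3 : χ (tv 3) = t 0 1 := t3
  replace bL : ∀ γ, Commute (a (ee 3)) (χ γ) := bL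
  have xe : χ (xm 1 * tv 3) = ρ 1 * t 0 1 := by rw [map_mul, x1, t3]
  refine h.toSM.n27 (u := ee 2) (v := ee 3) (by decide) (by decide) (by decide)
    (Fs.cv h.fs (by decide) (by decide) (by decide)) (Fs.cv h.fs (by decide) (by decide) (by decide))
    fun p p3 p1 p2 p4 => ?_
  obtain ⟨k, γ, e3, rfl⟩ := three p p3 p4
  rw [← c2] at p2
  rw [← xe] at p1
  obtain ⟨j, hj⟩ := mem_zpowers_iff.1 (mNa (pull hi (strip p2 (bL _))) (pull hi (strip p1 (bL _))) e3)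
  exact fin2 (x := a (ee 3)) (Set.mem_insert_of_mem _ (Set.mem_singleton _)) (Set.mem_insert _ _) c2 hj k

theorem FB.ph3 (h : FB a ψ ρ t) : ¬ Big (ρ 0 * ψ sw) := by
  obtain ⟨χ, hi, -, c, x, -, t6, bL, -, three⟩ := model h (Equiv.swap 0 1)
  have c1 : χ (cm 1) = a (ee 2) := c 1
  have c2 : χ (cm 2) = a (ee 3) := c 2
  have x0 : χ (xm 0) = ρ 0 := x 0
  replace t6 : χ (tv 6) = t 2 3 := t6
  replace bL : ∀ γ, Commute (a (ee 1)) (χ γ) := bL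
  have c3 : χ ff = a fv := by rw [ff, map_mul, c1, c2, afv h.toTA]
  have d1 : ψ (cm 1) = a (ee 2) := h.ps.c 1
  have d2 : ψ (cm 2) = a (ee 3) := h.ps.c 2
  have xe : χ (xm 0 * sw) = ρ 0 * ψ sw := by
    rw [map_mul, x0, swm χ, swm ψ, c1, c2, d1, d2, t6, h.ps.t6]
  have rc : ∀ u : V4, u 0 = 0 → Commute (ρ 0) (a u) := fun u u0 =>
    (cen (h.fs.Ig_le (h.toTA.mem_Ig.2 ⟨u, u0, rfl⟩))).symm
  refine h.toSM.n27 (u := ee 1) (v := fv) (by decide) (by decide) (by decide)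
    ((rc _ (by decide)).mul_left (swc h.toSt (by decide))) ((rc _ (by decide)).mul_left (swc h.toSt (by decide)))
    fun p p3 p1 p2 p4 => ?_
  obtain ⟨k, γ, e3, rfl⟩ := three p p3 p2
  rw [← c3] at p4
  rw [← xe] at p1
  obtain ⟨j, hj⟩ := mem_zpowers_iff.1 (mNc (pull hi (strip p4 (bL _))) (pull hi (strip p1 (bL _))) e3)
  exact fin2 (x := a (ee 1)) (Set.mem_insert _ _) (Set.mem_insert_of_mem _ (Set.mem_singleton _)) c3 hj k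

theorem FB.w3 (h : FB a ψ ρ t) (hm : ∀ n θ, Ac a n θ → Mono θ) (h4 : ¬ 4 ∣ Nat.card ↥(𝒞[a zv] ⊓ 𝒞[a cv]))
    (Y : Subgroup G) (hY : IsPGroup 2 Y) (h0 : Y ≤ 𝒞[ρ 0]) (h2 : Y ≤ 𝒞[a zv]) (h3 : Y ≤ 𝒞[a cv]) : Y ≤ zpowers (ρ 0) := by
  obtain ⟨r2, r1⟩ := h.fs.r2 0
  have rc : ∀ u : V4, u 0 = 0 → ρ 0 ∈ 𝒞[a u] := fun u u0 => mem_centralizer_singleton_iff.2
    (cen (h.fs.Ig_le (h.toTA.mem_Ig.2 ⟨u, u0, rfl⟩))).symm
  obtain ⟨n, hn⟩ := IsPGroup.iff_card.1 (IsPGroup.to_sup_of_normal_right' hY (isP_zp r2) (norm_zp r2 ▸ h0))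
  have d := card_dvd_of_le (sup_le (le_inf h2 h3)
    (zpowers_le_of_mem (mem_inf.2 ⟨rc _ (by decide), rc _ (by decide)⟩)))
  have n1 : n ≤ 1 := by
    by_contra k
    exact h4 ((hn ▸ pow_dvd_pow 2 (show 2 ≤ n by omega)).trans d)
  have := eq_of_le_of_card_ge (le_sup_right : zpowers (ρ 0) ≤ Y ⊔ zpowers (ρ 0)) (by
    rw [hn, Nat.card_zpowers, orderOf_eq_prime (p := 2) (by rw [sq, r2]) r1]
    exact Nat.pow_le_pow_right two_pos n1)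
  rw [this]
  exact le_sup_left

theorem FB.lc (h : FB a ψ ρ t) (hm : ∀ n θ, Ac a n θ → Mono θ) (h4 : ¬ 4 ∣ Nat.card ↥(𝒞[a zv] ⊓ 𝒞[a cv])) :
    LC a ρ t :=
  { h.fs, h.toGl with
    w1 := h.w1
    w2 := h.w2
    w3a := fun Y hY h0 _ h2 h3 _ => h.w3 hm h4 Y hY h0 h2 h3
    w3b := fun Y hY h0 _ h2 h3 => (h.w3 hm h4 Y hY h0 h2 h3).trans (zpowers_le_of_mem
      (mem_centralizer_singleton_iff.2 ((h.fs.rr 0 1).mul_right (h.fs.tr 0 1 0 (by decide)).symm)))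
    ph1 := h.ph1.2.conj h.ph1.1.symm
    ph2 := h.ph2 }

end Cfsg.Agent.S86
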