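import Cfsg.Agent.S86.Defs

/-! The groups of matrices whose point stabiliser is the group of signed permutations of rank three. -/

set_option autoImplicit false

namespace Cfsg.Agent.S86

open Subgroup H49 Matrix F42
open Cfsg.Agent.L72 (O2N)

namespace FusM

/-- four column codes -/
abbrev T : Type := ℕ × ℕ × ℕ × ℕ

def vec (n : ℕ) : V4 := ![((n / 27 : ℕ) : ZMod 3), ((n / 9 : ℕ) : ZMod 3), ((n / 3 : ℕ) : ZMod 3), (n : ZMod 3)]

def mk (p q r s : ℕ) : ℕ := 27 * (p % 3) + 9 * (q % 3) + 3 * (r % 3) + s % 3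

def mat (t : T) : M4 := Matrix.of fun i j => vec (![t.1, t.2.1, t.2.2.1, t.2.2.2] j) i

def ap (t : T) (n : ℕ) : ℕ :=
  mk (t.1 / 27 * (n / 27) + t.2.1 / 27 * (n / 9) + t.2.2.1 / 27 * (n / 3) + t.2.2.2 / 27 * n)
    (t.1 / 9 * (n / 27) + t.2.1 / 9 * (n / 9) + t.2.2.1 / 9 * (n / 3) + t.2.2.2 / 9 * n)
    (t.1 / 3 * (n / 27) + t.2.1 / 3 * (n / 9) + t.2.2.1 / 3 * (n / 3) + t.2.2.2 / 3 * n)
    (t.1 * (n / 27) + t.2.1 * (n / 9) + t.2.2.1 * (n / 3) + t.2.2.2 * n)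

def ng (n : ℕ) : ℕ := mk (2 * (n / 27)) (2 * (n / 9)) (2 * (n / 3)) (2 * n)

def pt (n : ℕ) : ℕ := cond (Nat.ble n (ng n)) n (ng n)

def mm (a b : T) : T := (ap a b.1, ap a b.2.1, ap a b.2.2.1, ap a b.2.2.2)

def lt (t : T) : ℕ → T
  | 0 => (27, 18, 3, 1)
  | 1 => (27, 3, 9, 1)
  | 2 => (27, 9, 1, 3)
  | _ => t

def wm (t : T) : List ℕ → T
  | [] => (27, 9, 3, 1)
  | l :: w => mm (lt t l) (wm t w)

def m3 (y a b c : ℕ) : Bool := Nat.beq y a || Nat.beq y b || Nat.beq y c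

def force (n : ℕ) (f : ℕ → Bool) : Bool := Nat.rec (f 0) (fun k _ => f k.succ) n

def cl (A B : T) : Bool :=
  m3 (pt B.2.1) (pt A.2.1) (pt A.2.2.1) (pt A.2.2.2) && m3 (pt B.2.2.1) (pt A.2.1) (pt A.2.2.1) (pt A.2.2.2) &&
    m3 (pt B.2.2.2) (pt A.2.1) (pt A.2.2.1) (pt A.2.2.2)

def c3 (g : T) (a b c : ℕ) : Bool := m3 (pt (ap g a)) a b c && m3 (pt (ap g b)) a b c && m3 (pt (ap g c)) a b c

instance (θ : M4) : Decidable (Iso0 θ) := inferInstanceAs (Decidable (_ ∧ _))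

instance (θ : M4) : Decidable (Sim θ) := inferInstanceAs (Decidable (_ ∨ _))

instance (θ : M4) : Decidable (Mono θ) := inferInstanceAs (Decidable (∀ _, ∃ _, _))

def ok (t : T) (k : ℕ) (w w' : List ℕ) : Bool :=
  (k == 0 && decide (Iso0 (mat (27, t.2)))) || (k == 1 && (wm t w).1 == (wm t w').1 && !cl (wm t w) (wm t w')) ||
    (k == 2 && wm t w == (4, 9, 32, 59)) ||
    (k == 3 && decide (Sim (mat t)) && wm t w == (9, 27, 3, 1) &&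
      (decide (Mono (mat t)) || wm t w' == (40, 44, 50, 52)))

def pts : List ℕ := [1, 3, 4, 5, 9, 10, 11, 12, 13, 14, 15, 16, 17, 27, 28, 29, 30, 31, 32, 33, 34, 35, 36, 37, 38,
  39, 40, 41, 42, 43, 44, 45, 46, 47, 48, 49, 50, 51, 52, 53]

def fin (v : ℕ) (gs : List T) (tb : List (ℕ × ℕ × ℕ × ℕ × List ℕ × List ℕ)) (a b c : ℕ) : Bool :=
  Nat.blt c b || !(gs.all fun g => c3 g a b c) ||
    (tb.any fun e => Nat.beq e.1 a && Nat.beq e.2.1 b && Nat.beq e.2.2.1 c &&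
      ok (v, a, b, c) e.2.2.2.1 e.2.2.2.2.1 e.2.2.2.2.2) ||
    pts.any fun u => Nat.beq (ap (v, a, b, c) u) 0

def chk (v : ℕ) (gs : List T) (tb : List (ℕ × ℕ × ℕ × ℕ × List ℕ × List ℕ)) : Bool :=
  (gs.all fun g => decide (Iso0 (mat g)) && ap g v == v) &&
    (0 :: pts).all fun a => (0 :: pts).all fun b => Nat.blt b a ||
      (gs.any fun g => [a, b].any fun x => force (pt (ap g x)) fun y =>
        !(Nat.beq y a || Nat.beq y b) && fin v gs tb a b y) || (0 :: pts).all (fin v gs tb a b)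

theorem c0 : chk 0 [(27, 9, 1, 3), (27, 3, 9, 1), (27, 18, 3, 1)]
    [] = true := by decide +kernel

theorem c9 : chk 9 [(27, 9, 1, 3), (27, 9, 3, 2)]
    [(1, 3, 27, 3, [2, 3, 2, 1], []),
     (1, 3, 36, 1, [3, 3], [0, 3, 3]),
     (1, 3, 45, 1, [3, 3], [0, 3, 3]),
     (4, 5, 27, 2, [3, 3, 2, 1], []),
     (4, 5, 36, 1, [3, 3], [0, 3, 3]),
     (4, 5, 45, 1, [3, 3], [0, 3, 3])] = true := by decide +kernel

theorem c12 : chk 12 [(27, 3, 9, 1), (27, 9, 3, 2)]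
    [(1, 15, 27, 1, [2, 3, 3], [1, 2, 3, 3]),
     (1, 15, 39, 1, [3, 3, 3], [0, 3, 3, 3]),
     (1, 15, 51, 1, [0, 3, 3], [1, 0, 3, 3]),
     (1, 30, 36, 1, [3, 3], [0, 3, 3]),
     (1, 33, 45, 1, [3, 3], [0, 3, 3]),
     (1, 42, 48, 2, [1, 0, 3, 3, 3, 1], []),
     (15, 28, 29, 3, [0, 1, 3, 2, 3, 3, 2, 1, 3], [3, 3, 2, 3, 1, 0, 3]),
     (15, 40, 41, 1, [1, 3, 3], [0, 1, 3, 3]),
     (15, 52, 53, 1, [3, 3], [0, 3, 3]),
     (16, 17, 27, 1, [0, 3], [3, 3]),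
     (16, 17, 39, 1, [0, 3], [3, 3]),
     (16, 17, 51, 1, [0, 3], [3, 3])] = true := by decide +kernel

theorem c13 : chk 13 [(27, 3, 9, 1), (27, 9, 1, 3)]
    [] = true := by decide +kernel

theorem c27 : chk 27 [(27, 9, 1, 3), (27, 3, 9, 1), (27, 18, 3, 1)]
    [(1, 3, 9, 0, [], [])] = true := by decide +kernel

theorem c36 : chk 36 [(27, 9, 1, 3), (27, 9, 3, 2)]
    [(1, 3, 9, 0, [], []),
     (1, 3, 27, 1, [2, 3, 3], [1, 2, 3, 3]),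
     (1, 3, 45, 1, [3, 3, 3], [0, 3, 3, 3]),
     (4, 5, 9, 1, [3, 3], [1, 3, 3]),
     (4, 5, 27, 1, [3, 3], [1, 3, 3]),
     (4, 5, 45, 3, [3, 3, 0, 2, 3, 2, 3], [1, 3, 2, 3, 2])] = true := by decide +kernel

theorem c39 : chk 39 [(27, 3, 9, 1), (27, 9, 3, 2)]
    [(1, 3, 9, 0, [], []),
     (1, 12, 15, 1, [0, 2, 3], [3, 2, 3]),
     (1, 15, 27, 1, [3, 3], [0, 2, 3]),
     (1, 15, 51, 1, [3, 3], [0, 2, 3]),
     (1, 30, 36, 1, [3, 3, 3], [0, 3, 3, 3]),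
     (1, 42, 48, 1, [1, 3, 3], [0, 1, 3, 3]),
     (12, 16, 17, 1, [3, 3], [0, 3, 3]),
     (13, 14, 15, 1, [1, 2, 3], [3, 2, 3]),
     (15, 28, 29, 1, [1, 3, 3], [0, 1, 3, 3]),
     (15, 52, 53, 2, [2, 3, 2, 1, 0, 3, 1, 2], []),
     (16, 17, 27, 1, [3, 3], [0, 3, 3]),
     (16, 17, 51, 1, [3, 3], [0, 3, 3])] = true := by decide +kernel

theorem c40 : chk 40 [(27, 3, 9, 1), (27, 9, 1, 3)]
    [(1, 3, 9, 0, [], []),
     (4, 10, 12, 1, [], [3, 3]),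
     (14, 16, 17, 1, [1, 3, 3], [0, 1, 3, 3]),
     (28, 30, 36, 1, [2, 1, 0, 3], [0, 1, 0, 3, 3]),
     (29, 33, 45, 1, [], [3, 3]),
     (31, 37, 39, 1, [], [3, 3]),
     (35, 47, 51, 2, [3, 0, 1, 3, 3, 0, 1], []),
     (41, 43, 49, 1, [3, 0, 3], [0, 3, 0, 3]),
     (44, 50, 52, 3, [1, 2, 3, 0, 1, 0, 2, 1, 3], [3])] = true := by decide +kernel

theorem c54 : chk 54 [(27, 9, 1, 3), (27, 3, 9, 1), (27, 18, 3, 1)]
    [(1, 3, 9, 0, [], [])] = true := by decide +kernel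

theorem c63 : chk 63 [(27, 9, 1, 3), (27, 9, 3, 2)]
    [(1, 3, 9, 0, [], []),
     (1, 3, 27, 1, [0, 3], [3, 2, 1, 3]),
     (1, 3, 36, 1, [2, 3, 0, 3], [0, 1, 2, 3, 3]),
     (4, 5, 9, 1, [0, 3, 3], [1, 0, 3, 3]),
     (4, 5, 27, 1, [0, 3, 3], [1, 0, 3, 3]),
     (4, 5, 36, 3, [0, 1, 3, 0, 2, 3, 3, 3, 2], [0, 3, 2, 3, 2, 1, 0])] = true := by decide +kernel

theorem c66 : chk 66 [(27, 3, 9, 1), (27, 9, 3, 2)]
    [(1, 3, 9, 0, [], []),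
     (1, 12, 15, 1, [3, 3], [0, 3, 3]),
     (1, 15, 27, 1, [3, 3], [0, 3, 3]),
     (1, 15, 39, 1, [3, 3], [0, 3, 3]),
     (1, 33, 45, 1, [3, 3], [2, 3, 3]),
     (1, 42, 48, 1, [3, 3], [0, 3, 3]),
     (12, 16, 17, 1, [0, 3, 3], [1, 0, 3, 3]),
     (13, 14, 15, 1, [3, 2, 3], [0, 3, 0, 3]),
     (15, 28, 29, 1, [3, 3], [0, 3, 3]),
     (15, 40, 41, 2, [2, 3, 2, 1, 3, 3, 3, 2], []),
     (16, 17, 27, 1, [3, 3], [2, 3, 3]),
     (16, 17, 39, 1, [3, 3], [2, 3, 3])] = true := by decide +kernel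

theorem c67 : chk 67 [(27, 3, 9, 1), (27, 9, 1, 3)]
    [(1, 3, 9, 0, [], []),
     (4, 10, 12, 1, [0, 3], [3, 3, 0, 3]),
     (14, 16, 17, 1, [3, 0, 3], [0, 3, 0, 3]),
     (28, 30, 36, 1, [], [3, 3]),
     (29, 33, 45, 1, [3, 0, 3, 3], [0, 3, 0, 3, 3]),
     (31, 37, 39, 2, [0, 2, 3, 0, 1, 3, 3, 0, 1], []),
     (35, 47, 51, 1, [], [3, 3]),
     (41, 43, 49, 3, [0, 3, 0, 1, 0, 3, 0], [0, 1, 2, 3, 0, 3, 0, 1, 0, 3]),
     (44, 50, 52, 1, [1, 3, 0, 3], [0, 1, 3, 0, 3])] = true := by decide +kernel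

theorem vec_mk (p q r s : ℕ) : vec (mk p q r s) = ![(p : ZMod 3), (q : ZMod 3), (r : ZMod 3), (s : ZMod 3)] := by
  simp only [vec, mk]
  congr 1
  · exact (ZMod.natCast_eq_natCast_iff' _ _ 3).2 (by omega)
  congr 1
  · exact (ZMod.natCast_eq_natCast_iff' _ _ 3).2 (by omega)
  congr 1
  · exact (ZMod.natCast_eq_natCast_iff' _ _ 3).2 (by omega)
  congr 1
  exact (ZMod.natCast_eq_natCast_iff' _ _ 3).2 (by omega)

theorem mk_lt (p q r s : ℕ) : mk p q r s < 81 := by unfold mk; omega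

theorem vec_ap (t : T) (n : ℕ) : vec (ap t n) = mat t *ᵥ vec n := by
  rw [ap, vec_mk]
  ext i
  fin_cases i <;> simp [mat, vec, mulVec, dotProduct, Fin.sum_univ_four]

theorem vec_ng (n : ℕ) : vec (ng n) = -vec n := by
  rw [ng, vec_mk]
  have h : ∀ x : ZMod 3, 2 * x = -x := by decide
  ext i
  fin_cases i <;> simp [vec, h]

theorem vec_inj {x y : ℕ} (hx : x < 81) (hy : y < 81) (h : vec x = vec y) : x = y := by
  have h0 := (ZMod.natCast_eq_natCast_iff' _ _ 3).1 (congrFun h 0)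
  have h1 := (ZMod.natCast_eq_natCast_iff' _ _ 3).1 (congrFun h 1)
  have h2 := (ZMod.natCast_eq_natCast_iff' _ _ 3).1 (congrFun h 2)
  have h3 := (ZMod.natCast_eq_natCast_iff' _ _ 3).1 (congrFun h 3)
  omega

theorem vec_surj (u : V4) : ∃ n < 81, vec n = u :=
  ⟨_, mk_lt (u 0).val (u 1).val (u 2).val (u 3).val, by
    rw [vec_mk]
    ext i
    fin_cases i <;> simp⟩

theorem pt_ng : ∀ n < 81, pt (ng n) = pt n ∧ (n ≤ ng n → pt n = n ∧ n ∈ 0 :: pts) := by decide +kernel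

theorem pt_eq {x y : ℕ} (hx : x < 81) (hy : y < 81) (h : vec x = vec y ∨ vec x = -vec y) : pt x = pt y := by
  rcases h with h | h
  · rw [vec_inj hx hy h]
  · rw [vec_inj hx (mk_lt ..) (h.trans (vec_ng y).symm)]
    exact (pt_ng y hy).1

theorem ee_vec : ee 0 = vec 27 ∧ ee 1 = vec 9 ∧ ee 2 = vec 3 ∧ ee 3 = vec 1 := by decide +kernel

theorem col (M : M4) (i j : Fin 4) : (M *ᵥ ee j) i = M i j := by simp [ee]

theorem mat_ee (t : T) (j : Fin 4) : mat t *ᵥ ee j = vec (![t.1, t.2.1, t.2.2.1, t.2.2.2] j) :=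
  funext fun i => col _ i j

theorem mat_ext {M : M4} {t : T} (h0 : M *ᵥ ee 0 = vec t.1) (h1 : M *ᵥ ee 1 = vec t.2.1)
    (h2 : M *ᵥ ee 2 = vec t.2.2.1) (h3 : M *ᵥ ee 3 = vec t.2.2.2) : M = mat t := by
  ext i j
  refine (col M i j).symm.trans ?_
  fin_cases j
  exacts [congrFun h0 i, congrFun h1 i, congrFun h2 i, congrFun h3 i]

theorem mat_mm (a b : T) : mat a * mat b = mat (mm a b) :=
  mat_ext (by rw [← mulVec_mulVec, mat_ee]; exact (vec_ap _ _).symm)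
    (by rw [← mulVec_mulVec, mat_ee]; exact (vec_ap _ _).symm)
    (by rw [← mulVec_mulVec, mat_ee]; exact (vec_ap _ _).symm)
    (by rw [← mulVec_mulVec, mat_ee]; exact (vec_ap _ _).symm)

/-- the codes of the last three columns are reduced -/
def Bd (t : T) : Prop := t.2.1 < 81 ∧ t.2.2.1 < 81 ∧ t.2.2.2 < 81

theorem bd_mm (a b : T) : Bd (mm a b) := ⟨mk_lt .., mk_lt .., mk_lt ..⟩

theorem bd_wm (t : T) : ∀ w, Bd (wm t w)
  | [] => ⟨(by decide : 9 < 81), (by decide : 3 < 81), (by decide : 1 < 81)⟩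
  | _ :: _ => bd_mm _ _

theorem iso_mul {β γ : M4} (h : Iso0 β) (h' : Iso0 γ) : Iso0 (β * γ) :=
  ⟨by rw [transpose_mul, Matrix.mul_assoc, ← Matrix.mul_assoc βᵀ, h.1, Matrix.one_mul, h'.1],
    by rw [← mulVec_mulVec, h'.2, h.2]⟩

theorem iso_mono {β : M4} (h : Iso0 β) : Mono β := fun i => by
  by_cases hi : i = 0
  · exact ⟨0, Or.inl (hi ▸ h.2)⟩
  · obtain ⟨k, -, e⟩ := h.ee hi
    exact ⟨k, e⟩

theorem mono_mul {β γ : M4} (h : Mono β) (h' : Mono γ) : Mono (β * γ) := fun i => by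
  obtain ⟨k, e⟩ := h' i
  obtain ⟨l, e'⟩ := h k
  refine ⟨l, ?_⟩
  rcases e with e | e <;> rcases e' with e' | e' <;> simp [← mulVec_mulVec, e, e', mulVec_neg]

/-- the hypotheses -/
structure Hy (W : Set M4) : Prop where
  mul : ∀ θ ∈ W, ∀ η ∈ W, θ * η ∈ W
  inv : ∀ θ ∈ W, ∃ η ∈ W, θ * η = 1 ∧ η * θ = 1
  iso : ∀ β, Iso0 β → β ∈ W
  stab : ∀ θ ∈ W, θ *ᵥ ee 0 = ee 0 → Iso0 θ

/-- the conclusion -/
def Cn (W : Set M4) (θ : M4) : Prop := Aff θ ∨ thm ∈ W ∨ (Sim θ ∧ p01 ∈ W ∧ (Mono θ ∨ hF ∈ W))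

variable {W : Set M4} {θ β : M4} {t : T}

theorem Cn.mul_right (h : Cn W θ) (hβ : Iso0 β) : Cn W (θ * β) := by
  rcases h with ⟨γ, h1, h2⟩ | h | ⟨h1, h2, h3⟩
  · exact Or.inl ⟨γ * β, iso_mul h1 hβ, fun u u0 => by
      rw [← mulVec_mulVec, ← mulVec_mulVec, h2 _ ((hβ.zero u).trans u0)]⟩
  · exact Or.inr (Or.inl h)
  · exact Or.inr (Or.inr ⟨h1.mul hβ.sim, h2, h3.imp_left fun k => mono_mul k (iso_mono hβ)⟩)

theorem Cn.mul_left (h : Cn W θ) (hβ : Iso0 β) : Cn W (β * θ) := by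
  rcases h with ⟨γ, h1, h2⟩ | h | ⟨h1, h2, h3⟩
  · exact Or.inl ⟨β * γ, iso_mul hβ h1, fun u u0 => by rw [← mulVec_mulVec, ← mulVec_mulVec, h2 u u0]⟩
  · exact Or.inr (Or.inl h)
  · exact Or.inr (Or.inr ⟨hβ.sim.mul h1, h2, h3.imp_left fun k => mono_mul (iso_mono hβ) k⟩)

theorem Cn.of_right (h : Cn W (θ * β)) (hβ : Iso0 β) : Cn W θ := by
  obtain ⟨η, h1, h2⟩ := hβ.inv
  have := h.mul_right h1
  rwa [Matrix.mul_assoc, h2, Matrix.mul_one] at this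

theorem Cn.of_left (h : Cn W (β * θ)) (hβ : Iso0 β) : Cn W θ := by
  obtain ⟨η, h1, h2⟩ := hβ.inv
  have := h.mul_left h1
  rwa [← Matrix.mul_assoc, mul_eq_one_comm.1 h2, Matrix.one_mul] at this

theorem m3_iff {y a b c : ℕ} : m3 y a b c = true ↔ y = a ∨ y = b ∨ y = c := by
  simp only [m3, Bool.or_eq_true, Nat.beq_eq, or_assoc]

theorem Hy.key (h : Hy W) {A B : T} (bA : Bd A) (bB : Bd B) (hA : mat A ∈ W) (hB : mat B ∈ W) (e : A.1 = B.1) :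
    cl A B = true := by
  obtain ⟨η, hη, h1, h2⟩ := h.inv _ hA
  have hs := h.stab _ (h.mul _ hη _ hB) (by
    rw [← mulVec_mulVec, mat_ee]
    change η *ᵥ vec B.1 = _
    rw [← e, show vec A.1 = mat A *ᵥ ee 0 from (mat_ee A 0).symm, mulVec_mulVec, h2, one_mulVec])
  have k : ∀ i : Fin 4, i ≠ 0 → ∀ y < 81, vec y = mat B *ᵥ ee i →
      m3 (pt y) (pt A.2.1) (pt A.2.2.1) (pt A.2.2.2) = true := fun i hi y hy ey => by
    obtain ⟨k, k0, e⟩ := hs.ee hi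
    have e' : vec y = mat A *ᵥ ee k ∨ vec y = -(mat A *ᵥ ee k) := by
      rw [ey, ← mulVec_neg, ← Matrix.one_mul (mat B), ← h1, Matrix.mul_assoc, ← mulVec_mulVec]
      exact e.imp (congrArg _) (congrArg _)
    rw [mat_ee] at e'
    rw [m3_iff]
    fin_cases k
    · exact absurd rfl k0
    · exact Or.inl (pt_eq hy bA.1 e')
    · exact Or.inr (Or.inl (pt_eq hy bA.2.1 e'))
    · exact Or.inr (Or.inr (pt_eq hy bA.2.2 e'))
  simp only [cl, Bool.and_eq_true]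
  exact ⟨⟨k 1 (by decide) _ bB.1 (mat_ee B 1).symm, k 2 (by decide) _ bB.2.1 (mat_ee B 2).symm⟩,
    k 3 (by decide) _ bB.2.2 (mat_ee B 3).symm⟩

theorem iso_g : Iso0 (mat (27, 9, 3, 1)) ∧ Iso0 (mat (27, 18, 3, 1)) ∧ Iso0 (mat (27, 3, 9, 1)) ∧
    Iso0 (mat (27, 9, 1, 3)) ∧ Iso0 (mat (27, 9, 6, 1)) ∧ Iso0 (mat (27, 9, 3, 2)) := by decide +kernel

theorem Hy.wm (h : Hy W) (ht : mat t ∈ W) : ∀ w, mat (wm t w) ∈ W
  | [] => h.iso _ iso_g.1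
  | l :: w => by
    rw [FusM.wm, ← mat_mm]
    refine h.mul _ ?_ _ (h.wm ht w)
    rcases l with _ | _ | _ | l
    exacts [h.iso _ iso_g.2.1, h.iso _ iso_g.2.2.1, h.iso _ iso_g.2.2.2.1, ht]

theorem targets : mat (4, 9, 32, 59) = thm ∧ mat (9, 27, 3, 1) = p01 ∧ mat (40, 44, 50, 52) = hF := by
  decide +kernel

theorem Hy.ok (h : Hy W) (ht : mat t ∈ W) {k : ℕ} {w w' : List ℕ} (e : ok t k w w' = true) : Cn W (mat t) := by
  simp only [FusM.ok, Bool.or_eq_true, Bool.and_eq_true, decide_eq_true_eq, beq_iff_eq, Bool.not_eq_true'] at e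
  rcases e with ((⟨-, e⟩ | ⟨⟨-, e⟩, e'⟩) | ⟨-, e⟩) | ⟨⟨⟨-, e1⟩, e2⟩, e3⟩
  · refine Or.inl ⟨_, e, fun u u0 => ?_⟩
    ext i
    simp [mat, mulVec, dotProduct, Fin.sum_univ_four, u0]
  · rw [h.key (bd_wm t w) (bd_wm t w') (h.wm ht w) (h.wm ht w') e] at e'
    exact absurd e' (by decide)
  · exact Or.inr (Or.inl (targets.1 ▸ e ▸ h.wm ht w))
  · exact Or.inr (Or.inr ⟨e1, targets.2.1 ▸ e2 ▸ h.wm ht w, e3.imp_right fun (e : FusM.wm t w' = (40, 44, 50, 52)) =>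
      targets.2.2 ▸ e ▸ h.wm ht w'⟩)

theorem force_eq (n : ℕ) (f : ℕ → Bool) : force n f = f n := by cases n <;> rfl

theorem vec_pts : vec 0 = 0 ∧ ∀ u ∈ pts, vec u ≠ 0 := by decide +kernel

theorem Hy.chk (h : Hy W) {v : ℕ} {gs : List T} {tb : List (ℕ × ℕ × ℕ × ℕ × List ℕ × List ℕ)}
    (e : chk v gs tb = true) {a b c : ℕ} (ha : a < 81) (hb : b < 81) (hc : c < 81) (na : a ≤ ng a) (nb : b ≤ ng b)
    (nc : c ≤ ng c) (ab : a ≤ b) (bc : b ≤ c) (ht : mat (v, a, b, c) ∈ W) : Cn W (mat (v, a, b, c)) := by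
  obtain ⟨pa, ma⟩ := (pt_ng a ha).2 na
  obtain ⟨pb, mb⟩ := (pt_ng b hb).2 nb
  obtain ⟨pc, mc⟩ := (pt_ng c hc).2 nc
  rw [FusM.chk, Bool.and_eq_true, List.all_eq_true, List.all_eq_true] at e
  have cg : ∀ g ∈ gs, c3 g a b c = true := fun g hg => by
    have k := e.1 g hg
    rw [Bool.and_eq_true, decide_eq_true_eq, beq_iff_eq] at k
    have := h.key (A := (v, a, b, c)) ⟨ha, hb, hc⟩ (bd_mm g (v, a, b, c)) ht
      (mat_mm g _ ▸ h.mul _ (h.iso _ k.1) _ ht) k.2.symm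
    simpa only [cl, mm, pa, pb, pc, c3] using this
  have fi : fin v gs tb a b c = true := by
    have k := List.all_eq_true.1 (e.2 a ma) b mb
    rw [Bool.or_eq_true, Bool.or_eq_true, Nat.blt_eq] at k
    rcases k with (k | k) | k
    · omega
    · obtain ⟨g, hg, k⟩ := List.any_eq_true.1 k
      obtain ⟨x, hx, k⟩ := List.any_eq_true.1 k
      rw [force_eq] at k
      have k3 := cg g hg
      simp only [c3, Bool.and_eq_true, m3_iff] at k3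
      rw [Bool.and_eq_true, Bool.not_eq_true', ← Bool.not_eq_true, Bool.or_eq_true, Nat.beq_eq, Nat.beq_eq] at k
      have k1 := k.1
      have : pt (ap g x) = c := by
        simp only [List.mem_cons, List.not_mem_nil, or_false] at hx
        rcases hx with rfl | rfl <;> omega
      exact this ▸ k.2
    · exact List.all_eq_true.1 k c mc
  simp only [FusM.fin, Bool.or_eq_true, Nat.blt_eq, List.all_eq_true.2 cg, Bool.not_true, List.any_eq_true,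
    Bool.and_eq_true, Nat.beq_eq] at fi
  rcases fi with ((k | k) | ⟨x, -, -, k⟩) | ⟨u, hu, k⟩
  · omega
  · exact absurd k (by decide)
  · exact h.ok ht k
  · obtain ⟨η, -, -, h2⟩ := h.inv _ ht
    refine absurd ?_ (vec_pts.2 u hu)
    rw [← one_mulVec (vec u), ← h2, ← mulVec_mulVec, ← vec_ap, k, vec_pts.1, mulVec_zero]

theorem vec_neg : vec 18 = -ee 1 ∧ vec 6 = -ee 2 ∧ vec 2 = -ee 3 := by decide +kernel

theorem Hy.norm (h : Hy W) {v : ℕ} {gs : List T} {tb : List (ℕ × ℕ × ℕ × ℕ × List ℕ × List ℕ)}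
    (e : FusM.chk v gs tb = true) (n : ℕ) : ∀ a < 81, ∀ b < 81, ∀ c < 81, 3 * a + 2 * b + c < n →
      mat (v, a, b, c) ∈ W → Cn W (mat (v, a, b, c)) := by
  induction n with
  | zero => exact fun a _ b _ c _ k => absurd k (Nat.not_lt_zero _)
  | succ n ih =>
    intro a ha b hb c hc hn ht
    have step : ∀ (g : T) (a' b' c' : ℕ), Iso0 (mat g) → a' < 81 → b' < 81 → c' < 81 →
        3 * a' + 2 * b' + c' < 3 * a + 2 * b + c → mat (v, a, b, c) *ᵥ vec g.2.1 = vec a' →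
        mat (v, a, b, c) *ᵥ vec g.2.2.1 = vec b' → mat (v, a, b, c) *ᵥ vec g.2.2.2 = vec c' →
        Cn W (mat (v, a, b, c)) := fun g a' b' c' hg ha' hb' hc' lt e1 e2 e3 => by
      have k : mat (v, a, b, c) * mat g = mat (v, a', b', c') :=
        mat_ext (by rw [← mulVec_mulVec, hg.2]; exact mat_ee _ 0) (by rw [← mulVec_mulVec, mat_ee]; exact e1)
          (by rw [← mulVec_mulVec, mat_ee]; exact e2) (by rw [← mulVec_mulVec, mat_ee]; exact e3)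
      exact Cn.of_right (k ▸ ih a' ha' b' hb' c' hc' (by omega) (k ▸ h.mul _ ht _ (h.iso _ hg))) hg
    have e1 : mat (v, a, b, c) *ᵥ vec 9 = vec a := ee_vec.2.1 ▸ mat_ee _ 1
    have e2 : mat (v, a, b, c) *ᵥ vec 3 = vec b := ee_vec.2.2.1 ▸ mat_ee _ 2
    have e3 : mat (v, a, b, c) *ᵥ vec 1 = vec c := ee_vec.2.2.2 ▸ mat_ee _ 3
    rcases lt_or_ge (ng a) a with na | na
    · exact step _ (ng a) b c iso_g.2.1 (mk_lt ..) hb hc (by omega)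
        (by rw [vec_neg.1, mulVec_neg, ee_vec.2.1, e1, vec_ng]) e2 e3
    rcases lt_or_ge (ng b) b with nb | nb
    · exact step _ a (ng b) c iso_g.2.2.2.2.1 ha (mk_lt ..) hc (by omega) e1
        (by rw [vec_neg.2.1, mulVec_neg, ee_vec.2.2.1, e2, vec_ng]) e3
    rcases lt_or_ge (ng c) c with nc | nc
    · exact step _ a b (ng c) iso_g.2.2.2.2.2 ha hb (mk_lt ..) (by omega) e1 e2
        (by rw [vec_neg.2.2, mulVec_neg, ee_vec.2.2.2, e3, vec_ng])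
    rcases lt_or_ge b a with ab | ab
    · exact step _ b a c iso_g.2.2.1 hb ha hc (by omega) e2 e1 e3
    rcases lt_or_ge c b with bc | bc
    · exact step _ a c b iso_g.2.2.2.1 ha hc hb (by omega) e1 e3 e2
    exact h.chk e ha hb hc na nb nc ab bc ht

def gl : List T := [(27, 1, 3, 9), (27, 1, 3, 18), (27, 1, 18, 3), (27, 6, 9, 1), (27, 9, 2, 6), (27, 18, 1, 6),
  (27, 2, 6, 18), (27, 6, 2, 9), (27, 3, 1, 9), (27, 3, 9, 1), (27, 3, 18, 1), (27, 6, 18, 1)]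

theorem reps : (∀ g ∈ gl, Iso0 (mat g)) ∧
    ∀ n < 81, ∃ g ∈ gl, ap g n ∈ [0, 9, 12, 13, 27, 36, 39, 40, 54, 63, 66, 67] := by decide +kernel

end FusM

open FusM

theorem fusM1 {W : Set M4} (mul : ∀ θ ∈ W, ∀ η ∈ W, θ * η ∈ W) (inv : ∀ θ ∈ W, ∃ η ∈ W, θ * η = 1 ∧ η * θ = 1)
    (iso : ∀ β, Iso0 β → β ∈ W) (stab : ∀ θ ∈ W, θ *ᵥ ee 0 = ee 0 → Iso0 θ) {θ : M4} (hθ : θ ∈ W) :
    Aff θ ∨ thm ∈ W ∨ (Sim θ ∧ p01 ∈ W ∧ (Mono θ ∨ hF ∈ W)) := by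
  have h : Hy W := ⟨mul, inv, iso, stab⟩
  obtain ⟨n, hn, e⟩ := vec_surj (θ *ᵥ ee 0)
  obtain ⟨g, hg, hv⟩ := reps.2 n hn
  have hβ := reps.1 g hg
  have e0 := (vec_ap g n).symm
  generalize mat g = β at hβ e0
  generalize ap g n = v at hv e0
  obtain ⟨a, ha, e1⟩ := vec_surj ((β * θ) *ᵥ ee 1)
  obtain ⟨b, hb, e2⟩ := vec_surj ((β * θ) *ᵥ ee 2)
  obtain ⟨c, hc, e3⟩ := vec_surj ((β * θ) *ᵥ ee 3)
  have k : β * θ = mat (v, a, b, c) := mat_ext (by rw [← mulVec_mulVec, ← e, e0]) e1.symm e2.symm e3.symm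
  have ht : mat (v, a, b, c) ∈ W := k ▸ mul _ (iso _ hβ) _ hθ
  refine Cn.of_left (W := W) (k ▸ ?_) hβ
  simp only [List.mem_cons, List.not_mem_nil, or_false] at hv
  rcases hv with rfl | rfl | rfl | rfl | rfl | rfl | rfl | rfl | rfl | rfl | rfl | rfl
  exacts [h.norm c0 _ a ha b hb c hc (Nat.lt_succ_self _) ht, h.norm c9 _ a ha b hb c hc (Nat.lt_succ_self _) ht,
    h.norm c12 _ a ha b hb c hc (Nat.lt_succ_self _) ht, h.norm c13 _ a ha b hb c hc (Nat.lt_succ_self _) ht,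
    h.norm c27 _ a ha b hb c hc (Nat.lt_succ_self _) ht, h.norm c36 _ a ha b hb c hc (Nat.lt_succ_self _) ht,
    h.norm c39 _ a ha b hb c hc (Nat.lt_succ_self _) ht, h.norm c40 _ a ha b hb c hc (Nat.lt_succ_self _) ht,
    h.norm c54 _ a ha b hb c hc (Nat.lt_succ_self _) ht, h.norm c63 _ a ha b hb c hc (Nat.lt_succ_self _) ht,
    h.norm c66 _ a ha b hb c hc (Nat.lt_succ_self _) ht, h.norm c67 _ a ha b hb c hc (Nat.lt_succ_self _) ht]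

end Cfsg.Agent.S86
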