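import Cfsg.Agent.S86.FbL
import Cfsg.Agent.S86.ModD
import Cfsg.Agent.H42.SylIn

set_option autoImplicit false

namespace Cfsg.Agent.S86

open Subgroup H49 Matrix F42
open Cfsg.Agent.L72 (O2N)

variable {G : Type*} [Group G] [Finite G] {a : V4 → G} {ψ ψ' : S6 →* G} {ρ : Fin 4 → G} {t : Fin 4 → Fin 4 → G}
  {e E : ℕ → G} {φ : S8 →* G}


namespace HH

omit [Finite G] in
theorem ta (h : OE a ρ t ψ E) : TA a := h.toLZ.toLC.toFS.toTA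

theorem nz (h : OE a ρ t ψ E) : 𝒩(zpowers (ρ 0)) = 𝒞[ρ 0] := norm_zp (h.toLZ.toLC.toFS.r2 0).1

omit [Finite G] in
theorem rC (h : OE a ρ t ψ E) (γ : S6) : ψ γ ∈ 𝒞[ρ 0] := mem_cent1.2 (h.ps.cr γ).symm

theorem QC (h : OE a ρ t ψ E) : O2N (zpowers (ρ 0)) ≤ 𝒞[ρ 0] := nz h ▸ L72.O2N_le _

theorem nQ (h : OE a ρ t ψ E) : 𝒞[ρ 0] ≤ 𝒩(O2N (zpowers (ρ 0))) := nz h ▸ L72.norm_O2N _

theorem row : ∀ x y : V4, (∃ k, x = ee k ∨ x = -ee k) → (∃ k, y = ee k ∨ y = -ee k) → x ⬝ᵥ y = 0 →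
    x 0 + y 0 = 0 → x 0 = 0 ∧ y 0 = 0 := by
  rintro x y ⟨k, rfl | rfl⟩ ⟨l, rfl | rfl⟩ <;> revert k l <;> decide +kernel

theorem span : ∀ u : V4, u = u 0 • ee 0 + u 1 • ee 1 + u 2 • ee 2 + u 3 • ee 3 := by decide +kernel

theorem mono_false {θ : M4} (hs : Sim θ) (hm : Mono θ) (h : ∀ u : V4, u ⬝ᵥ cv = 0 → (θ *ᵥ u) 0 = 0) : False := by
  have h0 := h (ee 0) (by decide +kernel)
  have h1 := h (ee 1) (by decide +kernel)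
  have h2 := h (ee 2 + ee 3) (by decide +kernel)
  rw [mulVec_add, Pi.add_apply] at h2
  obtain ⟨h3, h4⟩ := row _ _ (hm 2) (hm 3) (hs.dot_eq_zero.2 (by decide +kernel)) h2
  obtain ⟨u, hu⟩ := hs.surj (ee 0)
  have := congrFun hu 0
  rw [span u] at this
  simp only [mulVec_add, mulVec_smul, Pi.add_apply, Pi.smul_apply, h0, h1, h3, h4, smul_zero, add_zero] at this
  exact absurd this (by decide +kernel)

/-- the image of the vectors orthogonal to `cv` -/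
def Bc (h : TA a) : Subgroup G where
  carrier := {x | ∃ u : V4, u ⬝ᵥ cv = 0 ∧ x = a u}
  one_mem' := ⟨0, zero_dotProduct _, h.zero.symm⟩
  mul_mem' := by
    rintro _ _ ⟨u, hu, rfl⟩ ⟨v, hv, rfl⟩
    exact ⟨u + v, by rw [add_dotProduct, hu, hv, add_zero], (h.add u v).symm⟩
  inv_mem' := by
    rintro _ ⟨u, hu, rfl⟩
    exact ⟨-u, by rw [neg_dotProduct, hu, neg_zero], (h.neg u).symm⟩

omit [Finite G] in
theorem card_Bc (h : TA a) : Nat.card (Bc h) = 27 := by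
  have e : {u : V4 // u ⬝ᵥ cv = 0} ≃ Bc h := Equiv.ofBijective (fun u => ⟨a u.1, u.1, u.2, rfl⟩)
    ⟨fun u v e => Subtype.ext (h.injective (congrArg Subtype.val e)), fun ⟨_, u, hu, e⟩ => ⟨⟨u, hu⟩, Subtype.ext e.symm⟩⟩
  rw [← Nat.card_congr e, Nat.card_eq_fintype_card]
  decide +kernel

theorem fix {U : Subgroup S6} (hU : IsPGroup 2 U) : ∃ n < 64, n ≠ 0 ∧ ∀ γ ∈ U, act γ n = n := by
  letI : MulAction U (Fin 3 ⊕ Fin 3 → ZMod 2) :=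
    { smul := fun g v => g.1.1 *ᵥ v
      one_smul := one_mulVec
      mul_smul := fun g k v => (mulVec_mulVec v g.1.1 k.1.1).symm }
  obtain ⟨v, hv, h0⟩ := hU.exists_fixed_point_of_prime_dvd_card_of_fixed_point (Fin 3 ⊕ Fin 3 → ZMod 2)
    (by rw [Nat.card_eq_fintype_card]; decide +kernel) (a := 0) fun g => mulVec_zero g.1.1
  refine ⟨enc v, enc_lt v, fun e => h0 ?_, fun γ hγ => ?_⟩
  · rw [← vc_enc v, e]
    decide +kernel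
  · rw [act, vc_enc]
    exact congrArg enc (hv ⟨γ, hγ⟩)

end HH

theorem OE.inf (h : OE a ρ t ψ E) {γ : S6} (hγ : ψ γ ∈ O2N (zpowers (ρ 0))) : γ = 1 := by
  have hN : ((O2N (zpowers (ρ 0))).comap ψ).Normal := ⟨fun x hx g => by
    rw [mem_comap, map_mul, map_mul, map_inv]
    exact conj_mem_of_norm (HH.nQ h) (HH.rC h g) hx⟩
  have := simple_S6
  rcases hN.eq_bot_or_eq_top with e | e
  · exact mem_bot.1 (e ▸ (mem_comap.2 hγ))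
  · have h1 : cm 0 ∈ (O2N (zpowers (ρ 0))).comap ψ := e ▸ mem_top _
    obtain ⟨k, hk⟩ := L72.O2N_isP _ ⟨_, h1⟩
    have h2 : ψ (cm 0) ^ 2 ^ k = 1 := congrArg Subtype.val hk
    rw [h.ps.c, ← orderOf_dvd_iff_pow_eq_one, (HH.ta h).ord (by decide +kernel)] at h2
    exact absurd (Nat.prime_three.dvd_of_dvd_pow h2) (by decide)

theorem OE.syl3 (h : OE a ρ t ψ E) {B : Subgroup G} (hB : IsPGroup 3 B) (hc : B ≤ 𝒞[ρ 0]) :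
    ∃ g, Commute g (ρ 0) ∧ cj g B ≤ ψ.range := by
  have : Fact (Nat.Prime 3) := ⟨Nat.prime_three⟩
  obtain ⟨P, hP, -⟩ := H42.exists_sylIn (p := 3) (H := ψ.range) IsPGroup.of_bot bot_le
  have hR : ψ.range ≤ 𝒞[ρ 0] := by rintro _ ⟨γ, rfl⟩; exact HH.rC h γ
  have pr : IsProd (O2N (zpowers (ρ 0))) ψ.range 𝒞[ρ 0] := ⟨HH.QC h, hR, fun g hg =>
    let ⟨q, hq, γ, e⟩ := h.dec g (mem_cent1.1 hg)
    ⟨q, hq, _, ⟨γ, rfl⟩, e⟩⟩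
  have hP' : H42.SylIn 3 P 𝒞[ρ 0] := ⟨hP.le.trans hR, hP.isP, by
    rw [← relIndex_mul_relIndex P _ _ hP.le hR, ← pr.relIndex_eq]
    refine Nat.prime_three.not_dvd_mul hP.ndvd fun c => ?_
    obtain ⟨k, hk⟩ := (L72.O2N_isP (zpowers (ρ 0))).exists_card_eq
    exact absurd (Nat.prime_three.dvd_of_dvd_pow (hk ▸ c.trans (relIndex_dvd_card _ _))) (by decide)⟩
  obtain ⟨g, hg, e⟩ := hP'.exists_conj hB hc
  exact ⟨g, mem_cent1.1 hg, fun x hx => by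
    obtain ⟨y, hy, rfl⟩ := mem_cj'.1 hx
    exact hP.le (e y hy)⟩

theorem OE.h3 (h : OE a ρ t ψ E) {x : G} (x3 : x ^ 3 = 1) (hc : Commute x (ρ 0)) :
    ∃ g, Commute g (ρ 0) ∧ ∃ u : V4, u 0 = 0 ∧ g * x * g⁻¹ = a u := by
  have hB : IsPGroup 3 (zpowers x) := fun ⟨_, k, rfl⟩ => ⟨1, Subtype.ext (by
    show (x ^ k) ^ 3 ^ 1 = 1
    rw [pow_one, ← _root_.zpow_natCast, ← _root_.zpow_mul, mul_comm, _root_.zpow_mul, _root_.zpow_natCast, x3,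
      _root_.one_zpow])⟩
  obtain ⟨g, hg, e⟩ := h.syl3 hB (zpowers_le.2 (mem_cent1.2 hc))
  obtain ⟨γ, hγ⟩ := e (conj_mem_cj.2 (mem_zpowers x))
  obtain ⟨δ, hδ⟩ := ord3M (γ := γ) (h.ps.ψi (by rw [map_pow, hγ, conj_pow, x3, map_one, mul_one, mul_inv_cancel]))
  obtain ⟨u, u0, hu⟩ := mem_Jm.1 hδ
  refine ⟨ψ δ * g, (h.ps.cr δ).symm.mul_left hg, u, u0, ?_⟩
  rw [← h.ps.pjm (HH.ta h) u0, ← hu, map_mul, map_mul, map_inv, hγ]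
  group

theorem B4.na2 (h : B4 a ψ ρ t E) {n : ℕ} (hn : n < 64) : ¬ IsConj (ρ 0) (E n) := by
  intro hc
  have ta := HH.ta h.oe
  rcases eq_or_ne n 0 with rfl | n0
  · rw [h.oe.E0, isConj_one_left] at hc
    exact (h.fs.r2 0).2 hc
  obtain ⟨γ, rfl⟩ := wit1 hn n0
  have c1 : IsConj (E 1) (E (act γ 1)) := isConj_iff.2 ⟨_, h.oe.cov γ 1 (by decide)⟩
  rw [h.oe.E1] at c1
  obtain ⟨g, hg⟩ := isConj_iff.1 ((h.toFB.ph1.1.symm.trans c1).trans hc.symm)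
  have hB : IsPGroup 3 (HH.Bc ta) := IsPGroup.of_card (n := 3) (HH.card_Bc ta)
  obtain ⟨g', -, e⟩ := h.oe.syl3 (B := cj g (HH.Bc ta)) (isPGroup_cj.2 hB) (by
    rw [← hg, ← cj_cent1, cj_le_cj_iff]
    rintro _ ⟨u, hu, rfl⟩
    exact mem_cent1.2 (h.toFB.toSM.toSt.rfs.1.comm_a hu).symm)
  rw [cj_cj] at e
  have hc' : Nat.card ((cj (g' * g) (HH.Bc ta)).comap ψ) = 27 := by
    rw [← card_map_of_injective h.ps.ψi, map_comap_eq_self e, card_cj, HH.card_Bc]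
  obtain ⟨δ, hδ⟩ := (abM (IsPGroup.of_card (n := 3) hc') fun x hx y hy => h.ps.ψi (by
    obtain ⟨_, ⟨u, -, rfl⟩, e1⟩ := mem_cj'.1 (mem_comap.1 hx)
    obtain ⟨_, ⟨v, -, rfl⟩, e2⟩ := mem_cj'.1 (mem_comap.1 hy)
    rw [map_mul, map_mul, e1, e2, conj_mul, conj_mul, (ta.comm u v).eq])).2 hc'
  have key : ∀ u : V4, u ⬝ᵥ cv = 0 → ∃ v : V4, v 0 = 0 ∧ ψ δ * (g' * g) * a u * (ψ δ * (g' * g))⁻¹ = a v :=
    fun u hu => by
      obtain ⟨β, hβ⟩ := e (conj_mem_cj.2 (show a u ∈ HH.Bc ta from ⟨u, hu, rfl⟩))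
      obtain ⟨v, v0, hv⟩ := mem_Jm.1 (hδ ▸ conj_mem_cj.2 (show β ∈ (cj (g' * g) (HH.Bc ta)).comap ψ by
        rw [mem_comap, hβ]; exact conj_mem_cj.2 ⟨u, hu, rfl⟩))
      refine ⟨v, v0, ?_⟩
      rw [← h.ps.pjm ta v0, ← hv, map_mul, map_mul, map_inv, hβ]
      group
  obtain ⟨m, θ, hm, hθ⟩ := h.toFB.toSM.fusS {u | u ⬝ᵥ cv = 0} (g := ψ δ * (g' * g)) fun u hu =>
    let ⟨v, _, e⟩ := key u hu
    ta.mem_Jg.2 ⟨v, e⟩
  refine HH.mono_false (h.sim m θ hm) (h.mono m θ hm) fun u hu => ?_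
  obtain ⟨v, v0, e⟩ := key u hu
  rw [ta.injective ((hθ u hu).symm.trans e), v0]

theorem B4.big0 (h : B4 a ψ ρ t E) : Big (ρ 0) :=
  (HH.ta h.oe).big (u := ee 1) (v := ee 2) (w := ee 3) (by decide +kernel) ((h.fs.rf 0).comm_a (by decide +kernel))
    ((h.fs.rf 0).comm_a (by decide +kernel)) ((h.fs.rf 0).comm_a (by decide +kernel))

theorem B4.wc (h : B4 a ψ ρ t E) {w : G} (hw : w ∈ Zg a ρ t) (hc : IsConj (ρ 0) w) : w = ρ 0 := by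
  obtain ⟨n, hn, rfl | rfl⟩ := (h.oe.mem w).1 hw
  · exact absurd hc (h.na2 hn)
  · rcases eq_or_ne n 0 with rfl | n0
    · rw [h.oe.E0, one_mul]
    · exact absurd (h.big0.conj hc) (h.oe.big n hn n0).2

theorem B4.syl (h : B4 a ψ ρ t E) : ∃ T : Sylow 2 G, ρ 0 ∈ (T : Subgroup G) ∧
    (T : Subgroup G) ≤ 𝒞[ρ 0] ⊓ 𝒞[E 1 * ρ 0] ∧ 𝒩((T : Subgroup G)) ≤ 𝒞[ρ 0] := by
  obtain ⟨T0, hT0, hQ0⟩ := H42.exists_sylIn (L72.O2N_isP (zpowers (ρ 0))) (HH.QC h.oe)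
  obtain ⟨n, hn, n0, hf⟩ := HH.fix (hT0.isP.comap_of_injective ψ h.ps.ψi)
  obtain ⟨γ, rfl⟩ := wit1 hn n0
  have c0 : T0 ≤ 𝒞[E (act γ 1) * ρ 0] := fun x hx => by
    obtain ⟨q, hq, δ, rfl⟩ := h.oe.dec x (mem_cent1.1 (hT0.le hx))
    refine mul_mem (mem_cent1.2 (h.oe.zc (h.qz hq) _ ((h.oe.mem _).2 ⟨_, hn, .inr rfl⟩)).symm) (mem_cent1.2 ?_)
    have := h.oe.cov δ _ hn
    rw [hf δ ((mul_mem_cancel_left (hQ0 hq)).1 hx), mul_inv_eq_iff_eq_mul] at this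
    rw [← mul_assoc, this, mul_assoc, mul_assoc, (h.ps.cr δ).eq]
  have gC := inv_mem (HH.rC h.oe γ)
  have hT : H42.SylIn 2 (cj (ψ γ)⁻¹ T0) 𝒞[ρ 0] := by
    have := hT0.cj (ψ γ)⁻¹
    rwa [show H42.cj (ψ γ)⁻¹ 𝒞[ρ 0] = 𝒞[ρ 0] from cj_eq_of_mem gC] at this
  have hQ : O2N (zpowers (ρ 0)) ≤ cj (ψ γ)⁻¹ T0 := by
    rw [← cj_eq_of_mem_norm (HH.nQ h.oe gC)]
    exact cj_mono _ hQ0
  have r0 : ρ 0 ∈ Zg a ρ t := (h.oe.mem _).2 ⟨0, by decide, .inr (by rw [h.oe.E0, one_mul])⟩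
  have rT := hQ (h.oe.zq r0)
  have hN : 𝒩(cj (ψ γ)⁻¹ T0) ≤ 𝒞[ρ 0] := fun g hg => by
    have : g * ρ 0 * g⁻¹ = ρ 0 := h.wc (h.qz (h.oe.cz fun z hz => by
      have h1 := mem_cent1.1 (hT.le (conj_mem_of_norm' le_rfl hg (hQ (h.oe.zq hz))))
      calc _ = g * (g⁻¹ * z * g * ρ 0) * g⁻¹ := by group
        _ = _ := by rw [h1]; group)) (isConj_iff.2 ⟨g, rfl⟩)
    exact mem_cent1.2 (mul_inv_eq_iff_eq_mul.1 this)
  obtain ⟨S, hS, hle⟩ := H42.exists_sylIn (H := ⊤) hT.isP le_top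
  have e : cj (ψ γ)⁻¹ T0 = S := by
    by_contra ne
    have lt := H42.lt_inf_normalizer hS.isP (lt_of_le_of_ne hle ne)
    exact lt.ne' (hT.eq_of_le (hS.isP.to_inf_left) (inf_le_right.trans hN) lt.le)
  refine ⟨hT.isP.toSylow (by have := hS.ndvd; rwa [← e, relIndex_top_right] at this), rT, le_inf hT.le ?_, hN⟩
  show cj (ψ γ)⁻¹ T0 ≤ _
  refine (cj_mono _ c0).trans (le_of_eq ?_)
  rw [cj_cent1, ← h.oe.cov γ 1 (by decide)]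
  congr 2
  calc _ = E 1 * ((ψ γ)⁻¹ * (ρ 0 * ψ γ)) := by group
    _ = _ := by rw [(h.ps.cr γ).eq]; group

end Cfsg.Agent.S86
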