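import Cfsg.Agent.S86.Defs

/-! Linear algebra in the four-dimensional orthogonal space over the field with three elements. -/

set_option autoImplicit false

namespace Cfsg.Agent.S86

open Subgroup H49 Matrix F42
open Cfsg.Agent.L72 (O2N)

attribute [local instance 2000] List.decidableBAll List.decidableBEx

namespace Lin

def T2 : List M4 :=
  [!![1, 0, 0, 0; 0, 1, 0, 0; 0, 0, 1, 0; 0, 0, 0, 1],
   !![1, 1, -1, -1; -1, -1, -1, -1; 1, -1, -1, 1; 1, -1, 1, -1],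
   !![1, -1, 1, 1; 1, -1, -1, -1; -1, -1, -1, 1; -1, -1, 1, -1],
   !![1, 0, 0, 0; 0, 0, 0, -1; 0, -1, 0, 0; 0, 0, 1, 0],
   !![1, 1, -1, -1; -1, 1, -1, 1; 1, 1, 1, 1; 1, -1, -1, 1],
   !![1, -1, 1, 1; 1, 1, -1, 1; -1, 1, 1, 1; -1, -1, -1, 1],
   !![1, 0, 0, 0; 0, 0, -1, 0; 0, 0, 0, 1; 0, -1, 0, 0],
   !![1, 1, -1, -1; -1, 1, 1, -1; 1, -1, 1, -1; 1, 1, 1, 1],
   !![1, -1, 1, 1; 1, 1, 1, -1; -1, -1, 1, -1; -1, 1, 1, 1]]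

def T1 : List M4 :=
  [!![1, 0, 0, 0; 0, 0, 1, 0; 0, 0, 0, 1; 0, 1, 0, 0],
   !![1, 0, 0, 0; 0, 0, -1, 0; 0, 0, 0, -1; 0, 1, 0, 0],
   !![1, 0, 0, 0; 0, 0, 1, 0; 0, 0, 0, -1; 0, -1, 0, 0],
   !![1, 0, 0, 0; 0, 0, -1, 0; 0, 0, 0, 1; 0, -1, 0, 0],
   !![1, 0, 0, 0; 0, 0, 0, 1; 0, 1, 0, 0; 0, 0, 1, 0],
   !![1, 0, 0, 0; 0, 0, 0, -1; 0, 1, 0, 0; 0, 0, -1, 0],
   !![1, 0, 0, 0; 0, 0, 0, -1; 0, -1, 0, 0; 0, 0, 1, 0],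
   !![1, 0, 0, 0; 0, 0, 0, 1; 0, -1, 0, 0; 0, 0, -1, 0],
   !![1, 0, 0, 0; 0, 1, 0, 0; 0, 0, 1, 0; 0, 0, 0, 1]]

def L1 : List V4 :=
  [![0, 0, 0, 1], ![0, 0, 0, -1], ![0, 0, 1, 0], ![0, 0, -1, 0], ![0, 1, 0, 0], ![0, -1, 0, 0], ![1, 0, 0, 0],
   ![1, 1, 1, 1], ![1, 1, 1, -1], ![1, 1, -1, 1], ![1, 1, -1, -1], ![1, -1, 1, 1], ![1, -1, 1, -1], ![1, -1, -1, 1],
   ![1, -1, -1, -1], ![-1, 0, 0, 0], ![-1, 1, 1, 1], ![-1, 1, 1, -1], ![-1, 1, -1, 1], ![-1, 1, -1, -1],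
   ![-1, -1, 1, 1], ![-1, -1, 1, -1], ![-1, -1, -1, 1], ![-1, -1, -1, -1]]

def LV : List V4 :=
  [(0 : ZMod 3), 1, -1].flatMap fun a => [(0 : ZMod 3), 1, -1].flatMap fun b =>
    [(0 : ZMod 3), 1, -1].flatMap fun c => [(0 : ZMod 3), 1, -1].map fun d => ![a, b, c, d]

theorem mem_LV (v : V4) : v ∈ LV := qt_all (P := fun v => v ∈ LV) (by decide +kernel) v

theorem mem_L1 (v : V4) : v ⬝ᵥ v = 1 → v ∈ L1 := qt_all (P := fun v => v ⬝ᵥ v = 1 → v ∈ L1) (by decide +kernel) v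

/-- the matrix with given columns -/
def mk (c0 c1 c2 c3 : V4) : M4 := Matrix.of fun i j => ![c0, c1, c2, c3] j i

theorem eq_mk (θ : M4) : θ = mk (θ *ᵥ ee 0) (θ *ᵥ ee 1) (θ *ᵥ ee 2) (θ *ᵥ ee 3) := by
  ext i j
  fin_cases j <;> simp [mk, ee]

def Ok (T : List M4) (θ : M4) : Prop := θ ∈ T ∨ ∃ v ∈ LV, v ≠ 0 ∧ (θ *ᵥ v = -v ∨ θ *ᵥ (θ *ᵥ v) = -v)

def En (z : V4) (T : List M4) : Prop :=
  ∀ c0 ∈ L1, c0 ⬝ᵥ z = ee 0 ⬝ᵥ z → ∀ c1 ∈ L1, c1 ⬝ᵥ z = ee 1 ⬝ᵥ z → c0 ⬝ᵥ c1 = 0 →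
    ∀ c2 ∈ L1, c2 ⬝ᵥ z = ee 2 ⬝ᵥ z → c0 ⬝ᵥ c2 = 0 → c1 ⬝ᵥ c2 = 0 →
      ∀ c3 ∈ L1, c3 ⬝ᵥ z = ee 3 ⬝ᵥ z → c0 ⬝ᵥ c3 = 0 → c1 ⬝ᵥ c3 = 0 → c2 ⬝ᵥ c3 = 0 → Ok T (mk c0 c1 c2 c3)

theorem en1 : En (ee 0) T1 := by unfold En Ok; decide +kernel

theorem en2 : En zv T2 := by unfold En Ok; decide +kernel

theorem mult {θ : M4} (h : Sim θ) {k : ℕ} (h3 : θ ^ 3 ^ k = 1) : θᵀ * θ = 1 := by
  refine h.resolve_right fun e => ?_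
  have k1 : ∀ n : ℕ, (θ ^ n)ᵀ * θ ^ n = (-1) ^ n := fun n => by
    induction n with
    | zero => simp
    | succ n ih =>
      rw [pow_succ θ, transpose_mul, mul_assoc, ← mul_assoc _ (θ ^ n), ih, ← mul_assoc,
        ((Commute.neg_one_right θᵀ).pow_right n).eq, mul_assoc, e, pow_succ]
  have k2 := k1 (3 ^ k)
  rw [h3, Odd.neg_one_pow (Odd.pow (by decide)), transpose_one, one_mul] at k2
  exact absurd k2 (by decide +kernel)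

theorem odd_neg {θ : M4} {k : ℕ} (h3 : θ ^ 3 ^ k = 1) {v : V4} (e : θ *ᵥ v = -v) : v = 0 := by
  have k1 : ∀ n : ℕ, (θ ^ n) *ᵥ v = (-1 : ZMod 3) ^ n • v := fun n => by
    induction n with
    | zero => simp
    | succ n ih => rw [pow_succ θ, ← mulVec_mulVec, e, mulVec_neg, ih, pow_succ, mul_neg_one, neg_smul]
  have k2 := k1 (3 ^ k)
  rw [h3, Odd.neg_one_pow (Odd.pow (by decide)), one_mulVec, neg_one_smul, ← bas_two] at k2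
  exact left_eq_add.1 k2

theorem En.mem {z : V4} {T : List M4} (hT : En z T) {θ : M4} (h : Sim θ) (hz : θ *ᵥ z = z) {k : ℕ}
    (h3 : θ ^ 3 ^ k = 1) : θ ∈ T := by
  have i := mult h h3
  have d : ∀ i j, (θ *ᵥ ee i) ⬝ᵥ (θ *ᵥ ee j) = if i = j then 1 else 0 := fun a b => (iso_dot i _ _).trans (wey_ee a b)
  have z' : ∀ i, (θ *ᵥ ee i) ⬝ᵥ z = ee i ⬝ᵥ z := fun a => by rw [← iso_dot i (ee a) z, hz]
  have := hT _ (mem_L1 _ (d 0 0)) (z' 0) _ (mem_L1 _ (d 1 1)) (z' 1) (d 0 1) _ (mem_L1 _ (d 2 2)) (z' 2) (d 0 2)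
    (d 1 2) _ (mem_L1 _ (d 3 3)) (z' 3) (d 0 3) (d 1 3) (d 2 3)
  rw [← eq_mk] at this
  rcases this with k1 | ⟨v, -, v0, k1 | k1⟩
  · exact k1
  · exact absurd (odd_neg h3 k1) v0
  · refine absurd (odd_neg (θ := θ * θ) (k := k) ?_ (by rwa [← mulVec_mulVec])) v0
    rw [(Commute.refl θ).mul_pow, h3, one_mul]

def Fx (T : List M4) : Prop :=
  T.length ≤ 9 ∧ ∀ θ ∈ T, θ ≠ 1 → (LV.filter fun v => θ *ᵥ v = v).length ≤ 9 ∧ ∀ η ∈ T, θ * η = η * θ →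
    η ∈ [1, θ, θ * θ] ∨ (LV.filter fun v => θ *ᵥ v = v ∧ η *ᵥ v = v).length ≤ 3

theorem fx1 : Fx T1 := by unfold Fx; decide +kernel

theorem fx2 : Fx T2 := by unfold Fx; decide +kernel

theorem nc_le {α : Type*} {S : Set α} {l : List α} (h : ∀ x ∈ S, x ∈ l) : S.ncard ≤ l.length := by
  classical
  refine le_trans (Set.ncard_le_ncard (t := ↑l.toFinset) (fun x hx => by simpa using h x hx)) ?_
  rw [Set.ncard_coe_finset]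
  exact l.toFinset_card_le

theorem core {T : List M4} (hT : Fx T) {Θ : Set M4} (hs : ∀ θ ∈ Θ, θ ∈ T) (hc : ∀ θ ∈ Θ, ∀ η ∈ Θ, θ * η = η * θ)
    (hne : ∃ θ ∈ Θ, θ ≠ 1) {S : Set V4} (hS : ∀ θ ∈ Θ, ∀ u ∈ S, θ *ᵥ u = u) : Θ.ncard * S.ncard ≤ 27 := by
  obtain ⟨θ, hθ, n1⟩ := hne
  obtain ⟨a, b⟩ := hT.2 θ (hs θ hθ) n1
  by_cases k : ∀ η ∈ Θ, η ∈ [1, θ, θ * θ]
  · exact Nat.mul_le_mul (nc_le k) ((nc_le fun u hu =>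
      List.mem_filter.2 ⟨mem_LV u, decide_eq_true (hS θ hθ u hu)⟩).trans a)
  · push Not at k
    obtain ⟨η, hη, k⟩ := k
    exact Nat.mul_le_mul ((nc_le hs).trans hT.1) ((nc_le fun u hu =>
      List.mem_filter.2 ⟨mem_LV u, decide_eq_true ⟨hS θ hθ u hu, hS η hη u hu⟩⟩).trans
        ((b η (hs η hη) (hc θ hθ η hη)).resolve_left k))

theorem core2 {z : V4} {T : List M4} (hE : En z T) (hT : Fx T) {σ : M4} (hσ : Sim σ) {Θ : Set M4}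
    (hs : ∀ θ ∈ Θ, Sim θ ∧ ∃ k : ℕ, θ ^ 3 ^ k = 1) (hc : ∀ θ ∈ Θ, ∀ η ∈ Θ, θ * η = η * θ)
    (hne : ∃ θ ∈ Θ, θ ≠ 1) {S : Set V4} (h1 : σ *ᵥ z ∈ S) (hS : ∀ θ ∈ Θ, ∀ u ∈ S, θ *ᵥ u = u) :
    Θ.ncard * S.ncard ≤ 27 := by
  obtain ⟨τ, hτ, e1, e2, -⟩ := hσ.inv
  have m : ∀ θ η : M4, τ * θ * σ * (τ * η * σ) = τ * (θ * η) * σ := fun θ η => by
    simp only [mul_assoc]; rw [← mul_assoc σ, e1, one_mul]
  have b : ∀ θ : M4, σ * (τ * θ * σ) * τ = θ := fun θ => by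
    simp only [mul_assoc]; rw [e1, mul_one, ← mul_assoc, e1, one_mul]
  have p : ∀ (θ : M4) (n : ℕ), (τ * θ * σ) ^ n = τ * θ ^ n * σ := fun θ n => by
    induction n with
    | zero => rw [pow_zero, pow_zero, mul_one, e2]
    | succ n ih => rw [pow_succ, ih, m, pow_succ]
  have i1 : Function.Injective fun θ : M4 => τ * θ * σ := fun x y e => by
    rw [← b x, ← b y]; exact congrArg (fun w => σ * w * τ) e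
  have i2 : Function.Injective fun u : V4 => τ *ᵥ u := fun x y e =>
    sub_eq_zero.1 (hτ.eq_zero.1 (by rw [mulVec_sub]; exact sub_eq_zero.2 e))
  rw [← Set.ncard_image_of_injective Θ i1, ← Set.ncard_image_of_injective S i2]
  refine core hT ?_ ?_ ?_ ?_
  · rintro _ ⟨θ, hθ, rfl⟩
    obtain ⟨s, k, e⟩ := hs θ hθ
    refine hE.mem ((hτ.mul s).mul hσ) ?_ (k := k) (by rw [p, e, mul_one, e2])
    rw [← mulVec_mulVec, ← mulVec_mulVec, hS θ hθ _ h1, mulVec_mulVec, e2, one_mulVec]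
  · rintro _ ⟨θ, hθ, rfl⟩ _ ⟨η, hη, rfl⟩
    simp only [m, hc θ hθ η hη]
  · obtain ⟨θ, hθ, n1⟩ := hne
    exact ⟨_, ⟨θ, hθ, rfl⟩, fun e => n1 (i1 (e.trans (by simp only [mul_one, e2])))⟩
  · rintro _ ⟨θ, hθ, rfl⟩ _ ⟨u, hu, rfl⟩
    simp only
    rw [mulVec_mulVec, mul_assoc, e1, mul_one, ← mulVec_mulVec, hS θ hθ u hu]

/-- the linear map with matrix `a b c d` -/
def g2 (a b c d : ZMod 3) (x : ZMod 3 × ZMod 3) : ZMod 3 × ZMod 3 := (x.1 * a + x.2 * b, x.1 * c + x.2 * d)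

theorem g2_8 : ∀ p q ε a b c d : ZMod 3, p ≠ 0 → q ≠ 0 → ε ≠ 0 → a * a * p + c * c * q = ε * p →
    a * b * p + c * d * q = 0 → b * b * p + d * d * q = ε * q →
    (g2 a b c d)^[8] (1, 0) = (1, 0) ∧ (g2 a b c d)^[8] (0, 1) = (0, 1) := by decide +kernel

end Lin

open Lin

theorem lin3 {θ : M4} (h : Sim θ) (hz : θ *ᵥ zv = zv) {k : ℕ} (h3 : θ ^ 3 ^ k = 1) : ∃ i j : ℕ,
    θ = !![1, 0, 0, 0; 0, 0, 0, -1; 0, -1, 0, 0; 0, 0, 1, 0] ^ i *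
      (sf * !![1, 0, 0, 0; 0, 0, 0, -1; 0, -1, 0, 0; 0, 0, 1, 0] * (-sfᵀ)) ^ j := by
  have e : sf * !![1, 0, 0, 0; 0, 0, 0, -1; 0, -1, 0, 0; 0, 0, 1, 0] * (-sfᵀ) =
      !![1, 1, -1, -1; -1, -1, -1, -1; 1, -1, -1, 1; 1, -1, 1, -1] := by decide +kernel
  have k1 : ∀ θ ∈ T2, ∃ i j : Fin 3, θ = !![1, 0, 0, 0; 0, 0, 0, -1; 0, -1, 0, 0; 0, 0, 1, 0] ^ i.val *
      !![1, 1, -1, -1; -1, -1, -1, -1; 1, -1, -1, 1; 1, -1, 1, -1] ^ j.val := by decide +kernel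
  obtain ⟨i, j, k2⟩ := k1 θ (en2.mem h hz h3)
  exact ⟨i, j, e ▸ k2⟩

theorem lin_fix {Θ : Set M4} (hs : ∀ θ ∈ Θ, Sim θ ∧ ∃ k : ℕ, θ ^ 3 ^ k = 1) (hc : ∀ θ ∈ Θ, ∀ η ∈ Θ, θ * η = η * θ)
    (hne : ∃ θ ∈ Θ, θ ≠ 1) {S : Set V4} (h1 : ∃ u ∈ S, u ≠ 0) (hS : ∀ θ ∈ Θ, ∀ u ∈ S, θ *ᵥ u = u) :
    Θ.ncard * S.ncard ≤ 27 := by
  obtain ⟨u, hu, u0⟩ := h1
  by_cases k : u ⬝ᵥ u = 0
  · obtain ⟨σ, hσ, e⟩ := exists_iso (v := zv) (by decide +kernel) u0 (k.symm ▸ by decide +kernel)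
    exact core2 en2 fx2 (Or.inl hσ) hs hc hne (e ▸ hu) hS
  · obtain ⟨σ, hσ, e⟩ := exists_sim k
    exact core2 en1 fx1 hσ hs hc hne (e ▸ hu) hS

theorem lin_pair {θ : M4} (h : Sim θ) {u v : V4} (hu : u ⬝ᵥ u ≠ 0) (hv : v ⬝ᵥ v ≠ 0) (huv : u ⬝ᵥ v = 0)
    {f : ZMod 3 × ZMod 3 → ZMod 3 × ZMod 3} (hf : ∀ x : ZMod 3 × ZMod 3, θ *ᵥ (x.1 • u + x.2 • v) = (f x).1 • u + (f x).2 • v)
    {k : ℕ} (h3 : f^[3 ^ k] = id) : θ *ᵥ u = u ∧ θ *ᵥ v = v := by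
  have hvu : v ⬝ᵥ u = 0 := dotProduct_comm u v ▸ huv
  have e1 : θ *ᵥ u = (f (1, 0)).1 • u + (f (1, 0)).2 • v := by simpa using hf (1, 0)
  have e2 : θ *ᵥ v = (f (0, 1)).1 • u + (f (0, 1)).2 • v := by simpa using hf (0, 1)
  have d : ∀ a b c d : ZMod 3, (a • u + b • v) ⬝ᵥ (c • u + d • v) = a * c * (u ⬝ᵥ u) + b * d * (v ⬝ᵥ v) := by
    intro a b c d
    simp only [add_dotProduct, dotProduct_add, smul_dotProduct, dotProduct_smul, huv, hvu, smul_eq_mul]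
    ring
  have e3 : f = g2 (f (1, 0)).1 (f (0, 1)).1 (f (1, 0)).2 (f (0, 1)).2 := by
    funext x
    have k1 : (f x).1 • u + (f x).2 • v = (x.1 * (f (1, 0)).1 + x.2 * (f (0, 1)).1) • u +
        (x.1 * (f (1, 0)).2 + x.2 * (f (0, 1)).2) • v := by
      rw [← hf, mulVec_add, mulVec_smul, mulVec_smul, e1, e2]
      module
    have k2 := congrArg (· ⬝ᵥ ((1 : ZMod 3) • u + (0 : ZMod 3) • v)) k1
    have k3 := congrArg (· ⬝ᵥ ((0 : ZMod 3) • u + (1 : ZMod 3) • v)) k1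
    simp only [d, mul_one, mul_zero, zero_mul, add_zero, zero_add] at k2 k3
    have : Fact (Nat.Prime 3) := ⟨Nat.prime_three⟩
    exact Prod.ext (mul_right_cancel₀ hu k2) (mul_right_cancel₀ hv k3)
  obtain ⟨ε, hε, -, hd⟩ := h.dot
  have k1 := g2_8 (u ⬝ᵥ u) (v ⬝ᵥ v) ε (f (1, 0)).1 (f (0, 1)).1 (f (1, 0)).2 (f (0, 1)).2 hu hv
    (by rcases hε with rfl | rfl <;> decide) (by rw [← d, ← e1, hd]) (by rw [← d, ← e1, ← e2, hd, huv, mul_zero])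
    (by rw [← d, ← e2, hd])
  rw [← e3] at k1
  have c : ∀ x, f^[8] x = x → f x = x := fun x hx => by
    have := Function.IsPeriodicPt.gcd (f := f) (x := x) hx (congrFun h3 x)
    rwa [Nat.Coprime.pow_right k (show Nat.Coprime 8 3 by decide)] at this
  rw [c _ k1.1] at e1
  rw [c _ k1.2] at e2
  exact ⟨by simpa using e1, by simpa using e2⟩

theorem lin_n1 {W : Set M4} (mul : ∀ θ ∈ W, ∀ η ∈ W, θ * η ∈ W) (iso : ∀ β, Iso0 β → β ∈ W) (h1 : p01 ∈ W)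
    (h2 : hF ∈ W) {v : V4} : (v ⬝ᵥ v = 1 → (∃ θ ∈ W, θ *ᵥ ee 0 = v) ∧ ∃ θ ∈ W, θ *ᵥ ee 1 = v) ∧
      (v ⬝ᵥ v = -1 → ∃ θ ∈ W, θ *ᵥ cv = v) := by
  have st : ∀ {x y z : V4} {η : M4}, η ∈ W → η *ᵥ y = z → (∃ θ ∈ W, θ *ᵥ x = y) → ∃ θ ∈ W, θ *ᵥ x = z := by
    rintro x y z η hη rfl ⟨θ, hθ, rfl⟩
    exact ⟨η * θ, mul _ hη _ hθ, (mulVec_mulVec _ _ _).symm⟩
  have o : ∀ x : V4, ∃ θ ∈ W, θ *ᵥ x = x := fun x => ⟨1, iso 1 ⟨by simp, by simp⟩, one_mulVec x⟩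
  have b1 : !![1, 0, 0, 0; 0, -1, 0, 0; 0, 0, 1, 0; 0, 0, 0, 1] ∈ W := iso _ ⟨by decide +kernel, by decide +kernel⟩
  have b2 : !![1, 0, 0, 0; 0, 0, 0, -1; 0, 0, 1, 0; 0, 1, 0, 0] ∈ W := iso _ ⟨by decide +kernel, by decide +kernel⟩
  have n := mul _ (mul _ h1 _ b1) _ h1
  refine ⟨fun hv => ?_, fun hv => ?_⟩
  · obtain ⟨β, hβ, k⟩ : ∃ β, Iso0 β ∧ ∃ x ∈ [ee 0, -ee 0, ee 1, ![1, 1, 1, 1], ![-1, 1, 1, 1]], β *ᵥ x = v := by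
      refine qtL_ex ?_
      have := mem_L1 v hv
      clear hv
      revert v
      decide +kernel
    have k0 : ∃ θ ∈ W, θ *ᵥ ee 0 = v := by
      obtain ⟨x, hx, e⟩ := k
      refine st (iso β hβ) e ?_
      simp only [List.mem_cons, List.not_mem_nil, or_false] at hx
      rcases hx with rfl | rfl | rfl | rfl | rfl
      · exact o _
      · exact ⟨_, n, by decide +kernel⟩
      · exact ⟨_, h1, by decide +kernel⟩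
      · exact ⟨_, h2, by decide +kernel⟩
      · exact ⟨_, mul _ n _ h2, by decide +kernel⟩
    obtain ⟨θ, hθ, e⟩ := k0
    exact ⟨⟨θ, hθ, e⟩, st hθ e ⟨_, h1, by decide +kernel⟩⟩
  · obtain ⟨β, hβ, x, hx, e⟩ : ∃ β, Iso0 β ∧ ∃ x ∈ [cv, ![1, 0, 1, 0], ![-1, 0, 1, 0]], β *ᵥ x = v := by
      refine qtL_ex ?_
      have := mem_LV v
      revert v
      decide +kernel
    refine st (iso β hβ) e ?_
    simp only [List.mem_cons, List.not_mem_nil, or_false] at hx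
    rcases hx with rfl | rfl | rfl
    · exact o _
    · exact ⟨_, mul _ h1 _ b2, by decide +kernel⟩
    · exact ⟨_, mul _ n _ (mul _ h1 _ b2), by decide +kernel⟩

theorem lin_hyp2 : ∀ l : V4, ∃ v : V4, v ⬝ᵥ v = 1 ∧ v ⬝ᵥ l = 0 ∧ v ⬝ᵥ cv = 0 := fun l =>
  have k : ∀ l ∈ LV, ∃ v ∈ L1, v ⬝ᵥ v = 1 ∧ v ⬝ᵥ l = 0 ∧ v ⬝ᵥ cv = 0 := by decide +kernel
  let ⟨v, _, h⟩ := k l (mem_LV l)
  ⟨v, h⟩

theorem lin_hyp : ∀ l : V4, ∃ v : V4, v ⬝ᵥ v = 1 ∧ v ⬝ᵥ l = 0 := fun l =>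
  let ⟨v, h1, h2, _⟩ := lin_hyp2 l
  ⟨v, h1, h2⟩

theorem lin_mono {θ : M4} (h : Sim θ) (hm : Mono θ) (h1 : θ *ᵥ zv = zv) (h2 : θ *ᵥ cv = cv) (u : V4) :
    ∃ s : ZMod 3, θ *ᵥ u = u + s • ee 0 := by
  have m : ∀ i, θ *ᵥ ee i ∈ [ee 0, ee 1, ee 2, ee 3, -ee 0, -ee 1, -ee 2, -ee 3] := fun i => by
    obtain ⟨k, e | e⟩ := hm i <;> rw [e] <;> fin_cases k <;> simp
  have k : ∀ c2 ∈ [ee 0, ee 1, ee 2, ee 3, -ee 0, -ee 1, -ee 2, -ee 3],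
      ∀ c3 ∈ [ee 0, ee 1, ee 2, ee 3, -ee 0, -ee 1, -ee 2, -ee 3], c2 - c3 = cv →
      ∀ c1 ∈ [ee 0, ee 1, ee 2, ee 3, -ee 0, -ee 1, -ee 2, -ee 3], c1 - c2 - c3 = zv →
      ∀ c0 ∈ [ee 0, ee 1, ee 2, ee 3, -ee 0, -ee 1, -ee 2, -ee 3], c0 ⬝ᵥ c1 = 0 → c0 ⬝ᵥ c2 = 0 → c0 ⬝ᵥ c3 = 0 →
      ∀ u ∈ LV, ∃ s : ZMod 3, mk c0 c1 c2 c3 *ᵥ u = u + s • ee 0 := by decide +kernel
  have := k _ (m 2) _ (m 3) (by rw [← mulVec_sub, show ee 2 - ee 3 = cv by decide +kernel, h2]) _ (m 1)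
    (by rw [← mulVec_sub, ← mulVec_sub, show ee 1 - ee 2 - ee 3 = zv by decide +kernel, h1]) _ (m 0)
    (h.dot_eq_zero.2 (wey_ee 0 1)) (h.dot_eq_zero.2 (wey_ee 0 2)) (h.dot_eq_zero.2 (wey_ee 0 3)) u (mem_LV u)
  rwa [← eq_mk] at this

end Cfsg.Agent.S86
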