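import Cfsg.Agent.S86.ModL
import Cfsg.Agent.H46.Generation

set_option autoImplicit false

namespace Cfsg.Agent.S86

open Subgroup H49 Matrix F42
open Cfsg.Agent.L72 (O2N)

namespace MAx

open F42.SpF F42.SpS ML

/-- the codes of `cm i` -/
def kc : Fin 3 → ℕ := ![34630549640, 34663842817, 38925369473]

/-- the codes of `xm i` -/
def kx : Fin 3 → ℕ := ![34630549633, 34663841921, 38925254785]

theorem k_c (i : Fin 3) : cd (cm i) = kc i := by
  simp only [cm, xm, ym, cd_mm, cd_tv]; revert i; decide +kernel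

theorem k_x (i : Fin 3) : cd (xm i) = kx i := by
  simp only [xm, cd_tv]; revert i; decide +kernel

theorem k_sw : cd sw = 17718845697 := by rw [cd_sw]; decide +kernel
theorem k_s : cd (Em 3 24) = 34498166850 := by rw [wd_em, cd_wd]; decide +kernel
theorem k_q : cd q3 = 9131004162 := by rw [q3, cd_mm, k_s, k_sw]; decide +kernel
theorem k_sw1 : cd sw1 = 19933438209 := by rw [sw1, cd_mm, cd_mm, k_sw, k_x, k_x]; decide +kernel
theorem k_cc : cd cc = 4599202817 := by rw [cc, cd_mm, cd_inv, k_c, k_c]; decide +kernel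
theorem k_bm : cd bm = 10205270274 := by rw [bm, u1, cd_mm, cd_mm, cd_inv, k_cc, cd_wd]; decide +kernel

/-- small powers -/
def p3 (m : ℕ) (a : ZMod 3) : ℕ := if a = 0 then c1 else if a = 1 then m else s2 m

theorem cd_p3 (g : S6) (a : ZMod 3) : cd (g ^ a.val) = p3 (cd g) a := by
  rcases bas_cases a with rfl | rfl | rfl
  · rw [ZMod.val_zero, pow_zero, cd_one, p3, if_pos rfl]
  · rw [show (1 : ZMod 3).val = 1 from rfl, pow_one, p3, if_neg (by decide), if_pos rfl]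
  · rw [show (-1 : ZMod 3).val = 2 from rfl, pow_two, cd_sq, p3, if_neg (by decide), if_neg (by decide)]

/-- the code of `jm u` -/
def jc (u : V4) : ℕ := mm (mm (p3 (kc 0) (u 1)) (p3 (kc 1) (u 2))) (p3 (kc 2) (u 3))

theorem cd_jm (u : V4) : cd (jm u) = jc u := by rw [jm, cd_mm, cd_mm, cd_p3, cd_p3, cd_p3, k_c, k_c, k_c, jc]

def LJ : List ℕ := [4328932489, 4331029640, 4597367817, 38688654473, 4330767489, 4599464968, 38690751624,
  4563812489, 38957089801, 34393572489, 4599202817, 38690489473, 4565909640, 38959186952, 34395669640, 38923534473,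
  34662007817, 4565647489, 38958924801, 34395407489, 38925631624, 34664104968, 34628452489, 38925369473, 34663842817,
  34630549640, 34630287489]

def LS : List ℕ := [2165383780, 2299601444, 19345244772, 2173772384, 1141414162, 2282823780, 19479462436,
  2307990048, 9731344658, 17197703780, 19353633376, 1145608464, 2172723780, 1678284818, 4328932489, 19462684772,
  2291212384, 8657574162, 17331921444, 19487851040, 9735538960, 2306941444, 10268215314, 4331029640, 17206092384,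
  1145084162, 19352584772, 1682479120, 4597367817, 1611174162, 38688654473, 17315143780, 19471073376, 8661768464,
  2290163780, 9194444818, 4330767489, 17340310048, 9735014658, 19486802436, 10272409616, 4599464968, 10201104658,
  38690751624, 17205043780, 1681954818, 4563812489, 1615368464, 38957089801, 34393572489, 17323532384, 8661244162,
  19470024772, 9198639120, 4599202817, 9127334162, 38690489473, 17339261444, 10271885314, 4565909640, 10205298960,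
  38959186952, 34395669640, 1614844162, 38923534473, 34662007817, 17322483780, 9198114818, 4565647489, 9131528464,
  38958924801, 34395407489, 10204774658, 38925631624, 34664104968, 34628452489, 9131004162, 38925369473, 34663842817,
  34630549640, 34630287489]

def LN : List ℕ := [38959071361, 38958809217, 19933700353, 38810435650, 19933438209, 38793658434, 19487793220,
  38809911362, 10272379138, 19471016004, 38793134146, 9198637314, 19486744644, 9975107716, 38925516929, 10271854850,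
  19469967428, 8901365892, 38925254785, 9198113026, 19866591489, 9974059140, 17786216705, 9941553284, 19866329345,
  8900317316, 17785954561, 8867811460, 34664104065, 10205270274, 9940504708, 17340309572, 34663841921, 9131528450,
  8866762884, 17323532356, 10204745986, 34515468354, 17339260996, 9131004162, 34498691138, 17322483780, 34514944066,
  17719107841, 34498166850, 17718845697, 34630549633, 34630287489]

theorem cJ : chk [kc 0, kc 1, kc 2] LJ = true := by decide +kernel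

theorem gJ : [cm 0, cm 1, cm 2].map cd = [kc 0, kc 1, kc 2] := by simp only [List.map, k_c]

theorem mJ {g : S6} : g ∈ Jm ↔ cd g ∈ LJ := by
  rw [Jm, show ({cm 0, cm 1, cm 2} : Set S6) = {x | x ∈ [cm 0, cm 1, cm 2]} by ext; simp]
  exact mem_clos gJ cJ

theorem cS : chk [kc 0, kc 1, kc 2, 9131004162] LS = true := by decide +kernel

theorem gS : [cm 0, cm 1, cm 2, q3].map cd = [kc 0, kc 1, kc 2, 9131004162] := by simp only [List.map, k_c, k_q]

theorem mS {g : S6} : g ∈ Jm ⊔ zpowers q3 ↔ cd g ∈ LS := by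
  rw [Jm, zpowers_eq_closure, ← Subgroup.closure_union,
    show ({cm 0, cm 1, cm 2} ∪ {q3} : Set S6) = {x | x ∈ [cm 0, cm 1, cm 2, q3]} by
      ext; simp only [Set.mem_union, Set.mem_insert_iff, Set.mem_singleton_iff, Set.mem_ofPred_eq, List.mem_cons,
        List.not_mem_nil, or_false, or_assoc]]
  exact mem_clos gS cS

theorem xN : ∀ m ∈ LN, ∃ g : S6, cd g = m :=
  ex_clos (S := [xm 0, sw, Em 3 24]) (C := [kx 0, 17718845697, 34498166850]) (by simp only [List.map, k_x, k_sw, k_s])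
    (by decide +kernel)

theorem card_S : Nat.card ↥(Jm ⊔ zpowers q3) = 81 := card_eq (L := LS) (fun _ => mS) (ex_clos gS cS) (by decide +kernel)

theorem exS : ∃ S : Sylow 3 S6, (S : Subgroup S6) = Jm ⊔ zpowers q3 := by
  have h := (Jm ⊔ zpowers q3).index_mul_card
  rw [card_S, card_S6] at h
  exact ⟨(IsPGroup.of_card (n := 4) card_S).toSylow (by omega), rfl⟩

theorem abS {B : Subgroup S6} (h : B ≤ Jm ⊔ zpowers q3) (hc : B ≤ 𝒞(B)) : B ≤ Jm ∨ Nat.card B ≤ 9 := by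
  have k : ∀ m ∈ LS, m ∉ LJ → (LS.filter fun n => mm m n == mm n m).length ≤ 9 := by decide +kernel
  refine or_iff_not_imp_left.2 fun hn => ?_
  obtain ⟨x, hx, h1⟩ := SetLike.not_le_iff_exists.1 hn
  rw [mJ] at h1
  refine le_trans (card_le fun g hg => List.mem_filter.2 ⟨mS.1 (h hg), ?_⟩) (k _ (mS.1 (h hx)) h1)
  rw [beq_iff_eq, ← cd_mm, ← cd_mm, hc hg x hx]

theorem cube (i : Fin 3) : cm i ^ 3 = 1 := by
  rw [pow_three, cd_eq_iff, cd_mm, cd_sq, cd_one, k_c]; revert i; decide +kernel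

theorem ccm (i j : Fin 3) : Commute (cm i) (cm j) := by
  rw [comm_mm, k_c, k_c]; revert i j; decide +kernel

theorem pv (i : Fin 3) (a b : ZMod 3) : cm i ^ (a + b).val = cm i ^ a.val * cm i ^ b.val := by
  rw [ZMod.val_add, ← pow_eq_pow_mod _ (cube i), pow_add]

end MAx

open F42.SpF F42.SpS ML MAx

theorem mem_Jm {γ : S6} : γ ∈ Jm ↔ ∃ u : V4, u 0 = 0 ∧ γ = jm u := by
  have k : ∀ m ∈ LJ, ∃ a b c : ZMod 3, m = jc ![0, a, b, c] := by decide +kernel
  refine ⟨fun h => ?_, ?_⟩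
  · obtain ⟨a, b, c, e⟩ := k _ (mJ.1 h)
    exact ⟨![0, a, b, c], rfl, cd_inj (by rwa [cd_jm])⟩
  · rintro ⟨u, -, rfl⟩
    exact mul_mem (mul_mem (pow_mem (subset_closure (by simp)) _) (pow_mem (subset_closure (by simp)) _))
      (pow_mem (subset_closure (by simp)) _)

theorem jm_add (u v : V4) : jm (u + v) = jm u * jm v := by
  have c : ∀ i j (a b : ℕ), Commute (cm i ^ a) (cm j ^ b) := fun i j a b => (ccm i j).pow_pow a b
  simp only [jm, Pi.add_apply, pv]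
  rw [Commute.mul_mul_mul_comm (c 0 1 _ _), Commute.mul_mul_mul_comm ((c 0 2 _ _).mul_left (c 1 2 _ _))]

theorem jm_ee (i : Fin 3) : jm (ee i.succ) = cm i :=
  cd_inj (by rw [cd_jm, k_c]; revert i; decide +kernel)

theorem jm_inj {u : V4} (u0 : u 0 = 0) (h : jm u = 1) : u = 0 := by
  rw [cd_eq_iff, cd_jm, cd_one] at h
  exact qt_all0 (P := fun u => jc u = c1 → u = 0) (by decide +kernel) u u0 h

theorem card_Jm : Nat.card Jm = 27 := card_eq (L := LJ) (fun _ => mJ) (ex_clos gJ cJ) (by decide +kernel)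

theorem cenM {γ : S6} (h : ∀ i, Commute γ (cm i)) : γ ∈ Jm :=
  mJ.2 (cen_sound (H := [[1, 8], [2, 16], [4, 32]]) (P := fun m => m ∈ LJ) (by decide +kernel) (by
    simp only [List.mem_cons, List.not_mem_nil, or_false, forall_eq_or_imp, forall_eq]
    exact ⟨cm0 ▸ h 0, cm1 ▸ h 1, cm2 ▸ h 2⟩))

namespace MAx

theorem jm_mem (u : V4) : jm u ∈ Jm :=
  mul_mem (mul_mem (pow_mem (subset_closure (by simp)) _) (pow_mem (subset_closure (by simp)) _))
    (pow_mem (subset_closure (by simp)) _)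

theorem jm_zero : jm 0 = 1 := by simp [jm]

theorem jm_smul (c : ZMod 3) (u : V4) : jm (c • u) = jm u ^ c.val := by
  rcases bas_cases c with rfl | rfl | rfl
  · rw [zero_smul, jm_zero]; rfl
  · rw [one_smul]; exact (pow_one _).symm
  · rw [neg_one_smul, ← bas_two, jm_add]; exact (pow_two _).symm

theorem jm_comm (u v : V4) : Commute (jm u) (jm v) := by
  rw [Commute, SemiconjBy, ← jm_add, ← jm_add, add_comm]

theorem Jm_ab : Jm ≤ 𝒞(Jm) := fun x hx y hy => by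
  obtain ⟨u, -, rfl⟩ := mem_Jm.1 hx
  obtain ⟨v, -, rfl⟩ := mem_Jm.1 hy
  exact jm_comm v u

theorem of_cols {γ : S6} {β : M4} (h : ∀ i : Fin 3, γ * cm i * γ⁻¹ = jm (β *ᵥ ee i.succ)) (u : V4) (u0 : u 0 = 0) :
    γ * jm u * γ⁻¹ = jm (β *ᵥ u) := by
  have e : u = u 1 • ee (0 : Fin 3).succ + u 2 • ee (1 : Fin 3).succ + u 3 • ee (2 : Fin 3).succ :=
    qt_all0 (P := fun u => u = u 1 • ee (0 : Fin 3).succ + u 2 • ee (1 : Fin 3).succ + u 3 • ee (2 : Fin 3).succ)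
      (by decide +kernel) u u0
  conv_rhs => rw [e]
  rw [mulVec_add, mulVec_add, mulVec_smul, mulVec_smul, mulVec_smul, jm_add, jm_add, jm_smul, jm_smul, jm_smul,
    ← h, ← h, ← h, conj_pow, conj_pow, conj_pow, conj_mul, conj_mul, jm]

theorem norm_of {γ : S6} (h : ∀ i, γ * cm i * γ⁻¹ ∈ Jm) : γ ∈ 𝒩(Jm) :=
  mem_norm_of_cj_le (by
    rw [cj, Jm, MonoidHom.map_closure, closure_le]
    rintro _ ⟨x, rfl | rfl | rfl, rfl⟩
    exacts [h 0, h 1, h 2])

theorem cc_norm {γ : S6} (h : Commute γ cc) : γ ∈ 𝒩(Jm) := by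
  have e : cc = wd [2, 16, 32, 4] := by rw [cc, cm1, cm2, wd_inv, wd_mul]; rfl
  have := cen_sound (H := [[2, 16, 32, 4]])
    (P := fun m => force (iv m) (fun n => [0, 1, 2].all fun i => force (mm (mm m (kc i)) n) LJ.contains) = true)
    (by decide +kernel) (g := γ) (by simpa only [List.mem_singleton, forall_eq, ← e] using h)
  simp only [force_eq, List.all_eq_true, List.contains_iff_mem] at this
  refine norm_of fun i => ?_
  rw [mJ, cd_mm, cd_mm, cd_inv, k_c]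
  exact this i (by revert i; decide)

theorem w2_norm {v : V4} (v0 : v 0 = 0) (hv : v ⬝ᵥ v = -1) {γ : S6} (h : Commute γ (jm v)) : γ ∈ 𝒩(Jm) := by
  have k1 : ∀ m ∈ LN, ∀ i, mm (mm m (kc i)) (iv m) ∈ LJ := by decide +kernel
  obtain ⟨m, hm, e⟩ := qt_all0 (P := fun v => v ⬝ᵥ v = -1 → ∃ m ∈ LN, mm m (jc v) = mm 4599202817 m)
    (by decide +kernel) v v0 hv
  obtain ⟨g, rfl⟩ := xN m hm
  have e' : g * jm v = cc * g := cd_inj (by rwa [cd_mm, cd_mm, cd_jm, k_cc])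
  have hg : g ∈ 𝒩(Jm) := norm_of fun i => by
    rw [mJ, cd_mm, cd_mm, cd_inv, k_c]
    exact k1 _ hm i
  have := cc_norm (γ := g * γ * g⁻¹) (by rw [show cc = g * jm v * g⁻¹ by rw [e', mul_inv_cancel_right]]; exact h.conj g)
  rwa [mul_mem_cancel_right (inv_mem hg), mul_mem_cancel_left hg] at this

theorem w2_mem {B : Subgroup S6} {a : S6} (ha : a ∈ Jm) (h : B ⊔ zpowers a = Jm) :
    ∃ v : V4, v 0 = 0 ∧ v ⬝ᵥ v = -1 ∧ jm v ∈ B := by
  obtain ⟨w, -, rfl⟩ := mem_Jm.1 ha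
  let K : Subgroup S6 :=
    { carrier := {x | ∃ u k, x = jm u ∧ jm (u + k • w) ∈ B}
      one_mem' := ⟨0, (0 : ZMod 3), jm_zero.symm, by rw [zero_smul, add_zero, jm_zero]; exact one_mem B⟩
      mul_mem' := by
        rintro _ _ ⟨u, k, rfl, h1⟩ ⟨u', k', rfl, h2⟩
        exact ⟨u + u', k + k', (jm_add _ _).symm, by
          rw [add_smul, add_add_add_comm, jm_add]; exact mul_mem h1 h2⟩
      inv_mem' := by
        rintro _ ⟨u, k, rfl, h1⟩
        have n : ∀ u, (jm u)⁻¹ = jm (-u) := fun u =>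
          inv_eq_of_mul_eq_one_right (by rw [← jm_add, add_neg_cancel, jm_zero])
        exact ⟨-u, -k, n u, by rw [neg_smul, ← neg_add, ← n]; exact inv_mem h1⟩ }
  have hK : Jm ≤ K := by
    conv_lhs => rw [← h]
    refine sup_le (fun b hb => ?_) (zpowers_le_of_mem ⟨w, -1, rfl, ?_⟩)
    · obtain ⟨u, -, rfl⟩ := mem_Jm.1 (h ▸ mem_sup_left hb : b ∈ Jm)
      exact ⟨u, 0, rfl, by rwa [zero_smul, add_zero]⟩
    · rw [neg_one_smul, add_neg_cancel, jm_zero]; exact one_mem B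
  have k : ∀ u : V4, ∃ k : ZMod 3, jm (u + k • w) ∈ B := fun u => by
    obtain ⟨u', k, e, h1⟩ := hK (jm_mem u)
    exact ⟨k, by rwa [jm_add, e, ← jm_add]⟩
  obtain ⟨k1, h1⟩ := k (ee 1)
  obtain ⟨k2, h2⟩ := k (ee 2)
  obtain ⟨k3, h3⟩ := k (ee 3)
  obtain ⟨a, b, c, e1, e2⟩ := (by decide +kernel : ∀ k1 k2 k3 : ZMod 3, ∃ a b c : ZMod 3,
    a * k1 + b * k2 + c * k3 = 0 ∧ (a • ee 1 + b • ee 2 + c • ee 3) 0 = 0 ∧
      (a • ee 1 + b • ee 2 + c • ee 3) ⬝ᵥ (a • ee 1 + b • ee 2 + c • ee 3) = -1) k1 k2 k3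
  refine ⟨_, e2.1, e2.2, ?_⟩
  have e : a • ee 1 + b • ee 2 + c • ee 3 = a • (ee 1 + k1 • w) + b • (ee 2 + k2 • w) + c • (ee 3 + k3 • w) := by
    have : (a * k1 + b * k2 + c * k3) • w = 0 := by rw [e1, zero_smul]
    rw [← add_zero (a • ee 1 + b • ee 2 + c • ee 3), ← this]
    module
  rw [e, jm_add, jm_add, jm_smul, jm_smul, jm_smul]
  exact mul_mem (mul_mem (pow_mem h1 _) (pow_mem h2 _)) (pow_mem h3 _)

theorem col {γ : S6} (h : γ ∈ 𝒩(Jm)) (i : Fin 3) : ∃ v : V4, v 0 = 0 ∧ v ⬝ᵥ v = 1 ∧ γ * cm i * γ⁻¹ = jm v := by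
  have k1 : ∀ a < 64, ∀ b < 64, force (mm (tl a) (tl b)) (fun m => !LJ.contains m ||
      [c1, kc 0, kc 1, kc 2, s2 (kc 0), s2 (kc 1), s2 (kc 2)].contains m) = true := by decide +kernel
  have hm : γ * cm i * γ⁻¹ ∈ Jm := (mem_normalizer_iff.1 h _).1 (jm_ee i ▸ jm_mem _)
  obtain ⟨v, v0, e⟩ := mem_Jm.1 hm
  refine ⟨v, v0, ?_, e⟩
  have e1 : jc v = mm (tl (act γ (2 ^ i.val) % 64)) (tl (act γ (2 ^ (3 + i.val)) % 64)) := by
    rw [← cd_jm, ← e, cm, ← conj_mul, xm, ym, conj_tv, conj_tv, cd_mm, cd_tv, cd_tv]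
  have k2 := k1 _ (Nat.mod_lt (act γ (2 ^ i.val)) (by norm_num)) _ (Nat.mod_lt (act γ (2 ^ (3 + i.val))) (by norm_num))
  rw [← e1, force_eq, Bool.or_eq_true, Bool.not_eq_true', ← Bool.not_eq_true, List.contains_iff_mem,
    List.contains_iff_mem] at k2
  refine (qt_all0 (P := fun v => jc v ∈ [c1, kc 0, kc 1, kc 2, s2 (kc 0), s2 (kc 1), s2 (kc 2)] → v = 0 ∨ v ⬝ᵥ v = 1)
    (by decide +kernel) v v0 (k2.resolve_left (not_not.2 (cd_jm v ▸ mJ.1 (jm_mem v))))).resolve_left ?_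
  rintro rfl
  rw [jm_zero, conj_eq_one_iff, cd_eq_iff, k_c, cd_one] at e
  exact absurd e (by clear * -; revert i; decide +kernel)

end MAx

theorem sigM (Y : Subgroup S6) (h3 : (Nat.card Y).Coprime 3) (hn : Jm ≤ 𝒩(Y)) : Y = ⊥ := by
  have hd : Disjoint Y Jm := disjoint_of_coprime_natCard (by rw [card_Jm]; exact h3.pow_right 3)
  refine le_bot_iff.1 (H46.le_of_forall_cyclic_quotient (p := 3) (IsPGroup.of_card (n := 3) card_Jm)
    (abelian_iff.2 Jm_ab) ⊥ Y ((Nat.Prime.coprime_iff_not_dvd Nat.prime_three).1 h3.symm) hn ?_)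
  rintro B - ⟨a, ha, e⟩ y ⟨h1, h2⟩
  obtain ⟨v, v0, hv, hB⟩ := w2_mem ha e
  have hy := w2_norm v0 hv (γ := y) (h2 _ hB).symm
  replace h1 : y ∈ Y := h1
  refine hd.le_bot ⟨h1, cenM fun i => ?_⟩
  have hi : cm i ∈ Jm := jm_ee i ▸ jm_mem _
  have : y * cm i * y⁻¹ * (cm i)⁻¹ ∈ Y ⊓ Jm := mem_inf.2
    ⟨by rw [mul_assoc, mul_assoc, ← mul_assoc (cm i)]; exact mul_mem h1 (conj_mem_of_norm hn hi (inv_mem h1)),
      mul_mem ((mem_normalizer_iff.1 hy _).1 hi) (inv_mem hi)⟩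
  exact commutatorElement_eq_one_iff_commute.1 (hd.le_bot this)

theorem sylM {P : Subgroup S6} (hP : IsPGroup 3 P) : ∃ γ, cj γ P ≤ Jm ⊔ zpowers q3 := by
  obtain ⟨S, e⟩ := exS
  obtain ⟨Q, hQ⟩ := hP.exists_le_sylow
  obtain ⟨g, hg⟩ := MulAction.exists_smul_eq S6 Q S
  exact ⟨g, by rw [← e, ← hg, Sylow.coe_subgroup_smul, ← cj_eq_smul]; exact cj_mono g hQ⟩

theorem sylM' {P : Subgroup S6} (hP : IsPGroup 3 P) (h1 : Jm ≤ P) (h2 : q3 ∈ P) : P ≤ Jm ⊔ zpowers q3 := by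
  obtain ⟨S, e⟩ := exS
  rw [← e]
  exact (S.is_maximal' hP (e ▸ sup_le h1 (zpowers_le_of_mem h2))).le

theorem MAx.eqJ {γ : S6} {B : Subgroup S6} (h : cj γ B ≤ Jm ⊔ zpowers q3) (hc : B ≤ 𝒞(B)) :
    Nat.card B ≤ 27 ∧ (Nat.card B = 27 → cj γ B = Jm) := by
  rcases abS h (by rw [← cj_centralizer]; exact cj_mono γ hc) with k | k
  · exact ⟨by rw [← card_cj γ, ← card_Jm]; exact card_le_of_le k,
      fun e => eq_of_le_of_card_ge k (by rw [card_cj, card_Jm, e])⟩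
  · rw [card_cj] at k
    exact ⟨by omega, fun e => by omega⟩

theorem abM {B : Subgroup S6} (hB : IsPGroup 3 B) (hc : B ≤ 𝒞(B)) :
    Nat.card B ≤ 27 ∧ (Nat.card B = 27 → ∃ γ, cj γ B = Jm) := by
  obtain ⟨γ, h⟩ := sylM hB
  exact ⟨(eqJ h hc).1, fun e => ⟨γ, (eqJ h hc).2 e⟩⟩

theorem uqM {P B : Subgroup S6} (hP : IsPGroup 3 P) (h1 : Jm ≤ P) (h2 : B ≤ P) (hc : B ≤ 𝒞(B))
    (h : Nat.card B = 27) : B = Jm := by
  obtain ⟨γ, k⟩ := sylM hP
  exact cj_injective γ (((eqJ ((cj_mono γ h2).trans k) hc).2 h).trans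
    ((eqJ ((cj_mono γ h1).trans k) Jm_ab).2 card_Jm).symm)

theorem ord3M {γ : S6} (h : γ ^ 3 = 1) : ∃ δ, δ * γ * δ⁻¹ ∈ Jm := by
  have k : ∀ m ∈ LS, mm m (s2 m) = c1 → m ∈ LJ ∨ ∃ j ∈ LJ,
      force (mm (mm (mm 25363472079 j) m) (mm (s2 j) 49912167800)) LJ.contains = true := by decide +kernel
  have k3 : ∀ j ∈ LJ, iv (mm 25363472079 j) = mm (s2 j) 49912167800 := by decide +kernel
  obtain ⟨g, hg⟩ := sylM (P := zpowers γ) (by
    rintro ⟨_, n, rfl⟩
    exact ⟨1, Subtype.ext (by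
      change (γ ^ n) ^ 3 ^ 1 = 1
      rw [pow_one, ← zpow_natCast, ← _root_.zpow_mul, mul_comm, _root_.zpow_mul, zpow_natCast, h, _root_.one_zpow])⟩)
  have h1 := mS.1 (hg (conj_mem_cj.2 (mem_zpowers γ)))
  have h2 : (g * γ * g⁻¹) ^ 3 = 1 := by rw [conj_pow, h, mul_one, mul_inv_cancel]
  rw [pow_three, cd_eq_iff, cd_mm, cd_sq, cd_one] at h2
  rcases k _ h1 h2 with e | ⟨j, hj, e⟩
  · exact ⟨g, mJ.2 e⟩
  · obtain ⟨x, rfl⟩ := ex_clos gJ cJ j hj
    have d : cd (wd [14, 55]) = 25363472079 := by rw [cd_wd]; decide +kernel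
    rw [force_eq, List.contains_iff_mem] at e
    refine ⟨wd [14, 55] * x * g, ?_⟩
    rw [show wd [14, 55] * x * g * γ * (wd [14, 55] * x * g)⁻¹ =
      wd [14, 55] * x * (g * γ * g⁻¹) * (wd [14, 55] * x)⁻¹ by group, mJ]
    generalize g * γ * g⁻¹ = y at e ⊢
    rwa [cd_mm, cd_mm, cd_inv, cd_mm, d, k3 _ hj]

theorem normM {γ : S6} (h : γ ∈ 𝒩(Jm)) :
    ∃ β, Iso0 β ∧ ∀ u : V4, u 0 = 0 → γ * jm u * γ⁻¹ = jm (β *ᵥ u) := by
  choose v v0 v1 hv using col h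
  have o : ∀ i j, i ≠ j → v i ⬝ᵥ v j = 0 := fun i j hij => by
    have k : ∀ x : V4, x 0 = 0 → x ⬝ᵥ x = 1 → ∀ y : V4, y 0 = 0 → y ⬝ᵥ y = 1 → x = y ∨ x + y = 0 ∨ x ⬝ᵥ y = 0 := by
      intro x x0 x1 y y0 y1
      obtain ⟨a, -, rfl | rfl⟩ := qt_ee x x0 x1 <;> obtain ⟨b, -, rfl | rfl⟩ := qt_ee y y0 y1 <;> clear * - <;>
        revert a b <;> decide +kernel
    rcases k _ (v0 i) (v1 i) _ (v0 j) (v1 j) with e | e | e
    · have := hv i
      rw [e, ← hv j, mul_left_inj, mul_right_inj, cd_eq_iff, k_c, k_c] at this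
      exact absurd this (by clear * - hij; revert i j; decide +kernel)
    · have := jm_add (v i) (v j)
      rw [e, jm_zero, ← hv, ← hv, conj_mul, eq_comm, conj_eq_one_iff, cd_eq_iff, cd_mm, k_c, k_c, cd_one] at this
      exact absurd this (by clear * - hij; revert i j; decide +kernel)
    · exact e
  let c : Fin 4 → V4 := Fin.cons (ee 0) v
  have hc : ∀ i, (Matrix.of c)ᵀ *ᵥ ee i = c i := fun i => by
    rw [ee, mulVec_single_one]; rfl
  refine ⟨(Matrix.of c)ᵀ, ⟨?_, hc 0⟩, of_cols fun i => by rw [hc]; exact hv i⟩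
  ext i j
  change c i ⬝ᵥ c j = _
  refine Fin.cases ?_ (fun i => ?_) i <;> refine Fin.cases ?_ (fun j => ?_) j
  · rfl
  · change ee 0 ⬝ᵥ v j = _
    rw [dotProduct_comm, qt_dot0, v0, one_apply_ne (Fin.succ_ne_zero j).symm]
  · change v i ⬝ᵥ ee 0 = _
    rw [qt_dot0, v0, one_apply_ne (Fin.succ_ne_zero i)]
  · change v i ⬝ᵥ v j = _
    by_cases e : i = j
    · rw [e, v1, one_apply_eq]
    · rw [o i j e, one_apply_ne (mt Fin.succ_inj.1 e)]

theorem isoM {β : M4} (h : Iso0 β) : ∃ γ : S6, ∀ u : V4, u 0 = 0 → γ * jm u * γ⁻¹ = jm (β *ᵥ u) := by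
  have k : ∀ x ∈ [ee 1, ee 2, ee 3, -ee 1, -ee 2, -ee 3], ∀ y ∈ [ee 1, ee 2, ee 3, -ee 1, -ee 2, -ee 3], x ⬝ᵥ y = 0 →
      ∀ z ∈ [ee 1, ee 2, ee 3, -ee 1, -ee 2, -ee 3], x ⬝ᵥ z = 0 → y ⬝ᵥ z = 0 → ∃ m ∈ LN,
        mm m (kc 0) = mm (jc x) m ∧ mm m (kc 1) = mm (jc y) m ∧ mm m (kc 2) = mm (jc z) m := by decide +kernel
  have l : ∀ i : Fin 4, i ≠ 0 → β *ᵥ ee i ∈ [ee 1, ee 2, ee 3, -ee 1, -ee 2, -ee 3] := fun i hi => by
    obtain ⟨a, a0, e | e⟩ := h.ee hi <;> rw [e] <;> clear * - a0 <;> revert a <;> decide +kernel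
  obtain ⟨m, hm, e0, e1, e2⟩ := k _ (l 1 (by decide)) _ (l 2 (by decide)) ((iso_dot h.1 _ _).trans (by decide +kernel))
    _ (l 3 (by decide)) ((iso_dot h.1 _ _).trans (by decide +kernel)) ((iso_dot h.1 _ _).trans (by decide +kernel))
  obtain ⟨g, rfl⟩ := xN m hm
  refine ⟨g, of_cols fun i => ?_⟩
  rw [mul_inv_eq_iff_eq_mul, cd_eq_iff, cd_mm, cd_mm, cd_jm, k_c]
  fin_cases i
  exacts [e0, e1, e2]

theorem xm_jm (i : Fin 3) (u : V4) : xm i * jm u * (xm i)⁻¹ = jm (sv (ee i.succ) u) := by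
  rw [mul_inv_eq_iff_eq_mul, cd_eq_iff, cd_mm, cd_mm, cd_jm, cd_jm, k_x]
  revert i
  exact qt_all (P := fun u => ∀ i : Fin 3, mm (kx i) (jc u) = mm (jc (sv (ee i.succ) u)) (kx i)) (by decide +kernel) u

theorem sw_jm (u : V4) : sw * jm u * sw⁻¹ = jm (sv cv u) := by
  rw [mul_inv_eq_iff_eq_mul, cd_eq_iff, cd_mm, cd_mm, cd_jm, cd_jm, k_sw]
  exact qt_all (P := fun u => mm 17718845697 (jc u) = mm (jc (sv cv u)) 17718845697) (by decide +kernel) u

theorem sw1_jm (u : V4) : sw1 * jm u * sw1⁻¹ = jm (sv fv u) := by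
  rw [mul_inv_eq_iff_eq_mul, cd_eq_iff, cd_mm, cd_mm, cd_jm, cd_jm, k_sw1]
  exact qt_all (P := fun u => mm 19933438209 (jc u) = mm (jc (sv fv u)) 19933438209) (by decide +kernel) u

theorem s01_jm (u : V4) : Em 3 24 * jm u * (Em 3 24)⁻¹ = jm (pm (Equiv.swap 1 2) *ᵥ u) := by
  rw [mul_inv_eq_iff_eq_mul, cd_eq_iff, cd_mm, cd_mm, cd_jm, cd_jm, k_s]
  exact qt_all (P := fun u => mm 34498166850 (jc u) = mm (jc (pm (Equiv.swap 1 2) *ᵥ u)) 34498166850)
    (by decide +kernel) u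

theorem q3_cm (i : Fin 3) : q3 * cm i * q3⁻¹ = cm (i + 1) ∧ q3 * xm i * q3⁻¹ = xm (i + 1) ∧ q3 ^ 3 = 1 := by
  simp only [pow_three, cd_eq_iff, cd_mm, cd_inv, k_c, k_x, k_q, cd_one]
  revert i
  decide +kernel

theorem bm_jm (u : V4) : bm * jm u * bm⁻¹ = jm (!![1, 0, 0, 0; 0, 0, 0, -1; 0, -1, 0, 0; 0, 0, 1, 0] *ᵥ u) := by
  rw [mul_inv_eq_iff_eq_mul, cd_eq_iff, cd_mm, cd_mm, cd_jm, cd_jm, k_bm]
  exact qt_all (P := fun u => mm 10205270274 (jc u) =
    mm (jc (!![1, 0, 0, 0; 0, 0, 0, -1; 0, -1, 0, 0; 0, 0, 1, 0] *ᵥ u)) 10205270274) (by decide +kernel) u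

theorem jm_named : jm cv = cc ∧ jm fv = ff ∧ jm zv = zp ∧ jm (sg 0) = zm := by
  simp only [cc, ff, zp, zm, cd_eq_iff, cd_jm, cd_mm, cd_inv, k_c]
  decide +kernel

end Cfsg.Agent.S86
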