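import Cfsg.Agent.S86.Defs

/-! Subgroups of the model `Sp₆(2)` given by lists of codes. -/

set_option autoImplicit false

namespace Cfsg.Agent.S86.ML

open Subgroup H49 Matrix F42 F42.SpF F42.SpS

/-- every entry is the identity or a later entry times a generator -/
def reach (C : List ℕ) : List ℕ → Bool
  | [] => true
  | m :: L => (m == c1 || L.any fun a => C.any fun c => mm a c == m) && reach C L

/-- the list is closed under the generators -/
def clsd (C L : List ℕ) : Bool := L.all fun m => C.all fun c => force (mm m c) fun n => L.contains n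

theorem reach_mem {S : List S6} {L : List ℕ} (h : reach (S.map cd) L = true) :
    ∀ m ∈ L, ∃ g ∈ Subgroup.closure {x | x ∈ S}, cd g = m := by
  induction L with
  | nil => simp
  | cons m L ih =>
    simp only [reach, Bool.and_eq_true, Bool.or_eq_true, beq_iff_eq, List.any_eq_true] at h
    intro n hn
    rcases List.mem_cons.1 hn with rfl | hn
    · rcases h.1 with e | ⟨a, ha, c, hc, e⟩
      · exact ⟨1, one_mem _, cd_one.trans e.symm⟩
      · obtain ⟨g, hg, rfl⟩ := ih h.2 a ha
        obtain ⟨s, hs, rfl⟩ := List.mem_map.1 hc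
        exact ⟨g * s, mul_mem hg (subset_closure hs), (cd_mm g s).trans e⟩
    · exact ih h.2 n hn

instance fin_S6 : Finite S6 := Nat.finite_of_card_ne_zero (by rw [card_S6]; norm_num)

theorem clsd_mem {S : List S6} {L : List ℕ} (h1 : c1 ∈ L) (h : clsd (S.map cd) L = true) {g : S6}
    (hg : g ∈ Subgroup.closure {x | x ∈ S}) : cd g ∈ L := by
  simp only [clsd, force_eq, List.all_eq_true, List.contains_iff_mem] at h
  have k : ∀ g : S6, cd g ∈ L → ∀ s ∈ S, ∀ n : ℕ, cd (g * s ^ n) ∈ L := fun g hg s hs n => by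
    induction n with
    | zero => rwa [pow_zero, mul_one]
    | succ n ih => rw [pow_succ, ← mul_assoc, cd_mm]; exact h _ ih _ (List.mem_map_of_mem hs)
  induction hg using Subgroup.closure_induction_right with
  | one => rwa [cd_one]
  | mul_right x _ y hy ih => simpa using k x ih y hy 1
  | mul_inv_cancel x _ y hy ih =>
    have e : y⁻¹ = y ^ (orderOf y - 1) := by
      rw [inv_eq_iff_mul_eq_one, ← pow_succ', Nat.sub_add_cancel (orderOf_pos y), pow_orderOf_eq_one]
    rw [e]; exact k x ih y hy _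

/-- the complete check -/
def chk (C L : List ℕ) : Bool := L.contains c1 && clsd C L && reach C L

theorem mem_clos {S : List S6} {C L : List ℕ} (hC : S.map cd = C) (h : chk C L = true) {g : S6} :
    g ∈ Subgroup.closure {x | x ∈ S} ↔ cd g ∈ L := by
  subst hC
  simp only [chk, Bool.and_eq_true, List.contains_iff_mem] at h
  refine ⟨clsd_mem h.1.1 h.1.2, fun hg => ?_⟩
  obtain ⟨x, hx, e⟩ := reach_mem h.2 _ hg
  exact cd_inj e ▸ hx

theorem ex_clos {S : List S6} {C L : List ℕ} (hC : S.map cd = C) (h : chk C L = true) :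
    ∀ m ∈ L, ∃ g : S6, cd g = m := by
  subst hC
  simp only [chk, Bool.and_eq_true] at h
  exact fun m hm => let ⟨g, _, e⟩ := reach_mem h.2 m hm; ⟨g, e⟩

theorem card_le {K : Subgroup S6} {L : List ℕ} (h : ∀ g ∈ K, cd g ∈ L) : Nat.card K ≤ L.length := by
  refine le_trans ?_ (List.toFinset_card_le L)
  rw [← Nat.card_eq_finsetCard]
  exact Nat.card_le_card_of_injective (fun g : K => (⟨cd g.1, List.mem_toFinset.2 (h _ g.2)⟩ : L.toFinset))
    fun x y e => Subtype.ext (cd_inj (congrArg Subtype.val e))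

theorem card_eq {K : Subgroup S6} {L : List ℕ} (h : ∀ g, g ∈ K ↔ cd g ∈ L) (hx : ∀ m ∈ L, ∃ g : S6, cd g = m)
    (nd : L.Nodup) : Nat.card K = L.length := by
  rw [← List.toFinset_card_of_nodup nd, ← Nat.card_eq_finsetCard]
  refine Nat.card_congr (Equiv.ofBijective
    (fun g : K => (⟨cd g.1, List.mem_toFinset.2 ((h _).1 g.2)⟩ : L.toFinset))
    ⟨fun x y e => Subtype.ext (cd_inj (congrArg Subtype.val e)), fun m => ?_⟩)
  obtain ⟨g, e⟩ := hx _ (List.mem_toFinset.1 m.2)
  exact ⟨⟨g, (h g).2 (e ▸ List.mem_toFinset.1 m.2)⟩, Subtype.ext e⟩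

end Cfsg.Agent.S86.ML
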