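import Cfsg.Agent.S86.S8a
import Cfsg.Agent.S86.Fs
import Cfsg.Agent.S86.ModD

set_option autoImplicit false

namespace Cfsg.Agent.S86

open Subgroup H49 Matrix F42
open Cfsg.Agent.L72 (O2N)

variable {G : Type*} [Group G] [Finite G] {a : V4 → G} {ψ ψ' : S6 →* G} {ρ : Fin 4 → G} {t : Fin 4 → Fin 4 → G}
  {e E : ℕ → G} {φ : S8 →* G}

namespace Phi

/-- powers with exponent in `ZMod 2` -/
def pz (x : G) (α : ZMod 2) : G := x ^ α.val

omit [Finite G] in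
theorem pz_add {x : G} (x2 : x * x = 1) (α β : ZMod 2) : pz x (α + β) = pz x α * pz x β := by
  rw [pz, ZMod.val_add, pz, pz, ← pow_add, ← pow_eq_pow_mod _ (by rw [pow_two, x2])]

omit [Finite G] in
theorem pz_bf (x : G) (n m : ℕ) : pz x (bf n m) = x ^ bf n m := by rw [pz, ZMod.val_natCast, bf, Nat.mod_mod]

omit [Finite G] in
theorem pz_zero (x : G) : pz x 0 = 1 := pow_zero x

omit [Finite G] in
theorem pz_one (x : G) : pz x 1 = x := pow_one x

/-- the future transvections -/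
def Tg (r s : G) (ψ : S6 →* G) (E : ℕ → G) (p : ZMod 2 × ZMod 2 × ℕ) : G :=
  if p.2.1 = 0 then ψ (tv p.2.2) * pz (E p.2.2 * r) p.1 else E p.2.2 * pz r p.1 * s * (E p.2.2 * pz r p.1)⁻¹

/-- the action of a transvection on the coordinates -/
def ta (α' β' : ZMod 2) (n' : ℕ) (α β : ZMod 2) (n : ℕ) : ZMod 2 × ZMod 2 × ℕ :=
  if α' * β + β' * α + (bf n' n : ZMod 2) = 0 then (α, β, n) else (α' + α, β' + β, n' ^^^ n)

/-- the relations that are used -/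
structure Rl (r s : G) (ψ : S6 →* G) (E : ℕ → G) : Prop where
  r2 : r * r = 1
  s2 : s * s = 1
  rs : s * r * s = r * s * r
  nc : r * s ≠ s * r
  cr : ∀ γ, Commute r (ψ γ)
  cs : ∀ γ, Commute s (ψ γ)
  E0 : E 0 = 1
  Er : ∀ n < 64, Commute (E n) r
  mul : ∀ n < 64, ∀ m < 64, E n * E m = E (n ^^^ m) * r ^ bf n m
  cov : ∀ γ, ∀ n < 64, ψ γ * E n * (ψ γ)⁻¹ = E (act γ n)
  e0 : ∀ n < 64, E n = 1 ∨ E n = r → n = 0
  br : s * (ψ (tv 1) * (E 1 * r)) * s = ψ (tv 1) * (E 1 * r) * s * (ψ (tv 1) * (E 1 * r))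

variable {r s : G}

omit [Finite G] in
theorem T0 (α : ZMod 2) (n : ℕ) : Tg r s ψ E (α, 0, n) = ψ (tv n) * pz (E n * r) α := if_pos rfl

omit [Finite G] in
theorem T1 (α : ZMod 2) (n : ℕ) : Tg r s ψ E (α, 1, n) = E n * pz r α * s * (E n * pz r α)⁻¹ := if_neg one_ne_zero

theorem z2 : ∀ c : ZMod 2, c = 0 ∨ c = 1 := by decide

theorem tv0 : tv 0 = 1 := cd_inj (by rw [cd_tv, cd_one]; decide +kernel)

namespace Rl

omit [Finite G]
variable (h : Rl r s ψ E)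
include h

theorem E2 {n : ℕ} (hn : n < 64) : E n * E n = 1 := by
  rw [h.mul n hn n hn, Nat.xor_self, h.E0, (by decide +kernel : ∀ n < 64, bf n n = 0) n hn, pow_zero, mul_one]

theorem EE {n m : ℕ} (hn : n < 64) (hm : m < 64) : Commute (E n) (E m) := by
  rw [Commute, SemiconjBy, h.mul n hn m hm, h.mul m hm n hn, Nat.xor_comm,
    (by decide +kernel : ∀ n < 64, ∀ m < 64, bf n m = bf m n) n hn m hm]

theorem Er2 {n : ℕ} (hn : n < 64) : E n * r * (E n * r) = 1 := by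
  rw [(h.Er n hn).symm.mul_mul_mul_comm, h.E2 hn, h.r2, mul_one]

theorem Tr : Tg r s ψ E (1, 0, 0) = r := by rw [T0, tv0, map_one, h.E0, pz_one, one_mul, one_mul]

theorem Ts : Tg r s ψ E (0, 1, 0) = s := by rw [T1, h.E0, pz_zero, mul_one, one_mul, inv_one, mul_one]

theorem cψ (γ : S6) (α β : ZMod 2) {n : ℕ} (hn : n < 64) :
    ψ γ * Tg r s ψ E (α, β, n) * (ψ γ)⁻¹ = Tg r s ψ E (α, β, act γ n) := by
  have e1 : MulAut.conj (ψ γ) (ψ (tv n)) = ψ (tv (act γ n)) := by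
    rw [MulAut.conj_apply, ← map_inv, ← map_mul, ← map_mul, conj_tv]
  have e2 : MulAut.conj (ψ γ) (E n) = E (act γ n) := h.cov γ n hn
  have e3 : MulAut.conj (ψ γ) r = r := (h.cr γ).symm.mul_inv_cancel
  have e4 : MulAut.conj (ψ γ) s = s := (h.cs γ).symm.mul_inv_cancel
  rw [← MulAut.conj_apply]
  rcases z2 β with rfl | rfl
  · simp only [T0, pz, map_mul, map_pow, e1, e2, e3]
  · simp only [T1, pz, map_mul, map_pow, map_inv, e2, e3, e4]

theorem cz1 (γ α : ZMod 2) {k n : ℕ} (hk : k < 64) (hn : n < 64) :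
    E k * pz r γ * Tg r s ψ E (α, 1, n) * (E k * pz r γ)⁻¹ = Tg r s ψ E (bf k n + (γ + α), 1, k ^^^ n) := by
  have : E (k ^^^ n) * pz r (bf k n + (γ + α)) = E k * pz r γ * (E n * pz r α) := by
    rw [pz_add h.r2, pz_add h.r2, pz_bf, ← mul_assoc, ← h.mul k hk n hn, pz, pz,
      ((h.Er n hn).pow_right _).mul_mul_mul_comm]
  rw [T1, T1, this]
  group

theorem cz0 (γ α : ZMod 2) {k n : ℕ} (hk : k < 64) (hn : n < 64) :
    E k * pz r γ * Tg r s ψ E (α, 0, n) * (E k * pz r γ)⁻¹ = Tg r s ψ E (bf k n + α, 0, n) := by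
  have c1 : Commute (pz r γ) (Tg r s ψ E (α, 0, n)) := by
    rw [T0]
    exact ((h.cr _).mul_right (((h.Er n hn).symm.mul_right (.refl r)).pow_right _)).pow_left _
  have c2 : Commute (E k) (pz (E n * r) α) := ((h.EE hk hn).mul_right (h.Er k hk)).pow_right _
  have c3 : E k * ψ (tv n) * (E k)⁻¹ = ψ (tv n) * pz (E n * r) (bf k n) := by
    have c := h.cov (tv n) k hk
    have t2 : ψ (tv n) * ψ (tv n) = 1 := by rw [← map_mul, tv_sq, map_one]
    rw [act_tv hn hk, mul_inv_eq_iff_eq_mul] at c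
    rw [pz_bf]
    rcases (by decide +kernel : ∀ k < 64, ∀ n < 64, bf k n = 0 ∨ bf k n = 1 ∧ k ^^^ n ^^^ k = n ∧ bf (k ^^^ n) k = 1)
      k hk n hn with e | ⟨e, e1, e2⟩ <;> rw [e] at c ⊢
    · rw [zero_mul, Nat.xor_zero] at c
      rw [← c, mul_inv_cancel_right, pow_zero, mul_one]
    · have m := h.mul _ (xor_lt hk hn) k hk
      rw [e1, e2, pow_one] at m
      rw [one_mul] at c
      rw [pow_one, ← m, inv_eq_of_mul_eq_one_right (h.E2 hk), ← mul_assoc]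
      congr 1
      calc _ = ψ (tv n) * (ψ (tv n) * E k) * ψ (tv n) := by rw [← mul_assoc, t2, one_mul]
        _ = _ := by rw [c, mul_assoc, mul_assoc, t2, mul_one]
  calc _ = E k * (pz r γ * Tg r s ψ E (α, 0, n) * (pz r γ)⁻¹) * (E k)⁻¹ := by group
    _ = E k * ψ (tv n) * (E k)⁻¹ * (E k * pz (E n * r) α * (E k)⁻¹) := by rw [c1.mul_inv_cancel, T0]; group
    _ = _ := by rw [c3, c2.mul_inv_cancel, T0, pz_add (h.Er2 hn), mul_assoc]

theorem m0 {k n : ℕ} (hk : k < 64) (hn : n < 64) (α β : ZMod 2) :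
    ψ (tv k) * Tg r s ψ E (α, β, n) * (ψ (tv k))⁻¹ = Tg r s ψ E (ta 0 0 k α β n) := by
  rw [h.cψ _ _ _ hn, act_tv hk hn]
  exact congrArg _ ((by decide +kernel : ∀ k < 64, ∀ n < 64, ∀ α β : ZMod 2,
    (α, β, n ^^^ bf n k * k) = ta 0 0 k α β n) k hk n hn α β)

theorem m1 {k n : ℕ} (hk : k < 64) (hn : n < 64) (α β : ZMod 2) :
    ψ (tv k) * E k * r * Tg r s ψ E (α, β, n) * (ψ (tv k) * E k * r)⁻¹ = Tg r s ψ E (ta 1 0 k α β n) := by
  have e : ψ (tv k) * E k * r * Tg r s ψ E (α, β, n) * (ψ (tv k) * E k * r)⁻¹ =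
      ψ (tv k) * (E k * pz r 1 * Tg r s ψ E (α, β, n) * (E k * pz r 1)⁻¹) * (ψ (tv k))⁻¹ := by rw [pz_one]; group
  rw [e]
  rcases z2 β with rfl | rfl
  · rw [h.cz0 _ _ hk hn, h.cψ _ _ _ hn, act_tv hk hn]
    exact congrArg _ ((by decide +kernel : ∀ k < 64, ∀ n < 64, ∀ α : ZMod 2,
      ((bf k n : ZMod 2) + α, (0 : ZMod 2), n ^^^ bf n k * k) = ta 1 0 k α 0 n) k hk n hn α)
  · rw [h.cz1 _ _ hk hn, h.cψ _ _ _ (xor_lt hk hn), act_tv hk (xor_lt hk hn)]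
    exact congrArg _ ((by decide +kernel : ∀ k < 64, ∀ n < 64, ∀ α : ZMod 2,
      ((bf k n : ZMod 2) + (1 + α), (1 : ZMod 2), k ^^^ n ^^^ bf (k ^^^ n) k * k) = ta 1 0 k α 1 n) k hk n hn α)

theorem ms {n : ℕ} (hn : n < 64) (α β : ZMod 2) :
    s * Tg r s ψ E (α, β, n) * s⁻¹ = Tg r s ψ E (ta 0 1 0 α β n) := by
  have si := inv_eq_of_mul_eq_one_right h.s2
  have ri := inv_eq_of_mul_eq_one_right h.r2
  have red : ∀ {α β α' β'}, s * Tg r s ψ E (α, β, 0) * s⁻¹ = Tg r s ψ E (α', β', 0) →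
      s * Tg r s ψ E (α, β, 1) * s⁻¹ = Tg r s ψ E (α', β', 1) →
      s * Tg r s ψ E (α, β, n) * s⁻¹ = Tg r s ψ E (α', β', n) := fun {α β α' β'} h0 h1 => by
    by_cases n0 : n = 0
    · rw [n0, h0]
    obtain ⟨γ, rfl⟩ := wit1 hn n0
    rw [← h.cψ γ _ _ (by decide), ← h.cψ γ _ _ (by decide), ← h1, ← mul_assoc, ← mul_assoc, (h.cs γ).eq, mul_assoc _ _ s⁻¹,
      ← _root_.mul_inv_rev, (h.cs γ).eq]
    group
  have x2 : ψ (tv 1) * ψ (tv 1) = 1 := by rw [← map_mul, tv_sq, map_one]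
  have xE : Commute (ψ (tv 1)) (E 1) := by
    have := h.cov (tv 1) 1 (by decide)
    rwa [act_tv (by decide) (by decide), mul_inv_eq_iff_eq_mul] at this
  obtain ⟨u, hu⟩ : ∃ u, u = ψ (tv 1) * (E 1 * r) := ⟨_, rfl⟩
  have ur : Commute r u := hu ▸ (h.cr _).mul_right ((h.Er 1 (by decide)).symm.mul_right (.refl r))
  have u2 : u * u = 1 := by
    rw [hu, (xE.mul_right (h.cr _).symm).symm.mul_mul_mul_comm, x2, h.Er2 (by decide), mul_one]
  have ui := inv_eq_of_mul_eq_one_right u2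
  have br : s * u * s = u * s * u := hu ▸ h.br
  have k : E 1 * r * s * (E 1 * r)⁻¹ = u * s * u := by
    have ux : Commute u (ψ (tv 1)) := hu ▸ (Commute.refl _).mul_left (xE.symm.mul_left (h.cr _))
    rw [show E 1 * r = u * ψ (tv 1) by rw [ux.eq, hu, ← mul_assoc (ψ _), x2, one_mul], _root_.mul_inv_rev, ui, mul_assoc u,
      mul_assoc u, ← mul_assoc (ψ _ * s), (h.cs _).symm.mul_inv_cancel, mul_assoc]
  have k1 : s * Tg r s ψ E (1, 0, n) * s⁻¹ = Tg r s ψ E (1, 1, n) := red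
    (by rw [h.Tr, T1, h.E0, pz_one, one_mul, si, ri, h.rs]) (by rw [T0, T1, pz_one, pz_one, k, ← hu, si, br])
  rw [(by decide +kernel : ∀ n < 64, ∀ α β : ZMod 2, ta 0 1 0 α β n = (α, α + β, n)) n hn]
  rcases z2 α with rfl | rfl <;> rcases z2 β with rfl | rfl
  · rw [add_zero, T0, pz_zero, mul_one, (h.cs _).mul_inv_cancel]
  · rw [zero_add]
    refine red (by rw [h.Ts, mul_inv_cancel_right]) ?_
    have k' : Tg r s ψ E (0, 1, 1) = r * (u * s * u) * r := by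
      rw [T1, pz_zero, mul_one, ← k, (h.Er 1 (by decide)).eq, _root_.mul_inv_rev, ri]
      calc _ = r * r * E 1 * s * (E 1)⁻¹ * (r * r) := by rw [h.r2, one_mul, mul_one]
        _ = _ := by simp only [mul_assoc]
    rw [k', si]
    calc _ = s * r * (s * u * s) * r * s := by rw [br]; simp only [mul_assoc]
      _ = s * r * s * u * (s * r * s) := by simp only [mul_assoc]
      _ = r * s * (r * u * r) * s * r := by rw [h.rs]; simp only [mul_assoc]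
      _ = _ := by rw [ur.eq, mul_assoc u, h.r2, mul_one, ← br]; simp only [mul_assoc]
  · exact k1
  · rw [← k1, si, ← mul_assoc, ← mul_assoc, h.s2, one_mul, mul_assoc, h.s2, mul_one]
    rfl

end Rl

/-- the transvection attached to a vector -/
noncomputable def TV (r s : G) (ψ : S6 →* G) (E : ℕ → G) (x : Fin 4 ⊕ Fin 4 → ZMod 2) : G :=
  Tg r s ψ E ((v8_surj x).choose, (v8_surj x).choose_spec.choose, (v8_surj x).choose_spec.choose_spec.choose)

omit [Finite G] in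
theorem TV_v8 (α β : ZMod 2) {n : ℕ} (hn : n < 64) : TV r s ψ E (v8 α β n) = Tg r s ψ E (α, β, n) := by
  obtain ⟨h1, h2⟩ := (v8_surj (v8 α β n)).choose_spec.choose_spec.choose_spec
  obtain ⟨e1, e2, e3⟩ := v8_inj hn h1 h2
  rw [TV, ← e3, ← e2, ← e1]

/-- the graph of the homomorphism -/
def Gr (f : (Fin 4 ⊕ Fin 4 → ZMod 2) → G) : Subgroup (G × S8) where
  carrier := {p | ∀ x, p.1 * f x * p.1⁻¹ = f (p.2.1 *ᵥ x)}
  one_mem' x := by rw [Prod.fst_one, Prod.snd_one, H27.sp_one_mulVec, one_mul, inv_one, mul_one]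
  mul_mem' {p q} hp hq x := by
    rw [Prod.fst_mul, Prod.snd_mul, H27.sp_mul_mulVec, ← hp, ← hq]
    group
  inv_mem' {p} hp x := by
    have := hp ((p.2⁻¹).1 *ᵥ x)
    rw [H27.sp_mulVec_inv_mulVec] at this
    rw [Prod.fst_inv, Prod.snd_inv, ← this]
    group

omit [Finite G] in
theorem mem_Gr {g : G} {α' β' : ZMod 2} {n' : ℕ} (hn' : n' < 64)
    (h : ∀ n < 64, ∀ α β, g * Tg r s ψ E (α, β, n) * g⁻¹ = Tg r s ψ E (ta α' β' n' α β n)) :
    (g, t8 α' β' n') ∈ Gr (TV r s ψ E) := fun x => by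
  obtain ⟨α, β, n, hn, rfl⟩ := v8_surj x
  show g * _ * g⁻¹ = TV r s ψ E ((t8 α' β' n').1 *ᵥ _)
  rw [TV_v8 _ _ hn, h n hn, t8_act _ _ _ _ hn' hn, ta]
  split_ifs
  · rw [TV_v8 _ _ hn]
  · rw [TV_v8 _ _ (xor_lt hn' hn)]

omit [Finite G] in
theorem Rl.hom (h : Rl r s ψ E) (hz : ∀ g, Commute g r → (∀ n < 64, Commute g (E n)) → ∃ n < 64, g = E n ∨ g = E n * r) :
    ∃ φ : S8 →* G, φ (t8 0 1 0) = s ∧ (∀ n < 64, φ (t8 0 0 n) = ψ (tv n)) ∧
      ∀ n < 64, φ (t8 1 0 n) = ψ (tv n) * E n * r := by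
  have a0 : ∀ k < 64, (ψ (tv k), t8 0 0 k) ∈ Gr (TV r s ψ E) := fun k hk => mem_Gr hk fun n hn => h.m0 hk hn
  have a1 : ∀ k < 64, (ψ (tv k) * E k * r, t8 1 0 k) ∈ Gr (TV r s ψ E) := fun k hk => mem_Gr hk fun n hn => h.m1 hk hn
  have a2 : (s, t8 0 1 0) ∈ Gr (TV r s ψ E) := mem_Gr (by decide) fun n hn => h.ms hn
  let π := (MonoidHom.snd G S8).comp (Gr (TV r s ψ E)).subtype
  have su : Function.Surjective π := MonoidHom.range_eq_top.1 (gen_S8 ⟨⟨_, a1 0 (by decide)⟩, rfl⟩ ⟨⟨_, a2⟩, rfl⟩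
    (fun n hn => ⟨⟨_, a0 n hn⟩, rfl⟩) ⟨⟨_, a1 1 (by decide)⟩, rfl⟩)
  have ij : Function.Injective π := (injective_iff_map_eq_one π).2 fun ⟨⟨g, m⟩, hp⟩ e => by
    obtain rfl : m = 1 := e
    have c : ∀ α β, ∀ n < 64, g * Tg r s ψ E (α, β, n) * g⁻¹ = Tg r s ψ E (α, β, n) := fun α β n hn => by
      have := hp (v8 α β n)
      rwa [H27.sp_one_mulVec, TV_v8 _ _ hn] at this
    have c' : ∀ α β, ∀ n < 64, Commute g (Tg r s ψ E (α, β, n)) := fun α β n hn => mul_inv_eq_iff_eq_mul.1 (c α β n hn)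
    have cr : Commute g r := h.Tr ▸ c' 1 0 0 (by decide)
    obtain ⟨k, hk, e⟩ := hz g cr fun n hn => by
      have c0 := c' 0 0 n hn
      have c1 := c' 1 0 n hn
      rw [T0, pz_zero, mul_one] at c0
      rw [T0, pz_one] at c1
      have := (c0.inv_right.mul_right c1).mul_right cr.inv_right
      rwa [inv_mul_cancel_left, mul_inv_cancel_right] at this
    obtain ⟨γ, rfl⟩ : ∃ γ, g = E k * pz r γ := e.elim (fun e => ⟨0, by rw [pz_zero, mul_one, e]⟩)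
      fun e => ⟨1, by rw [pz_one, e]⟩
    rcases (by decide +kernel : ∀ k < 64, k = 0 ∨ ∃ n < 64, n ≠ 0 ∧ (bf k n : ZMod 2) + 0 = 1) k hk with rfl | ⟨n, hn, n0, e⟩
    · rcases z2 γ with rfl | rfl
      · exact Subtype.ext (Prod.ext (show E 0 * pz r 0 = 1 by rw [h.E0, pz_zero, mul_one]) rfl)
      · have := c' 0 1 0 (by decide)
        rw [h.E0, pz_one, one_mul, h.Ts] at this
        exact absurd this h.nc
    · have := c 0 0 n hn
      rw [h.cz0 _ _ hk hn, e, T0, T0, pz_zero, pz_one, mul_left_cancel_iff, mul_eq_one_iff_eq_inv,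
        inv_eq_of_mul_eq_one_right h.r2] at this
      exact absurd (h.e0 n hn (.inr this)) n0
  let ε := MulEquiv.ofBijective π ⟨ij, su⟩
  have k : ∀ {g m}, (g, m) ∈ Gr (TV r s ψ E) →
      ((MonoidHom.fst G S8).comp ((Gr (TV r s ψ E)).subtype.comp ε.symm.toMonoidHom)) m = g := fun {g m} hp =>
    congrArg (fun p : Gr (TV r s ψ E) => p.1.1) (ε.symm_apply_apply ⟨(g, m), hp⟩)
  exact ⟨_, k a2, fun n hn => k (a0 n hn), fun n hn => k (a1 n hn)⟩

omit [Finite G] in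
theorem brd {x y : G} (x2 : x * x = 1) (y2 : y * y = 1) (h : (x * y) ^ 3 = 1) : y * x * y = x * y * x :=
  calc _ = x * (x * y) ^ 3 * y * x := by
        rw [show x * (x * y) ^ 3 * y * x = x * x * (y * x * y) * x * (y * y) * x by simp only [pow_three, mul_assoc],
          x2, y2, one_mul, mul_one, mul_assoc _ x x, x2, mul_one]
    _ = _ := by rw [h, mul_one]

theorem rl (h : OE a ρ t ψ E) : Rl (ρ 0) (ρ 0 * a (ee 0)) ψ E := by
  obtain ⟨r2, r1⟩ := h.toFS.r2 0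
  have ri := inv_eq_of_mul_eq_one_right r2
  have rb : ρ 0 * a (ee 0) * ρ 0 = (a (ee 0))⁻¹ := by
    have := (h.rf 0).2 (ee 0)
    rwa [sv_self (by decide), h.toTA.neg, ri] at this
  have s2 : ρ 0 * a (ee 0) * (ρ 0 * a (ee 0)) = 1 := by rw [← mul_assoc, rb, inv_mul_cancel]
  have b3 : a (ee 0) * a (ee 0) = (a (ee 0))⁻¹ := eq_inv_of_mul_eq_one_left (by rw [← h.toTA.cube (ee 0), pow_three'])
  have tt := h.tt 0 1 (by decide)
  refine ⟨r2, s2, ?_, fun e => ?_, h.ps.cr, fun γ => (h.ps.cr γ).mul_left (h.ps.cb γ), h.E0, h.Er, h.mul, h.cov, h.e0, ?_⟩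
  · refine brd r2 s2 ?_
    rw [← mul_assoc, r2, one_mul, h.toTA.cube]
  · rw [← mul_assoc, r2, one_mul, rb, ← b3, left_eq_mul] at e
    exact absurd (h.inj _ e) (by decide)
  · have x : ψ (tv 1) = ρ 1 := h.ps.x 0
    have e : ψ (tv 1) * (E 1 * ρ 0) = t 0 1 := by
      rw [x, h.E1, ← mul_assoc (ρ 0), (h.rr 0 1).eq, mul_assoc _ (t 0 1), tt.ci.eq]
      calc _ = ρ 1 * ρ 1 * (ρ 0 * ρ 0) * t 0 1 := by simp only [mul_assoc]
        _ = _ := by rw [(h.toFS.r2 1).1, r2, one_mul, one_mul]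
    rw [e]
    exact brd tt.sq s2 tt.bi

end Phi

theorem OE.ph (h : OE a ρ t ψ E) (qz : O2N (zpowers (ρ 0)) ≤ Zg a ρ t) : ∃ φ, PH a ψ ρ E φ := by
  obtain ⟨φ, h1, h2, h3⟩ := (Phi.rl h).hom fun g c1 c2 => (h.mem g).1 (qz (h.cz fun w hw => by
    obtain ⟨n, hn, rfl | rfl⟩ := (h.mem w).1 hw
    exacts [(c2 n hn).symm.eq, ((c2 n hn).mul_right c1).symm.eq]))
  have u0 : φ (t8 1 0 0) = ρ 0 := by rw [h3 0 (by decide), Phi.tv0, map_one, h.E0, one_mul, one_mul]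
  refine ⟨φ, ?_, u0, h1, h2, h3, fun g hg => ?_⟩
  · refine (MonoidHom.ker_eq_bot_iff φ).1 ((simple_S8.eq_bot_or_eq_top_of_normal φ.ker inferInstance).resolve_right
      fun e => (h.toFS.r2 0).2 ?_)
    rw [← u0]
    exact (e ▸ mem_top _ : _ ∈ φ.ker)
  · obtain ⟨q, hq, γ, rfl⟩ := h.dec g (mem_centralizer_singleton_iff.1 hg)
    have k : ∀ n < 64, tv n ∈ φ.range.comap ψ := fun n hn => ⟨_, h2 n hn⟩
    have k1 : ∀ γ, γ ∈ φ.range.comap ψ := fun γ => (closure_le _).2 (by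
      rintro _ (rfl | rfl | rfl | rfl | rfl | rfl | rfl | rfl) <;> exact k _ (by decide)) (gen_S ▸ mem_top γ)
    have k2 : ∀ n < 64, E n * ρ 0 ∈ φ.range := fun n hn => by
      have := φ.range.mul_mem (φ.range.inv_mem (mem_comap.1 (k1 (tv n)))) ⟨_, h3 n hn⟩
      rwa [mul_assoc, inv_mul_cancel_left] at this
    refine mul_mem ?_ (k1 γ)
    obtain ⟨n, hn, rfl | rfl⟩ := (h.mem q).1 (qz hq)
    · exact (mul_mem_cancel_right (⟨_, u0⟩ : _ ∈ φ.range)).1 (k2 n hn)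
    · exact k2 n hn

theorem PH.w8 (h : PH a ψ ρ E φ) {l : List ℕ} (hl : ∀ n ∈ l, n < 64) : φ (w8 l) = ψ (wd l) := by
  induction l with
  | nil => exact (map_one φ).trans (map_one ψ).symm
  | cons n l ih =>
    rw [S86.w8, wd, List.map_cons, List.map_cons, List.prod_cons, List.prod_cons, map_mul, map_mul,
      h.t0 n (hl n (by simp)), ← S86.w8, ← wd, ih fun m hm => hl m (by simp [hm])]

end Cfsg.Agent.S86
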