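import Cfsg.Agent.S86.BaseB
import Cfsg.Agent.S86.Lin

set_option autoImplicit false

namespace Cfsg.Agent.S86

open Subgroup H49 Matrix F42
open Cfsg.Agent.L72 (O2N)

variable {G : Type*} [Group G] [Finite G] {a : V4 → G} {ψ ψ' : S6 →* G} {ρ : Fin 4 → G} {t : Fin 4 → Fin 4 → G}
  {e E : ℕ → G} {φ : S8 →* G}



theorem simB_ac_uniq (h : TA a) {n : G} {θ η : M4} (h1 : Ac a n θ) (h2 : Ac a n η) : θ = η :=
  bas_ext fun u => h.injective ((h1 u).symm.trans (h2 u))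

theorem simB_nil {P : Subgroup G} (hP : IsPGroup 3 P) : Group.IsNilpotent P :=
  haveI : Fact (Nat.Prime 3) := ⟨Nat.prime_three⟩
  hP.isNilpotent

theorem simB_cj (h : TA a) (g : G) : cj g (Jg a) ≤ 𝒞(cj g (Jg a)) := by
  rw [← cj_centralizer]
  exact cj_mono g h.Jg_comm

theorem simB_a (h : SM a ψ) {B : Subgroup G} (hB : IsPGroup 3 B) (hN : B ≤ 𝒩(Jg a)) (hc : B ≤ 𝒞(B))
    (h81 : Nat.card B = 81) : B ≤ Jg a := by
  classical
  haveI : Fact (Nat.Prime 3) := ⟨Nat.prime_three⟩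
  have ta : TA a := h.toTA
  have el : ∀ x ∈ B, El 3 x := fun x hx => by
    obtain ⟨k, hk⟩ := hB ⟨x, hx⟩
    exact ⟨k, by simpa using congrArg Subtype.val hk⟩
  let Θ : Set M4 := {θ | ∃ x ∈ B, Ac a x θ}
  let S : Set V4 := {u | ∀ x ∈ B, Commute x (a u)}
  by_cases hne : ∃ θ ∈ Θ, θ ≠ 1
  · exfalso
    have hs : ∀ θ ∈ Θ, Sim θ ∧ ∃ k : ℕ, θ ^ 3 ^ k = 1 := by
      rintro θ ⟨x, hx, e⟩
      obtain ⟨k, hk⟩ := el x hx
      exact ⟨h.sim x θ e, k, ta.ac_pow e hk⟩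
    have hcm : ∀ θ ∈ Θ, ∀ η ∈ Θ, θ * η = η * θ := by
      rintro θ ⟨x, hx, e⟩ η ⟨y, hy, e'⟩
      have e1 := e.mul e'
      have e2 := e'.mul e
      rw [hc hx y hy] at e2
      exact simB_ac_uniq ta e1 e2
    have h1 : ∃ u ∈ S, u ≠ 0 := by
      have hK : IsPGroup 3 (Jg a ⊔ B : Subgroup G) := IsPGroup.to_sup_of_normal_left' ta.isP hB hN
      have hA : Jg a ≠ ⊥ := fun e => by
        have := ta.card_Jg
        rw [e, card_bot] at this
        omega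
      have := inf_center_ne_bot_of_nilpotent (simB_nil hK) (le_sup_left : Jg a ≤ Jg a ⊔ B)
        (sup_le le_normalizer hN) hA
      obtain ⟨⟨y, hy1, hy2⟩, hy⟩ := (Subgroup.ne_bot_iff_exists_ne_one).1 this
      obtain ⟨u, rfl⟩ := ta.mem_Jg.1 hy1
      refine ⟨u, fun x hx => hy2 x (mem_sup_right hx), ?_⟩
      rintro rfl
      exact hy (Subtype.ext ta.zero)
    have hS : ∀ θ ∈ Θ, ∀ u ∈ S, θ *ᵥ u = u := by
      rintro θ ⟨x, hx, e⟩ u hu
      apply ta.injective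
      rw [← e u, (hu x hx).eq, mul_inv_cancel_right]
    have hle := lin_fix hs hcm hne h1 hS
    have hr : ∀ θ : M4, ∃ x, θ ∈ Θ → x ∈ B ∧ Ac a x θ := fun θ => by
      by_cases hθ : θ ∈ Θ
      · obtain ⟨x, hx, e⟩ := hθ
        exact ⟨x, fun _ => ⟨hx, e⟩⟩
      · exact ⟨1, fun e => absurd e hθ⟩
    choose r hr using hr
    have hsub : (B : Set G) ⊆ (fun p : M4 × V4 => r p.1 * a p.2) '' (Θ ×ˢ S) := by
      intro x hx
      obtain ⟨θ, e⟩ := ta.acN.1 (hN hx)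
      have hθ : θ ∈ Θ := ⟨x, hx, e⟩
      obtain ⟨r1, r2⟩ := hr θ hθ
      have hm : (r θ)⁻¹ * x ∈ B := B.mul_mem (B.inv_mem r1) hx
      obtain ⟨u, hu⟩ := h.toSt.cen3 (el _ hm) fun v => by
        have := (e v).trans (r2 v).symm
        calc (r θ)⁻¹ * x * a v = (r θ)⁻¹ * (x * a v * x⁻¹) * x := by group
          _ = a v * ((r θ)⁻¹ * x) := by rw [this]; group
      refine ⟨(θ, u), ⟨hθ, fun y hy => ?_⟩, ?_⟩
      · show Commute y (a u)
        rw [← hu]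
        exact hc hm y hy
      · show r θ * a u = x
        rw [← hu, mul_inv_cancel_left]
    have h2 : (B : Set G).ncard ≤ Θ.ncard * S.ncard := by
      rw [← Set.ncard_prod]
      exact (Set.ncard_le_ncard hsub (Set.toFinite _)).trans (Set.ncard_image_le (Set.toFinite _))
    rw [← Nat.card_coe_set_eq, SetLike.coe_sort_coe, h81] at h2
    omega
  · push Not at hne
    intro x hx
    obtain ⟨θ, e⟩ := ta.acN.1 (hN hx)
    have := hne θ ⟨x, hx, e⟩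
    subst this
    exact ta.mem_Jg.2 (h.toSt.cen3 (el x hx) fun u => by
      have := e u
      rw [one_mulVec] at this
      exact mul_inv_eq_iff_eq_mul.1 this)

theorem simB_b (h : SM a ψ) {P : Subgroup G} (hP : IsPGroup 3 P) (hA : Jg a ≤ P) : P ≤ 𝒩(Jg a) := by
  have ta : TA a := h.toTA
  have key : P ⊓ 𝒩(Jg a) = P := by
    refine eq_of_inf_norm_le_of_nilpotent (simB_nil hP) inf_le_left fun x hx => ⟨hx.1, ?_⟩
    have h1 : cj x (Jg a) ≤ P ⊓ 𝒩(Jg a) := cj_le_of_mem_norm (le_inf hA le_normalizer) hx.2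
    exact mem_norm_of_cj_le (simB_a h (isPGroup_cj.2 ta.isP) (h1.trans inf_le_right) (simB_cj ta x)
      (by rw [card_cj, ta.card_Jg]))
  exact key ▸ inf_le_right

theorem SM.uniq (h : SM a ψ) {P B : Subgroup G} (hP : IsPGroup 3 P) (hA : Jg a ≤ P) (hB : B ≤ P) (hc : B ≤ 𝒞(B))
    (h81 : Nat.card B = 81) : B ≤ Jg a := by
  exact simB_a h (hP.to_le hB) (hB.trans (simB_b h hP hA)) hc h81

theorem SM.nrmP (h : SM a ψ) {P : Subgroup G} (hP : IsPGroup 3 P) (hA : Jg a ≤ P) : 𝒩(P) ≤ 𝒩(Jg a) := by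
  intro g hg
  exact mem_norm_of_cj_le (h.uniq hP hA (cj_le_of_mem_norm hA hg) (simB_cj h.toTA g)
    (by rw [card_cj, h.toTA.card_Jg]))

theorem SM.fusS (h : SM a ψ) (S : Set V4) {g : G} (hg : ∀ u ∈ S, g * a u * g⁻¹ ∈ Jg a) :
    ∃ n θ, Ac a n θ ∧ ∀ u ∈ S, g * a u * g⁻¹ = a (θ *ᵥ u) := by
  have ta : TA a := h.toTA
  let C : Subgroup G := centralizer ((fun u => g * a u * g⁻¹) '' S)
  have h1 : Jg a ≤ C := by
    rintro x hx _ ⟨u, hu, rfl⟩
    exact ta.Jg_comm hx _ (hg u hu)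
  have h2 : cj g (Jg a) ≤ C := by
    rintro x hx _ ⟨u, -, rfl⟩
    exact simB_cj ta g hx _ (conj_mem_cj.2 (ta.mem_Jg.2 ⟨u, rfl⟩))
  obtain ⟨P, hP, h3⟩ := exists_sylowOf_ge ((isPi_singleton_iff Nat.prime_three).mpr ta.isP) h1
  obtain ⟨c, hc, h4⟩ := sylowOf_subJ hP h2
    ((isPi_singleton_iff Nat.prime_three).mpr (isPGroup_cj.mpr ta.isP))
  rw [cj_cj] at h4
  obtain ⟨θ, h6⟩ := ta.acN.1 (mem_norm_of_cj_le (h.uniq
    ((sylowOf_iff Nat.prime_three).mp hP).2.1 h3 h4 (simB_cj ta _) (by rw [card_cj, ta.card_Jg])))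
  refine ⟨_, θ, h6, fun u hu => ?_⟩
  have e : g * a u * g⁻¹ * c = c * (g * a u * g⁻¹) := hc _ ⟨u, hu, rfl⟩
  rw [← h6 u]
  calc _ = g * a u * g⁻¹ * c * c⁻¹ := by group
    _ = _ := by rw [e]; group

theorem simB_mem (h : TA a) {u v : V4} {g : G} :
    g ∈ Subgroup.closure {a u, a v} ↔ ∃ x : ZMod 3 × ZMod 3, g = a (x.1 • u + x.2 • v) := by
  constructor
  · intro hg
    induction hg using closure_induction with
    | mem x hx =>
      rcases hx with rfl | rfl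
      · exact ⟨(1, 0), by simp⟩
      · exact ⟨(0, 1), by simp⟩
    | one => exact ⟨0, by simp [h.zero]⟩
    | mul x y _ _ hx hy =>
      obtain ⟨x, rfl⟩ := hx
      obtain ⟨y, rfl⟩ := hy
      refine ⟨x + y, ?_⟩
      rw [← h.add, Prod.fst_add, Prod.snd_add, add_smul, add_smul]
      congr 1
      abel
    | inv x _ hx =>
      obtain ⟨x, rfl⟩ := hx
      refine ⟨-x, ?_⟩
      rw [← h.neg, Prod.fst_neg, Prod.snd_neg, neg_smul, neg_smul, neg_add]
  · rintro ⟨x, rfl⟩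
    rw [h.add, h.smul, h.smul]
    exact mul_mem (pow_mem (subset_closure (by simp)) _) (pow_mem (subset_closure (by simp)) _)

theorem simB_inj {u v : V4} (hu : u ⬝ᵥ u ≠ 0) (hv : v ⬝ᵥ v ≠ 0) (huv : u ⬝ᵥ v = 0) {x y : ZMod 3 × ZMod 3}
    (e : x.1 • u + x.2 • v = y.1 • u + y.2 • v) : x = y := by
  haveI : Fact (Nat.Prime 3) := ⟨Nat.prime_three⟩
  have e1 := congrArg (u ⬝ᵥ ·) e
  have e2 := congrArg (· ⬝ᵥ v) e
  simp only [dotProduct_add, dotProduct_smul, add_dotProduct, smul_dotProduct, huv, smul_eq_mul, mul_zero,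
    add_zero, zero_add] at e1 e2
  exact Prod.ext (mul_right_cancel₀ hu e1) (mul_right_cancel₀ hv e2)

theorem SM.n27 (h : SM a ψ) {u v : V4} (hu : u ⬝ᵥ u ≠ 0) (hv : v ⬝ᵥ v ≠ 0) (huv : u ⬝ᵥ v = 0) {x : G}
    (h1 : Commute x (a u)) (h2 : Commute x (a v))
    (hp : ∀ p, El 3 p → Commute p x → Commute p (a u) → Commute p (a v) → p ∈ Subgroup.closure {a u, a v}) : ¬ Big x := by
  have ta : TA a := h.toTA
  intro hbig
  set E : Subgroup G := Subgroup.closure {a u, a v} with hE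
  have hEA : E ≤ Jg a := fun g hg => by
    obtain ⟨y, rfl⟩ := (simB_mem ta).1 hg
    exact ta.mem_Jg.2 ⟨_, rfl⟩
  have hEC : E ≤ 𝒞[x] := by
    rw [hE, closure_le]
    rintro _ (rfl | rfl)
    · exact mem_cent1.2 h1.symm
    · exact mem_cent1.2 h2.symm
  obtain ⟨P, hP, h3⟩ := exists_sylowOf_ge ((isPi_singleton_iff Nat.prime_three).mpr (ta.isP.to_le hEA)) hEC
  obtain ⟨p1, p2, p3⟩ := (sylowOf_iff Nat.prime_three).mp hP
  have key : E = P := by
    refine eq_of_inf_norm_le_of_nilpotent (simB_nil p2) h3 fun p hp' => ?_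
    obtain ⟨k, hk⟩ := p2 ⟨p, hp'.1⟩
    have hk' : p ^ 3 ^ k = 1 := by simpa using congrArg Subtype.val hk
    have hm : ∀ y : ZMod 3 × ZMod 3, ∃ y' : ZMod 3 × ZMod 3,
        p * a (y.1 • u + y.2 • v) * p⁻¹ = a (y'.1 • u + y'.2 • v) := fun y =>
      (simB_mem ta).1 ((mem_normalizer_iff.1 hp'.2 _).1 ((simB_mem ta).2 ⟨y, rfl⟩))
    choose f hf using hm
    obtain ⟨n, θ, hn, hθ⟩ := h.fusS (Set.range fun y : ZMod 3 × ZMod 3 => y.1 • u + y.2 • v) (g := p) (by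
      rintro _ ⟨y, rfl⟩
      exact ta.mem_Jg.2 ⟨_, hf y⟩)
    have hf' : ∀ y : ZMod 3 × ZMod 3, θ *ᵥ (y.1 • u + y.2 • v) = (f y).1 • u + (f y).2 • v := fun y =>
      ta.injective ((hθ _ ⟨y, rfl⟩).symm.trans (hf y))
    have hit : ∀ (m : ℕ) (y : ZMod 3 × ZMod 3), p ^ m * a (y.1 • u + y.2 • v) * (p ^ m)⁻¹ =
        a ((f^[m] y).1 • u + (f^[m] y).2 • v) := by
      intro m
      induction m with
      | zero => intro y; simp
      | succ m ih =>
        intro y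
        rw [Function.iterate_succ_apply', ← hf, ← ih, pow_succ']
        group
    have hid : f^[3 ^ k] = id := by
      funext y
      have := hit (3 ^ k) y
      rw [hk', one_mul, inv_one, mul_one] at this
      exact (simB_inj hu hv huv (ta.injective this)).symm
    obtain ⟨e1, e2⟩ := lin_pair (h.sim n θ hn) hu hv huv hf' hid
    have c1 := hθ u ⟨(1, 0), by simp⟩
    have c2 := hθ v ⟨(0, 1), by simp⟩
    rw [e1] at c1
    rw [e2] at c2
    exact hp p ⟨k, hk'⟩ (mem_cent1.1 (p1 hp'.1)) (mul_inv_eq_iff_eq_mul.1 c1) (mul_inv_eq_iff_eq_mul.1 c2)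
  have hc : Nat.card E ≤ 9 := by
    have := Nat.card_le_card_of_surjective
      (fun y : ZMod 3 × ZMod 3 => (⟨a (y.1 • u + y.2 • v), (simB_mem ta).2 ⟨y, rfl⟩⟩ : E)) fun g => by
        obtain ⟨y, e⟩ := (simB_mem ta).1 g.2
        exact ⟨y, Subtype.ext e.symm⟩
    simpa using this
  have hd : 27 ∣ P.relIndex 𝒞[x] * Nat.card P := by
    have := (P.subgroupOf 𝒞[x]).index_mul_card
    rw [Nat.card_congr (subgroupOfEquivOfLe p1).toEquiv] at this
    rw [relIndex, this]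
    exact hbig
  have hco : Nat.Coprime 27 (P.relIndex 𝒞[x]) :=
    Nat.Coprime.pow_left 3 ((Nat.Prime.coprime_iff_not_dvd Nat.prime_three).2 p3)
  have := Nat.le_of_dvd Nat.card_pos (hco.dvd_of_dvd_mul_left hd)
  rw [← key] at this
  omega

end Cfsg.Agent.S86
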