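import Cfsg.Agent.S86.HH
import Cfsg.Agent.S86.Phi
import Cfsg.Agent.S86.Cls
import Cfsg.Agent.S86.ModB
import Cfsg.Agent.S86.ModA
import Cfsg.Agent.S86.SimB

/-! Control of the fusion of the transvection `ρ 0` in the subgroup `Sp₈(2)`. -/

set_option autoImplicit false

namespace Cfsg.Agent.S86

open Subgroup H49 Matrix F42
open Cfsg.Agent.L72 (O2N)

variable {G : Type*} [Group G] [Finite G] {a : V4 → G} {ψ ψ' : S6 →* G} {ρ : Fin 4 → G} {t : Fin 4 → Fin 4 → G}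
  {e E : ℕ → G} {φ : S8 →* G}

namespace Nc

theorem iso {θ : M4} (hs : Sim θ) (hm : Mono θ) : θᵀ * θ = 1 := by
  obtain ⟨ε, h1, h2, h3⟩ := hs.dot
  have h4 := h3 (ee 0) (ee 0)
  have key : ∀ k : Fin 4, ee k ⬝ᵥ ee k = 1 ∧ (-ee k) ⬝ᵥ (-ee k) = 1 := by decide +kernel
  obtain ⟨k, h | h⟩ := hm 0
  · rw [h, (key k).1, (key 0).1, mul_one] at h4
    rw [h2, ← h4, one_smul]
  · rw [h, (key k).2, (key 0).1, mul_one] at h4
    rw [h2, ← h4, one_smul]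

omit [Finite G] in
theorem conj_comm {x y : G} (g : G) (h : Commute x y) : Commute (g * x * g⁻¹) (g * y * g⁻¹) :=
  h.map (MulAut.conj g)

/-- an element of the torus that centralises a conjugate of `ρ 0` -/
theorem move (h : B4 a ψ ρ t E) {x : G} (hx : IsConj (ρ 0) x) {v : V4} (hc : Commute (a v) x) :
    ∃ g, ∃ θ : M4, g * x * g⁻¹ = ρ 0 ∧ θᵀ * θ = 1 ∧ Mono θ ∧ (θ *ᵥ v) 0 = 0 ∧ g * a v * g⁻¹ = a (θ *ᵥ v) := by
  obtain ⟨g, hg⟩ := isConj_iff.1 hx.symm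
  obtain ⟨k, hk, u, u0, hu⟩ := h.oe.h3 (x := g * a v * g⁻¹) (by rw [conj_pow, h.toTA.cube]; group)
    (hg ▸ conj_comm g hc)
  have e1 : k * g * a v * (k * g)⁻¹ = a u := by rw [← hu]; group
  obtain ⟨n, θ, hn, h1⟩ := h.toSM.fusS {v} (g := k * g) fun w hw => by
    rw [Set.mem_singleton_iff.1 hw, e1]; exact h.toTA.mem_Jg.2 ⟨u, rfl⟩
  have e2 := h1 v rfl
  refine ⟨k * g, θ, ?_, iso (h.sim n θ hn) (h.mono n θ hn), h.mono n θ hn, ?_, e2⟩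
  · calc k * g * x * (k * g)⁻¹ = k * (g * x * g⁻¹) * k⁻¹ := by group
      _ = ρ 0 := by rw [hg, hk.eq, mul_inv_cancel_right]
  · rw [← h.toTA.injective (e1.symm.trans e2)]; exact u0

/-- `w` and `ψ γ` agree modulo `O₂(C(ρ 0))` -/
def R (ψ : S6 →* G) (r w : G) (γ : S6) : Prop := w * (ψ γ)⁻¹ ∈ O2N (zpowers r)

theorem R.mul (h : B4 a ψ ρ t E) {w w' : G} {γ γ' : S6} (h1 : R ψ (ρ 0) w γ) (h2 : R ψ (ρ 0) w' γ') :
    R ψ (ρ 0) (w * w') (γ * γ') := by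
  have h3 : 𝒞[ρ 0] ≤ 𝒩(O2N (zpowers (ρ 0))) := norm_zp (h.fs.r2 0).1 ▸ L72.norm_O2N _
  have h4 := mul_mem h1 (conj_mem_of_norm h3 (mem_cent1.2 (h.ps.cr γ).symm.eq) h2)
  have e : w * w' * (ψ (γ * γ'))⁻¹ = w * (ψ γ)⁻¹ * (ψ γ * (w' * (ψ γ')⁻¹) * (ψ γ)⁻¹) := by rw [map_mul]; group
  rw [R, e]
  exact h4

theorem R.uq (h : B4 a ψ ρ t E) {w : G} {γ γ' : S6} (h1 : R ψ (ρ 0) w γ) (h2 : R ψ (ρ 0) w γ') : γ = γ' := by
  have h3 := mul_mem (inv_mem h1) h2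
  have e : (w * (ψ γ)⁻¹)⁻¹ * (w * (ψ γ')⁻¹) = ψ (γ * γ'⁻¹) := by rw [map_mul, map_inv]; group
  rw [e] at h3
  exact mul_inv_eq_one.1 (h.oe.inf h3)

omit [Finite G] in
theorem R.self (r : G) (γ : S6) : R ψ r (ψ γ) γ := by
  rw [R, mul_inv_cancel]; exact one_mem _

omit [Finite G] in
theorem phi_c (hφ : PH a ψ ρ E φ) : φ c28 = E 1 * ρ 0 := by
  rw [c28, map_mul, hφ.t0 1 (by norm_num), hφ.t1 1 (by norm_num), ← mul_assoc, ← mul_assoc, ← map_mul, tv_sq,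
    map_one, one_mul]

theorem phi_s (hφ : PH a ψ ρ E φ) : φ sw8 = ψ sw := by
  rw [sw8, hφ.w8 (by decide), SpS.sw_eq]; rfl

theorem y_sq (h : B4 a ψ ρ t E) : E 1 * ρ 0 * (E 1 * ρ 0) = 1 := by
  have h1 := h.oe.mul 1 (by norm_num) 1 (by norm_num)
  have h2 : bf 1 1 = 0 := by decide
  rw [Nat.xor_self, h.oe.E0, h2, pow_zero, one_mul] at h1
  calc E 1 * ρ 0 * (E 1 * ρ 0) = E 1 * (ρ 0 * E 1) * ρ 0 := by group
    _ = E 1 * E 1 * (ρ 0 * ρ 0) := by rw [← (h.oe.Er 1 (by norm_num)).eq]; group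
    _ = 1 := by rw [h1, (h.fs.r2 0).1, one_mul]

theorem y_ne (h : B4 a ψ ρ t E) : E 1 * ρ 0 ≠ 1 := fun e =>
  one_ne_zero (h.oe.e0 1 (by norm_num) (.inr (mul_right_cancel (e.trans (h.fs.r2 0).1.symm))))

omit [Finite G] in
theorem y_nb (h : B4 a ψ ρ t E) : ¬ Big (E 1 * ρ 0) := (h.oe.big 1 (by norm_num) one_ne_zero).2

/-- the final step: `x = y s` is not conjugate to `ρ 0` in the centraliser of `y` -/
theorem last (h : B4 a ψ ρ t E) (hs : Commute (E 1 * ρ 0) (ψ sw)) {k : G} (hk : Commute k (E 1 * ρ 0))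
    (hx : k * (E 1 * ρ 0 * ψ sw) * k⁻¹ = ρ 0) : False := by
  have y2 := y_sq h
  have hc : Commute (a cv) (E 1 * ρ 0) := by
    have e1 : ψ cc = a cv := by rw [← jm_named.1, h.ps.pjm h.toTA rfl]
    have e2 := h.oe.cov cc 1 (by norm_num)
    have e3 : act cc 1 = 1 := by
      have e4 : act (cm 2) 1 = 1 := by decide +kernel
      have e5 : act (cm 1) 1 = 1 := by decide +kernel
      have e6 := act_mul cc (cm 2) 1
      rw [e4, cc, inv_mul_cancel_right, e5] at e6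
      exact e6.symm
    rw [e3] at e2
    rw [← e1]
    exact Commute.mul_right (mul_inv_eq_iff_eq_mul.1 e2) (h.ps.cr cc).symm
  obtain ⟨T, h1, h2, -⟩ := h.syl
  have hyr : Commute (ρ 0) (E 1 * ρ 0) := (h.oe.Er 1 (by norm_num)).symm.mul_right (.refl _)
  have y1 := y_ne h
  generalize E 1 * ρ 0 = y at *
  have hN : 𝒞[y] ≤ 𝒩(O2N (zpowers y)) := norm_zp y2 ▸ L72.norm_O2N _
  have hO : O2N (zpowers y) ≤ T := by
    have h3 := T.isPGroup'.to_sup_of_normal_right' (L72.O2N_isP (zpowers y)) ((h2.trans inf_le_right).trans hN)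
    exact le_sup_right.trans (T.is_maximal' h3 le_sup_left).le
  have h4 : ρ 0 ∈ O2N (zpowers y) := h.toGl.cen y2 y1 hyr fun q hq =>
    (show Commute q (ρ 0) from mem_cent1.1 (h2.trans inf_le_left (hO hq))).symm
  have h5 : y * ψ sw ∈ O2N (zpowers y) := by
    have := conj_mem_of_norm hN (inv_mem (mem_cent1.2 hk.eq)) h4
    rw [← hx] at this
    simpa [mul_assoc] using this
  have h6 := mul_mem h5 (conj_mem_of_norm hN (mem_cent1.2 hc.eq) h5)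
  obtain ⟨s2, hr⟩ := h.toSt.rfs.1
  have e7 : sv cv cv = -cv := by decide +kernel
  have e8 : -cv + -cv = cv := by decide +kernel
  have h7 : y * ψ sw * (a cv * (y * ψ sw) * (a cv)⁻¹) = a cv := by
    calc y * ψ sw * (a cv * (y * ψ sw) * (a cv)⁻¹) = y * ψ sw * (a cv * y) * ψ sw * (a cv)⁻¹ := by group
      _ = y * (ψ sw * y) * a cv * ψ sw * (a cv)⁻¹ := by rw [hc.eq]; group
      _ = y * y * (ψ sw * a cv * ψ sw) * (a cv)⁻¹ := by rw [← hs.eq]; group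
      _ = ψ sw * a cv * (ψ sw)⁻¹ * (a cv)⁻¹ := by rw [y2, one_mul, inv_eq_of_mul_eq_one_right s2]
      _ = a cv := by rw [hr, e7, ← h.toTA.neg, ← h.add, e8]
  rw [h7] at h6
  obtain ⟨m, hm⟩ := L72.O2N_isP (zpowers y) ⟨_, h6⟩
  have h8 : orderOf (a cv) ∣ 2 ^ m := orderOf_dvd_of_pow_eq_one (congrArg Subtype.val hm)
  rw [h.toTA.ord (by decide +kernel)] at h8
  exact absurd (Nat.prime_three.dvd_of_dvd_pow h8) (by norm_num)

end Nc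

open Nc

theorem B4.na4 (h : B4 a ψ ρ t E) (hφ : PH a ψ ρ E φ) : ¬ IsConj (ρ 0) (φ a48) := by
  intro hx
  have e1 : φ (t8 1 0 0 * t8 0 1 0 * w8 [1, 8, 2, 16, 4, 32]) = a ![1, 1, 1, 1] := by
    have e2 : ee 0 + sg 0 = ![1, 1, 1, 1] := by decide +kernel
    rw [map_mul, map_mul, hφ.u0, hφ.v0, hφ.w8 (by decide), ← mul_assoc, (h.fs.r2 0).1, one_mul, ← e2, h.add,
      ← h.ps.pjm h.toTA (u := sg 0) rfl, jm_named.2.2.2, SpS.zm_eq]
    rfl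
  obtain ⟨g, θ, -, h1, h2, h3, -⟩ := move h hx (v := ![1, 1, 1, 1]) (e1 ▸ (a48_comm.map φ).symm)
  have key : ∀ k l m : Fin 4, ∀ d ∈ [ee k, -ee k], ∀ c ∈ [ee l, -ee l], ∀ c' ∈ [ee m, -ee m],
      d ⬝ᵥ c = 1 → d ⬝ᵥ c' = 1 → c ⬝ᵥ c' ≠ 0 := by decide +kernel
  obtain ⟨k, -, hk⟩ := qt_ee _ h3 ((iso_dot h1 _ _).trans (by decide +kernel))
  obtain ⟨l, hl⟩ := h2 0
  obtain ⟨m, hm⟩ := h2 1
  exact key k l m _ (by simpa using hk) _ (by simpa using hl) _ (by simpa using hm)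
    ((iso_dot h1 _ _).trans (by decide +kernel)) ((iso_dot h1 _ _).trans (by decide +kernel))
    ((iso_dot h1 _ _).trans (by decide +kernel))

theorem B4.nc4 (h : B4 a ψ ρ t E) (hφ : PH a ψ ρ E φ) : ¬ IsConj (ρ 0) (φ (c28 * sw8)) := by
  intro hx
  obtain ⟨s1, s2, s3⟩ := u8_spec
  generalize t8 0 0 1 * t8 0 0 8 * t8 1 0 8 = u8 at s1 s2 s3
  have ef : ψ ff = a fv := by rw [← jm_named.2.1, h.ps.pjm h.toTA rfl]
  have u2 : φ u8 * φ u8 = E 1 * ρ 0 := by rw [← map_mul, s1, phi_c hφ]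
  have us : Commute (φ u8) (ψ sw) := phi_s hφ ▸ s2.map φ
  have uf : Commute (φ u8) (a fv) := by
    have := s3.map φ
    rw [hφ.w8 (by decide)] at this
    rw [← ef, ff, SpF.cm1, SpF.cm2, SpF.wd_mul]
    exact this
  have sf : Commute (a fv) (ψ sw) := by
    have e1 := h.toSt.rfs.1.2 fv
    have e2 : sv cv fv = fv := by decide +kernel
    rw [e2] at e1
    exact Commute.symm (mul_inv_eq_iff_eq_mul.1 e1)
  rw [map_mul, phi_c hφ, phi_s hφ] at hx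
  generalize φ u8 = u at u2 us uf
  have ys : Commute (E 1 * ρ 0) (ψ sw) := u2 ▸ us.mul_left us
  have ux : Commute u (E 1 * ρ 0 * ψ sw) := Commute.mul_right (u2 ▸ (Commute.refl u).mul_right (.refl u)) us
  obtain ⟨g0, θ, h0, h1, -, h3, h4⟩ := move h hx (v := fv)
    (Commute.mul_right (u2 ▸ uf.symm.mul_right uf.symm) sf)
  have h5 : (θ *ᵥ fv) ⬝ᵥ (θ *ᵥ fv) = -1 := (iso_dot h1 _ _).trans (by decide +kernel)
  obtain ⟨β, hβ, h6⟩ : ∃ β, Iso0 β ∧ β *ᵥ (θ *ᵥ fv) = fv := by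
    have key : ∀ d : V4, d 0 = 0 → d ⬝ᵥ d = -1 → (qtL.any fun β => decide (β *ᵥ d = fv)) = true :=
      qt_all0 (by decide +kernel)
    exact qtL_ex (key _ h3 h5)
  obtain ⟨γ, hγ⟩ := h.toSt.iso0 hβ
  obtain ⟨g, g1, g2⟩ : ∃ g, g * (E 1 * ρ 0 * ψ sw) * g⁻¹ = ρ 0 ∧ g * a fv * g⁻¹ = a fv := by
    refine ⟨ψ γ * g0, ?_, ?_⟩
    · calc _ = ψ γ * (g0 * (E 1 * ρ 0 * ψ sw) * g0⁻¹) * (ψ γ)⁻¹ := by group
        _ = ρ 0 := by rw [h0, ← (h.ps.cr γ).eq, mul_inv_cancel_right]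
    · calc _ = ψ γ * (g0 * a fv * g0⁻¹) * (ψ γ)⁻¹ := by group
        _ = a fv := by rw [h4, hγ, h6]
  obtain ⟨q, hq, δ, hδ⟩ := h.oe.dec (g * u * g⁻¹) (g1 ▸ conj_comm g ux)
  have w1 : R ψ (ρ 0) (g * u * g⁻¹) δ := by rw [R, hδ, mul_inv_cancel_right]; exact hq
  have w2 : g * u * g⁻¹ * (g * u * g⁻¹) = g * (E 1 * ρ 0) * g⁻¹ := by rw [← u2]; group
  have w3 : Commute (g * u * g⁻¹) (ψ ff) := by rw [ef, ← g2]; exact conj_comm g uf
  have w4 : Commute δ ff := by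
    have e1 := w1.mul h (R.self (ρ 0) ff)
    rw [w3.eq] at e1
    exact e1.uq h ((R.self (ρ 0) ff).mul h w1)
  have w5 := w1.mul h w1
  rw [w2] at w5
  have w6 : δ ^ 4 = 1 := by
    have e1 := w5.mul h w5
    have e2 : g * (E 1 * ρ 0) * g⁻¹ * (g * (E 1 * ρ 0) * g⁻¹) = ψ 1 := by
      rw [map_one]
      calc _ = g * (E 1 * ρ 0 * (E 1 * ρ 0)) * g⁻¹ := by group
        _ = 1 := by rw [y_sq h]; group
    rw [e2] at e1
    rw [← e1.uq h (R.self (ρ 0) 1)]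
    simp only [pow_succ, pow_zero, one_mul, mul_assoc]
  rw [mF4 w4 w6, R, map_one, inv_one, mul_one] at w5
  have nb : ¬ Big (g * (E 1 * ρ 0) * g⁻¹) := fun hb => y_nb h (hb.conj (isConj_iff.2 ⟨g, rfl⟩).symm)
  obtain ⟨n, hn, e1 | e1⟩ := (h.oe.mem _).1 (h.qz w5)
  · by_cases n0 : n = 0
    · rw [n0, h.oe.E0] at e1
      exact y_ne h (conj_eq_one_iff.1 e1)
    · exact nb (e1 ▸ (h.oe.big n hn n0).1)
  · by_cases n0 : n = 0
    · rw [n0, h.oe.E0, one_mul] at e1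
      exact nb (by rw [e1]; exact h.big0)
    · obtain ⟨γ1, h7⟩ := wit1 hn n0
      have e2 := h.oe.cov γ1 1 (by norm_num)
      rw [h7] at e2
      have e3 := (h.ps.cr γ1).eq
      refine last h ys (k := (ψ γ1)⁻¹ * g) ?_ ?_
      · refine mul_inv_eq_iff_eq_mul.1 ?_
        calc _ = (ψ γ1)⁻¹ * (g * (E 1 * ρ 0) * g⁻¹) * ψ γ1 := by group
          _ = E 1 * (ψ γ1)⁻¹ * (ρ 0 * ψ γ1) := by rw [e1, ← e2]; group
          _ = E 1 * ρ 0 := by rw [e3]; group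
      · calc _ = (ψ γ1)⁻¹ * (g * (E 1 * ρ 0 * ψ sw) * g⁻¹ * ψ γ1) := by group
          _ = ρ 0 := by rw [g1, e3]; group

theorem B4.fus (h : B4 a ψ ρ t E) (hφ : PH a ψ ρ E φ) {g : G} (hg : g * ρ 0 * g⁻¹ ∈ φ.range) :
    ∃ k ∈ φ.range, k * ρ 0 * k⁻¹ = g * ρ 0 * g⁻¹ := by
  obtain ⟨m, hm⟩ := hg
  obtain ⟨r2, r1⟩ := h.fs.r2 0
  obtain ⟨x, hx, hc⟩ := cls8 (m := m)
    (hφ.inj (by
      rw [map_mul, hm, map_one]
      calc _ = g * (ρ 0 * ρ 0) * g⁻¹ := by group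
        _ = 1 := by rw [r2]; group))
    (fun e => r1 (conj_eq_one_iff.1 (by rw [← hm, e, map_one])))
  have h1 : IsConj (ρ 0) (φ x) := (isConj_iff.2 ⟨g, hm.symm⟩).trans (φ.map_isConj hc).symm
  simp only [List.mem_cons, List.not_mem_nil, or_false] at hx
  rcases hx with rfl | rfl | rfl | rfl | rfl | rfl
  · obtain ⟨c, hc⟩ := isConj_iff.1 hc
    exact ⟨φ c, ⟨c, rfl⟩, by rw [← hm, ← hc, map_mul, map_mul, map_inv, hφ.u0]⟩
  · rw [map_mul, hφ.u0, phi_c hφ, (h.oe.Er 1 (by norm_num)).eq, ← mul_assoc, r2, one_mul] at h1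
    exact absurd h1 (h.na2 (by norm_num))
  · rw [phi_c hφ] at h1
    exact absurd (h.big0.conj h1) (y_nb h)
  · rw [map_mul, hφ.u0, phi_s hφ] at h1
    exact absurd (h.big0.conj h1) h.toFB.ph3
  · exact absurd h1 (h.na4 hφ)
  · exact absurd h1 (h.nc4 hφ)

end Cfsg.Agent.S86
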