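import Cfsg.Agent.S86.Fs

set_option autoImplicit false

namespace Cfsg.Agent.S86

open Subgroup H49 Matrix F42
open Cfsg.Agent.L72 (O2N)

variable {G : Type*} [Group G] [Finite G] {a : V4 → G} {ψ ψ' : S6 →* G} {ρ : Fin 4 → G} {t : Fin 4 → Fin 4 → G}
  {e E : ℕ → G} {φ : S8 →* G}


namespace OA0

theorem pull (h : FS a ρ t) {Y : Subgroup G} (hY : IsPGroup 2 Y) (h0 : Y ≤ 𝒞[ρ 0]) (hn : Ig a ≤ 𝒩(Y))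
    {β : M4} (hβ : Iso0 β) {n : G} (ac : Ac a n β) (hc : Commute n (ρ 0)) {v w : V4} {y : G} (hy : y ∈ Y)
    (c1 : Commute y (a (β *ᵥ v))) (c2 : Commute y (a (β *ᵥ w))) :
    ∃ Y' : Subgroup G, IsPGroup 2 Y' ∧ Y' ≤ 𝒞[ρ 0] ∧ Ig a ≤ 𝒩(Y') ∧ Y' ≤ 𝒞[a v] ∧ Y' ≤ 𝒞[a w] ∧
      y ∈ cj n Y' ∧ cj n Y' ≤ Y := by
  have e : ∀ X : Subgroup G, cj n (cj n⁻¹ X) = X := fun X => cj_eq_iff.2 rfl
  have k : ∀ u : V4, cj n⁻¹ 𝒞[a (β *ᵥ u)] = 𝒞[a u] := fun u => by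
    rw [cj_cent1, ← ac]; congr 2; group
  have k0 : cj n⁻¹ 𝒞[ρ 0] = 𝒞[ρ 0] := by rw [cj_cent1, Fs.fix hc.inv_left]
  have nC : ∀ u : V4, Ig a ≤ 𝒩(𝒞[a u]) := fun u => norm_of_le fun g hg => by
    obtain ⟨u', -, rfl⟩ := h.toTA.mem_Ig.1 hg
    exact mem_cent1.2 (h.toTA.comm u' u)
  refine ⟨cj n⁻¹ (Y ⊓ 𝒞[a (β *ᵥ v)] ⊓ 𝒞[a (β *ᵥ w)]),
    isPGroup_cj.2 (hY.to_le (inf_le_left.trans inf_le_left)), ?_, fun g hg => ?_, ?_, ?_, ?_, ?_⟩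
  · rw [← k0]; exact cj_mono _ ((inf_le_left.trans inf_le_left).trans h0)
  · obtain ⟨u, u0, rfl⟩ := h.toTA.mem_Ig.1 hg
    have := norm_inf (norm_inf hn (nC (β *ᵥ v))) (nC (β *ᵥ w))
      (h.toTA.mem_Ig.2 ⟨β *ᵥ u, (hβ.zero u).trans u0, rfl⟩)
    rw [← cj_normalizer, ← conj_mem_cj (g := n), e, ac]
    exact this
  · exact (cj_mono _ (inf_le_left.trans inf_le_right)).trans (k v).le
  · exact (cj_mono _ inf_le_right).trans (k w).le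
  · rw [e]; exact ⟨⟨hy, mem_cent1.2 c1⟩, mem_cent1.2 c2⟩
  · rw [e]; exact inf_le_left.trans inf_le_left

theorem zp {n r y : G} {Y : Subgroup G} (hc : Commute n r) (hy : y ∈ cj n Y) (h : Y ≤ zpowers r) :
    y ∈ zpowers r := by
  have := cj_mono n h hy
  rwa [cj_zpowers, Fs.fix hc] at this

theorem iso1 {j : Fin 4} (hj : j ≠ 0) :
    ∃ β, Iso0 β ∧ β *ᵥ ee 1 = ee j ∧ (β *ᵥ ee 2) j = 0 ∧ (β *ᵥ ee 3) j = 0 := by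
  refine qtL_ex ?_
  revert j
  decide +kernel

theorem iso2 {l : V4} (l0 : l 0 = 0) (hl : l ⬝ᵥ l = -1) :
    ∃ β, Iso0 β ∧ (β *ᵥ ee 1) ⬝ᵥ l = 0 ∧ (β *ᵥ cv) ⬝ᵥ l = 0 := by
  have : ∀ b c d : ZMod 3, ![0, b, c, d] ⬝ᵥ ![0, b, c, d] = -1 → (qtL.any fun θ =>
      decide ((θ *ᵥ ee 1) ⬝ᵥ ![0, b, c, d] = 0 ∧ (θ *ᵥ cv) ⬝ᵥ ![0, b, c, d] = 0)) = true := by
    decide +kernel
  exact qtL_ex (qt_all0 (P := fun l => l ⬝ᵥ l = -1 → (qtL.any fun θ =>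
    decide ((θ *ᵥ ee 1) ⬝ᵥ l = 0 ∧ (θ *ᵥ cv) ⬝ᵥ l = 0)) = true) this l l0 hl)

theorem iso3 (k : Fin 4) {j : Fin 4} (hj : j ≠ 0) :
    ∃ β, Iso0 β ∧ (β *ᵥ zv) ⬝ᵥ sg k = 0 ∧ (β *ᵥ cv) ⬝ᵥ sg k = 0 ∧ β *ᵥ ee 1 = ee j := by
  refine qtL_ex ?_
  revert k j
  decide +kernel

omit [Finite G] in
theorem cop {Y : Subgroup G} [Finite Y] (hY : IsPGroup 2 Y) : (Nat.card Y).Coprime 3 := by
  obtain ⟨k, e⟩ := IsPGroup.iff_card.1 hY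
  rw [e]
  exact Nat.Coprime.pow_left _ (by decide)

end OA0

open OA0

theorem LC.p1 (h : LC a ρ t) {Y : Subgroup G} (hY : IsPGroup 2 Y) (h0 : Y ≤ 𝒞[ρ 0]) (hn : Ig a ≤ 𝒩(Y)) {j : Fin 4}
    (hj : j ≠ 0) {y : G} (hy : y ∈ Y) (hc : ∀ u : V4, u 0 = 0 → u j = 0 → Commute y (a u)) : y ∈ Ug a ρ t j := by
  obtain ⟨β, hβ, e1, e2, e3⟩ := iso1 hj
  obtain ⟨n, ac, c0, hU⟩ := h.toFS.iso0 hβ
  obtain ⟨Y', a1, a2, a3, a4, a5, a6, -⟩ := pull h.toFS hY h0 hn hβ ac c0 hy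
    (hc _ (hβ.zero (ee 2)) e2) (hc _ (hβ.zero (ee 3)) e3)
  rw [← hU 1 j (by decide) (Or.inl e1)]
  exact cj_mono n (h.w1 Y' a1 a2 a3 a4 a5) a6

theorem LC.p2 (h : LC a ρ t) {Y : Subgroup G} (hY : IsPGroup 2 Y) (h0 : Y ≤ 𝒞[ρ 0]) (hn : Ig a ≤ 𝒩(Y)) {l : V4}
    (l0 : l 0 = 0) (hl : l ⬝ᵥ l = -1) {y : G} (hy : y ∈ Y) (hc : ∀ u : V4, u 0 = 0 → u ⬝ᵥ l = 0 → Commute y (a u)) :
    y ∈ zpowers (ρ 0) := by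
  obtain ⟨β, hβ, e1, e2⟩ := iso2 l0 hl
  obtain ⟨n, ac, c0, -⟩ := h.toFS.iso0 hβ
  obtain ⟨Y', a1, a2, a3, a4, a5, a6, -⟩ := pull h.toFS hY h0 hn hβ ac c0 hy
    (hc _ (hβ.zero (ee 1)) e1) (hc _ (hβ.zero cv) e2)
  exact zp c0 a6 (h.w2 Y' a1 a2 a3 a4 a5)

theorem LC.p3a (h : LC a ρ t) {Y : Subgroup G} (hY : IsPGroup 2 Y) (h0 : Y ≤ 𝒞[ρ 0]) (hn : Ig a ≤ 𝒩(Y))
    (ab : Y ≤ 𝒞(Y)) (k : Fin 4) {y : G} (hy : y ∈ Y) (hc : ∀ u : V4, u 0 = 0 → u ⬝ᵥ sg k = 0 → Commute y (a u)) :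
    y ∈ zpowers (ρ 0) := by
  obtain ⟨β, hβ, e1, e2, -⟩ := iso3 k (j := 1) (by decide)
  obtain ⟨n, ac, c0, -⟩ := h.toFS.iso0 hβ
  obtain ⟨Y', a1, a2, a3, a4, a5, a6, a7⟩ := pull h.toFS hY h0 hn hβ ac c0 hy
    (hc _ (hβ.zero zv) e1) (hc _ (hβ.zero cv) e2)
  refine zp c0 a6 (h.w3a Y' a1 a2 a3 a4 a5 ?_)
  exact abelian_iff.1 (isMulCommutative_cj.1 (abelian_of_le (abelian_iff.2 ab) a7))

theorem LC.p3b (h : LC a ρ t) {Y : Subgroup G} (hY : IsPGroup 2 Y) (h0 : Y ≤ 𝒞[ρ 0]) (hn : Ig a ≤ 𝒩(Y))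
    (k : Fin 4) {y : G} (hy : y ∈ Y) (hc : ∀ u : V4, u 0 = 0 → u ⬝ᵥ sg k = 0 → Commute y (a u)) : y ∈ 𝒞(Zg a ρ t) := by
  have key : ∀ j, j ≠ 0 → y ∈ 𝒞(Ug a ρ t j) := fun j hj => by
    obtain ⟨β, hβ, e1, e2, e3⟩ := iso3 k hj
    obtain ⟨n, ac, c0, hU⟩ := h.toFS.iso0 hβ
    obtain ⟨Y', a1, a2, a3, a4, a5, a6, -⟩ := pull h.toFS hY h0 hn hβ ac c0 hy
      (hc _ (hβ.zero zv) e1) (hc _ (hβ.zero cv) e2)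
    have b1 := h.w3b Y' a1 a2 a3 a4 a5
    have b2 := cj_mono (a (ee 1)) b1
    rw [cj_eq_of_mem_norm (a3 (h.toTA.mem_Ig.2 ⟨ee 1, rfl, rfl⟩)), cj_cent1] at b2
    have b3 : Y' ≤ 𝒞(Ug a ρ t 1) := by
      refine cent_symm ((closure_le _).2 ?_)
      rintro _ (rfl | rfl | rfl)
      exacts [le_cent1_iff.1 a2, le_cent1_iff.1 b1, le_cent1_iff.1 b2]
    rw [← hU 1 j (by decide) (Or.inl e3), ← cj_centralizer]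
    exact cj_mono n b3 a6
  rw [Zg, cent_sup, cent_sup]
  exact ⟨⟨key 1 (by decide), key 2 (by decide)⟩, key 3 (by decide)⟩

theorem LC.gen (h : LC a ρ t) {Y X : Subgroup G} (hY : IsPGroup 2 Y) (h0 : Y ≤ 𝒞[ρ 0]) (hn : Ig a ≤ 𝒩(Y))
    (hr : ρ 0 ∈ X) (h1 : ∀ j, j ≠ 0 → Y ⊓ Ug a ρ t j ≤ X)
    (h3 : ∀ k, ∀ y ∈ Y, (∀ u : V4, u 0 = 0 → u ⬝ᵥ sg k = 0 → Commute y (a u)) → y ∈ X) : Y ≤ X := by
  refine hypI h.toTA (cop hY) hn fun l l0 hl y hy hc => ?_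
  rcases bas_cases (l ⬝ᵥ l) with e | e | e
  · obtain ⟨k, q⟩ := qt_sg l l0 e hl
    refine h3 k y hy fun u u0 hu => hc u u0 ?_
    rcases q with rfl | rfl
    · exact hu
    · rw [dotProduct_neg, hu, neg_zero]
  · obtain ⟨k, hk, q⟩ := qt_ee l l0 e
    refine h1 k hk ⟨hy, h.p1 hY h0 hn hk hy fun u u0 hu => hc u u0 ?_⟩
    rcases q with rfl | rfl
    · rw [Fs.dot, hu]
    · rw [dotProduct_neg, Fs.dot, hu, neg_zero]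
  · exact zpowers_le.2 hr (h.p2 hY h0 hn l0 e hy hc)

theorem LC.zle (h : LC a ρ t) {Y X : Subgroup G} (hY : IsPGroup 2 Y) (h0 : Y ≤ 𝒞[ρ 0]) (hn : Ig a ≤ 𝒩(Y))
    (hz : Y ≤ 𝒞[a zv]) (hr : ρ 0 ∈ X) (hc : Y ⊓ 𝒞[a cv] ≤ X) : Y ≤ X := by
  refine hypI h.toTA (cop hY) hn fun l l0 hl y hy hl' => ?_
  by_cases q : zv ⬝ᵥ l = 0
  · have : ∀ b c d : ZMod 3, zv ⬝ᵥ ![0, b, c, d] = 0 →
        ![0, b, c, d] ⬝ᵥ ![0, b, c, d] = -1 ∨ cv ⬝ᵥ ![0, b, c, d] = 0 := by decide +kernel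
    rcases qt_all0 (P := fun l => zv ⬝ᵥ l = 0 → l ⬝ᵥ l = -1 ∨ cv ⬝ᵥ l = 0) this l l0 q with e | e
    · exact zpowers_le.2 hr (h.p2 hY h0 hn l0 e hy hl')
    · exact hc ⟨hy, mem_cent1.2 (hl' cv rfl e)⟩
  · refine zpowers_le.2 hr (h.p2 hY h0 hn (l := fv) rfl (by decide) hy fun u u0 _ => ?_)
    have e : u = (u - (u ⬝ᵥ l * zv ⬝ᵥ l) • zv) + (u ⬝ᵥ l * zv ⬝ᵥ l) • zv := (sub_add_cancel _ _).symm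
    rw [e, h.add, h.toTA.smul]
    refine (hl' _ ?_ ?_).mul_right (Commute.pow_right (mem_cent1.1 (hz hy)) _)
    · rw [Pi.sub_apply, Pi.smul_apply, u0, show zv 0 = 0 from rfl, smul_zero, sub_zero]
    · rw [sub_dotProduct, smul_dotProduct, smul_eq_mul, mul_assoc, bas_sq _ q, mul_one, sub_self]

end Cfsg.Agent.S86
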