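import Cfsg.Agent.S86.OA0

set_option autoImplicit false

namespace Cfsg.Agent.S86

open Subgroup H49 Matrix F42
open Cfsg.Agent.L72 (O2N)

variable {G : Type*} [Group G] [Finite G] {a : V4 → G} {ψ ψ' : S6 →* G} {ρ : Fin 4 → G} {t : Fin 4 → Fin 4 → G}
  {e E : ℕ → G} {φ : S8 →* G}

namespace OA1

open scoped commutatorElement

omit [Finite G] in
theorem r_mem (j : Fin 4) : ρ 0 ∈ Ug a ρ t j := subset_closure (by simp)

omit [Finite G] in
theorem v_mem (j : Fin 4) : ρ j * t 0 j ∈ Ug a ρ t j := subset_closure (by simp)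

omit [Finite G] in
theorem U_le_Z {j : Fin 4} (hj : j ≠ 0) : Ug a ρ t j ≤ Zg a ρ t := by
  unfold Zg
  fin_cases j
  · exact absurd rfl hj
  · exact le_sup_left.trans le_sup_left
  · exact le_sup_right.trans le_sup_left
  · exact le_sup_right

omit [Finite G] in
theorem Z_le {X : Subgroup G} (hX : ∀ j : Fin 4, j ≠ 0 → Ug a ρ t j ≤ X) : Zg a ρ t ≤ X :=
  sup_le (sup_le (hX 1 (by decide)) (hX 2 (by decide))) (hX 3 (by decide))

omit [Finite G] in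
theorem ee_mem (h : TA a) {j : Fin 4} (hj : j ≠ 0) : a (ee j) ∈ Ig a :=
  h.mem_Ig.2 ⟨ee j, (qt_ee' j).2 hj, rfl⟩

theorem U_r (h : LC a ρ t) {j : Fin 4} (hj : j ≠ 0) : Ug a ρ t j ≤ 𝒞[ρ 0] :=
  (h.toFS.U_comm hj).1.trans (cent_le_cent1 (r_mem j))

theorem dich (h : LC a ρ t) {Y : Subgroup G} (hn : Ig a ≤ 𝒩(Y)) {j : Fin 4} (hj : j ≠ 0) :
    Y ⊓ Ug a ρ t j ≤ zpowers (ρ 0) ∨ Ug a ρ t j ≤ Y ⊔ zpowers (ρ 0) := by
  by_cases hc : Y ⊓ Ug a ρ t j ≤ zpowers (ρ 0)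
  · exact Or.inl hc
  right
  obtain ⟨y, hy, hy'⟩ := SetLike.not_le_iff_exists.1 hc
  have hg := ee_mem h.toTA hj
  have hv : ρ j * t 0 j ∈ Y :=
    three_mem (h.toFS.v2 hj.symm).1 (h.toFS.r2 0).1 (mem_cent1.1 (U_r h hj (v_mem j)))
      (mem_cent1.1 (h.toFS.Ig_le hg)) (h.toTA.cube _) (h.nr 0 j hj.symm) (hn hg) hy.1 hy.2 hy'
  refine (closure_le _).2 ?_
  rintro x (rfl | rfl | rfl)
  · exact mem_sup_right (mem_zpowers _)
  · exact mem_sup_left hv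
  · exact mem_sup_left (conj_mem_of_norm hn hg hv)

theorem Q_r (h : LC a ρ t) : O2N (zpowers (ρ 0)) ≤ 𝒞[ρ 0] := by
  rw [← norm_zp (h.toFS.r2 0).1]
  exact L72.O2N_le _

theorem r_Q (h : LC a ρ t) : 𝒞[ρ 0] ≤ 𝒩(O2N (zpowers (ρ 0))) := by
  rw [← norm_zp (h.toFS.r2 0).1]
  exact L72.norm_O2N _

theorem zp_Q (h : LC a ρ t) : zpowers (ρ 0) ≤ O2N (zpowers (ρ 0)) :=
  L72.self_le_O2N (isP_zp (h.toFS.r2 0).1)

theorem I_Q (h : LC a ρ t) : Ig a ≤ 𝒩(O2N (zpowers (ρ 0))) := h.toFS.Ig_le.trans (r_Q h)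

theorem tr (h : LC a ρ t) {i k : Fin 4} (hi : i ≠ 0) (hk : k ≠ 0) (hik : i ≠ k) :
    ∃ n, Commute n (ρ 0) ∧ cj n (Ug a ρ t 1) = Ug a ρ t i ∧ cj n (Ug a ρ t 2) = Ug a ρ t k := by
  obtain ⟨θ, hθ, e1, e2⟩ := iso0_ee hi hk hik
  obtain ⟨n, -, c, hn⟩ := h.toFS.iso0 hθ
  exact ⟨n, c, hn 1 i (by decide) (Or.inl e1), hn 2 k (by decide) (Or.inl e2)⟩

theorem tr1 (h : LC a ρ t) {i : Fin 4} (hi : i ≠ 0) : ∃ n, Commute n (ρ 0) ∧ cj n (Ug a ρ t 1) = Ug a ρ t i := by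
  obtain ⟨k, hk, hik⟩ : ∃ k : Fin 4, k ≠ 0 ∧ i ≠ k := by
    revert i
    decide
  obtain ⟨n, c, e1, -⟩ := tr h hi hk hik
  exact ⟨n, c, e1⟩

theorem U_Q (h : LC a ρ t) {j : Fin 4} (hj : j ≠ 0) : Ug a ρ t j ≤ O2N (zpowers (ρ 0)) := by
  have key : ∀ i : Fin 4, i ≠ 0 → (Ug a ρ t i ≤ O2N (zpowers (ρ 0)) ↔ Ug a ρ t 1 ≤ O2N (zpowers (ρ 0))) := by
    intro i hi
    obtain ⟨n, c, e1⟩ := tr1 h hi
    rw [← e1]
    exact cj_le_iff_of_mem_norm (r_Q h (mem_cent1.2 c))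
  rw [key j hj]
  by_contra hc
  have h1 : (1 : Fin 4) ≠ 0 := by decide
  have hr : zpowers (ρ 0) ≤ 𝒞(Ug a ρ t 1) := (zpowers_le.2 (r_mem 1)).trans (h.toFS.U_comm h1).1
  have hQ : O2N (zpowers (ρ 0)) ≤ 𝒞(Ug a ρ t 1) := by
    refine h.gen (L72.O2N_isP _) (Q_r h) (I_Q h) (hr (mem_zpowers _)) (fun i hi => ?_) fun k y hy hyc => ?_
    · rcases dich h (I_Q h) hi with d | d
      · exact d.trans hr
      · exact absurd ((key i hi).1 (d.trans (sup_le le_rfl (zp_Q h)))) hc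
    · exact cent_anti (U_le_Z h1) (h.p3b (L72.O2N_isP _) (Q_r h) (I_Q h) k hy hyc)
  exact hc fun x hx => h.toGl.cen (h.toFS.r2 0).1 (h.toFS.r2 0).2 (mem_cent1.1 (U_r h h1 hx))
    fun q hq => hQ hq x hx

theorem sg3 : ∀ k : Fin 4, sg k 3 * sg k 3 = 1 := by decide

theorem span3 (l : V4) (hl : l 3 * l 3 = 1) (u : V4) (u0 : u 0 = 0) :
    ∃ (u' : V4) (c : ZMod 3), u' 0 = 0 ∧ u' ⬝ᵥ l = 0 ∧ u = u' + c • ee 3 := by
  refine ⟨u - ((u ⬝ᵥ l) * l 3) • ee 3, (u ⬝ᵥ l) * l 3, ?_, ?_, by simp⟩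
  · simp [ee, u0]
  · rw [sub_dotProduct, smul_dotProduct, ee, single_dotProduct, one_mul, smul_eq_mul, mul_assoc, hl, mul_one, sub_self]

theorem fix3 (h : LC a ρ t) {Y : Subgroup G} (hY : IsPGroup 2 Y) (h0 : Y ≤ 𝒞[ρ 0]) (hn : Ig a ≤ 𝒩(Y))
    (h3 : Y ≤ 𝒞[a (ee 3)]) {l : V4} (hl : l 3 * l 3 = 1) {y : G} (hy : y ∈ Y)
    (hc : ∀ u : V4, u 0 = 0 → u ⬝ᵥ l = 0 → Commute y (a u)) : y ∈ zpowers (ρ 0) := by
  refine h.p2 hY h0 hn (l := cv) rfl (by decide) hy fun u u0 _ => ?_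
  obtain ⟨u', c, e0, e1, rfl⟩ := span3 l hl u u0
  rw [h.add, h.toTA.smul]
  exact (hc u' e0 e1).mul_right (Commute.pow_right (mem_cent1.1 (h3 hy)) _)

omit [Finite G] in
theorem three_comm {r v g y : G} (r2 : r * r = 1) (r1 : r ≠ 1) (vr : Commute v r) (gr : Commute g r) (gy : Commute g y)
    (nr : nrm v g = 1) (h : ⁅v, y⁆ ∈ zpowers r) : Commute v y := by
  rcases (L72.mem_zpowers_two r2).1 h with e | e
  · exact commutatorElement_eq_one_iff_commute.1 e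
  exfalso
  have e1 : v * y = r * y * v := by
    rw [← e, commutatorElement_def]
    group
  have step : ∀ c : G, Commute c r → Commute c y → c * v * c⁻¹ * y = r * y * (c * v * c⁻¹) := by
    intro c cr cy
    calc c * v * c⁻¹ * y = c * v * (c⁻¹ * y) := by group
      _ = c * (v * y) * c⁻¹ := by rw [cy.inv_left.eq]; group
      _ = (c * r) * y * v * c⁻¹ := by rw [e1]; group
      _ = r * (c * y) * v * c⁻¹ := by rw [cr.eq]; group
      _ = r * y * (c * v * c⁻¹) := by rw [cy.eq]; group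
  have e2 := step g gr gy
  have e3 := step (g * g) (gr.mul_left gr) (gy.mul_left gy)
  have c2 : Commute (g * v * g⁻¹) r := (gr.mul_left vr).mul_left gr.inv_left
  have e4 : nrm v g * y = r * y * nrm v g := by
    unfold nrm
    generalize g * g * v * (g * g)⁻¹ = w at e3 ⊢
    generalize g * v * g⁻¹ = z at e2 c2 ⊢
    calc v * z * w * y = v * z * (w * y) := by group
      _ = v * (z * r) * y * w := by rw [e3]; group
      _ = (v * r) * (z * y) * w := by rw [c2.eq]; group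
      _ = r * (v * r) * y * z * w := by rw [e2]; nth_rewrite 1 [vr.eq]; simp only [mul_assoc]
      _ = (r * r) * (v * y) * z * w := by rw [vr.eq]; simp only [mul_assoc]
      _ = r * y * (v * z * w) := by rw [r2, e1]; group
  rw [nr, one_mul, mul_one] at e4
  exact r1 (mul_eq_right.1 e4.symm)

theorem U12 (h : LC a ρ t) : Ug a ρ t 1 ≤ 𝒞(Ug a ρ t 2) := by
  have h1 : (1 : Fin 4) ≠ 0 := by decide
  have h2 : (2 : Fin 4) ≠ 0 := by decide
  have h3 : (3 : Fin 4) ≠ 0 := by decide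
  have r2 := (h.toFS.r2 0).1
  set D := ⁅Ug a ρ t 1, Ug a ρ t 2⁆ with hD
  have DQ : D ≤ O2N (zpowers (ρ 0)) := (commutator_mono (U_Q h h1) (U_Q h h2)).trans der_le
  have D2 : IsPGroup 2 D := (L72.O2N_isP _).to_le DQ
  have Dr : D ≤ 𝒞[ρ 0] := DQ.trans (Q_r h)
  have DI : Ig a ≤ 𝒩(D) := norm_commutator (h.toFS.U_norm h1) (h.toFS.U_norm h2)
  have D3 : D ≤ 𝒞[a (ee 3)] :=
    (commutator_mono (h.toFS.U_cen h1 (by decide) (by decide)) (h.toFS.U_cen h2 (by decide) (by decide))).trans der_le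
  obtain ⟨n, c, e1, e2⟩ := tr h h2 h1 (by decide)
  have nD : cj n D = D := by rw [hD, cj_commutator, e1, e2, commutator_comm]
  have nr : cj n (zpowers (ρ 0)) = zpowers (ρ 0) := by rw [cj_zpowers, c.eq, mul_inv_cancel_right]
  rcases dich h DI h1 with d | d
  · have d2 : D ⊓ Ug a ρ t 2 ≤ zpowers (ρ 0) := by
      rw [← nD, ← e1, ← cj_inf, ← nr]
      exact cj_mono _ d
    have Dz : D ≤ zpowers (ρ 0) := by
      refine h.gen D2 Dr DI (mem_zpowers _) (fun j hj => ?_) fun k y hy hc => ?_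
      · fin_cases j
        · exact absurd rfl hj
        · exact d
        · exact d2
        · intro y hy
          refine fix3 h D2 Dr DI D3 (l := ee 3) (by decide) hy.1 fun u u0 u3 => ?_
          rw [ee, dotProduct_single, mul_one] at u3
          exact mem_cent1.1 (h.toFS.U_cen h3 u0 u3 hy.2)
      · exact fix3 h D2 Dr DI D3 (l := sg k) (sg3 k) hy hc
    refine cent_symm fun y hy => ?_
    have gy : Commute (a (ee 1)) y := (mem_cent1.1 (h.toFS.U_cen h2 (by decide) (by decide) hy)).symm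
    have vy : Commute (ρ 1 * t 0 1) y :=
      three_comm r2 (h.toFS.r2 0).2 (mem_cent1.1 (U_r h h1 (v_mem 1))) (mem_cent1.1 (h.toFS.Ig_le (ee_mem h.toTA h1))) gy
        (h.nr 0 1 h1.symm) (Dz (commutator_mem_commutator (v_mem 1) hy))
    refine le_cent1_iff.1 ((closure_le _).2 ?_)
    rintro x (rfl | rfl | rfl)
    · exact mem_cent1.2 (mem_cent1.1 (U_r h h2 hy)).symm
    · exact mem_cent1.2 vy
    · exact mem_cent1.2 ((gy.mul_left vy).mul_left gy.inv_left)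
  · have d2 : Ug a ρ t 2 ≤ D ⊔ zpowers (ρ 0) := by
      rw [← nD, ← e1, ← nr, ← cj_sup]
      exact cj_mono _ d
    have zc : zpowers (ρ 0) ≤ 𝒞(D) := zpowers_le.2 (le_cent1_iff.1 Dr)
    have DD : D ≤ ⁅D, D⁆ := by
      refine (commutator_mono d d2).trans (commutator_le.2 fun x hx y hy => ?_)
      obtain ⟨x1, hx1, x2, hx2, rfl⟩ := (mem_sup_of_norm_left (norm_of_cent zc)).1 hx
      obtain ⟨y1, hy1, y2, hy2, rfl⟩ := (mem_sup_of_norm_left (norm_of_cent zc)).1 hy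
      have c1 : Commute y1 x2 := zc hx2 y1 hy1
      have c2 : Commute x1 y2 := zc hy2 x1 hx1
      have c3 : Commute y1 y2 := zc hy2 y1 hy1
      have c4 : Commute x2 y2 := by
        obtain ⟨i, rfl⟩ := hx2
        obtain ⟨j, rfl⟩ := hy2
        exact Commute.zpow_zpow_self _ _ _
      have : ⁅x1 * x2, y1 * y2⁆ = ⁅x1, y1⁆ := by
        have c5 : x2 * (y1 * y2) * x2⁻¹ = y1 * y2 := by
          rw [(c1.symm.mul_right c4).eq, mul_inv_cancel_right]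
        calc ⁅x1 * x2, y1 * y2⁆ = x1 * (x2 * (y1 * y2) * x2⁻¹) * x1⁻¹ * (y1 * y2)⁻¹ := by
              rw [commutatorElement_def]; group
          _ = x1 * y1 * (y2 * x1⁻¹ * y2⁻¹) * y1⁻¹ := by rw [c5]; group
          _ = ⁅x1, y1⁆ := by
              rw [← c2.inv_left.eq, mul_inv_cancel_right, commutatorElement_def]
      rw [this]
      exact commutator_mem_commutator hx1 hy1
    refine commutator_eq_bot_iff.1 ?_
    by_contra hb
    haveI : Fact (Nat.Prime 2) := ⟨Nat.prime_two⟩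
    haveI := D2.isNilpotent
    exact (der_lt_of_solvable inferInstance hb).not_ge DD

theorem ZZ (h : LC a ρ t) : Zg a ρ t ≤ 𝒞(Zg a ρ t) := by
  refine Z_le fun i hi => cent_symm (Z_le fun k hk => ?_)
  by_cases hik : k = i
  · subst hik
    exact (h.toFS.U_comm hk).1
  obtain ⟨n, -, e1, e2⟩ := tr h hk hi hik
  rw [← e1, ← e2, ← cj_centralizer]
  exact cj_mono _ (U12 h)

theorem Z_eq (h : LC a ρ t) : Zg a ρ t = O2N (zpowers (ρ 0)) ⊓ 𝒞(O2N (zpowers (ρ 0))) := by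
  have rZ : ρ 0 ∈ Zg a ρ t := U_le_Z (j := 1) (by decide) (r_mem 1)
  refine le_antisymm (le_inf (Z_le fun j hj => U_Q h hj) (cent_symm ?_)) ?_
  · exact h.gen (L72.O2N_isP _) (Q_r h) (I_Q h) (ZZ h rZ)
      (fun j hj => inf_le_right.trans ((U_le_Z hj).trans (ZZ h)))
      fun k y hy hc => h.p3b (L72.O2N_isP _) (Q_r h) (I_Q h) k hy hc
  · have Y2 : IsPGroup 2 (O2N (zpowers (ρ 0)) ⊓ 𝒞(O2N (zpowers (ρ 0))) : Subgroup G) :=
      (L72.O2N_isP _).to_le inf_le_left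
    have Yr := (inf_le_left : O2N (zpowers (ρ 0)) ⊓ 𝒞(O2N (zpowers (ρ 0))) ≤ _).trans (Q_r h)
    have YI := norm_inf (I_Q h) (norm_cent (I_Q h))
    exact h.gen Y2 Yr YI rZ (fun j hj => inf_le_right.trans (U_le_Z hj)) fun k y hy hc =>
      zpowers_le.2 rZ (h.p3a Y2 Yr YI (inf_le_right.trans (cent_anti inf_le_left)) k hy hc)

end OA1

theorem LC.lz0 (h : LC a ρ t) : Zg a ρ t ≤ 𝒞(Zg a ρ t) ∧ 𝒞[ρ 0] ≤ 𝒩(Zg a ρ t) ∧ Zg a ρ t ≤ O2N (zpowers (ρ 0)) := by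
  refine ⟨OA1.ZZ h, ?_, OA1.Z_le fun j hj => OA1.U_Q h hj⟩
  rw [OA1.Z_eq h]
  exact norm_inf (OA1.r_Q h) (norm_cent (OA1.r_Q h))

end Cfsg.Agent.S86
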