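import Cfsg.Agent.S86.BaseB
import Cfsg.Agent.S86.ModC

set_option autoImplicit false

namespace Cfsg.Agent.S86

open Subgroup H49 Matrix F42
open Cfsg.Agent.L72 (O2N)

variable {G : Type*} [Group G] [Finite G] {a : V4 → G} {ψ ψ' : S6 →* G} {ρ : Fin 4 → G} {t : Fin 4 → Fin 4 → G}
  {e E : ℕ → G} {φ : S8 →* G}

namespace OmB

/-- the part of `M` centralised by the kernel of `l` lies in `N` -/
def Kl (a : V4 → G) (M N : Subgroup G) (l : V4) : Prop :=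
  ∀ y ∈ M, (∀ u : V4, u 0 = 0 → u ⬝ᵥ l = 0 → Commute y (a u)) → y ∈ N

omit [Finite G] in
theorem back {L N : Subgroup G} (nN : L ≤ 𝒩(N)) {g y : G} (hg : g ∈ L) (h : g⁻¹ * y * g ∈ N) : y ∈ N := by
  have := conj_mem_of_norm nN hg h
  rwa [show g * (g⁻¹ * y * g) * g⁻¹ = y by group] at this

omit [Finite G] in
theorem comm_back {g y x : G} (h : Commute y (g * x * g⁻¹)) : Commute (g⁻¹ * y * g) x := by
  have := h.eq
  rw [Commute, SemiconjBy]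
  calc g⁻¹ * y * g * x = g⁻¹ * (y * (g * x * g⁻¹)) * g := by group
    _ = g⁻¹ * (g * x * g⁻¹ * y) * g := by rw [this]
    _ = x * (g⁻¹ * y * g) := by group

theorem Kl.tp (h : St a ψ) {M N : Subgroup G} (nN : ψ.range ≤ 𝒩(N)) (nM : ψ.range ≤ 𝒩(M)) {l : V4}
    (k : Kl a M N l) {β : M4} (hβ : Iso0 β) : Kl a M N (β *ᵥ l) := by
  intro y hy hc
  obtain ⟨γ, hγ⟩ := h.iso0 hβ
  refine back nN ⟨γ, rfl⟩ (k _ (conj_mem_of_norm' nM ⟨γ, rfl⟩ hy) fun u u0 ul => comm_back ?_)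
  rw [hγ u]
  exact hc _ ((hβ.zero u).trans u0) ((iso_dot hβ.1 _ _).trans ul)

theorem orb : ∀ l : V4, l 0 = 0 → l ≠ 0 →
    ∃ β, Iso0 β ∧ (β *ᵥ ee 1 = l ∨ β *ᵥ cv = l ∨ β *ᵥ sg 3 = l) := by
  have k : ∀ b c d : ZMod 3, (![0, b, c, d] : V4) ≠ 0 → (qtL.any fun β =>
      decide (β *ᵥ ee 1 = ![0, b, c, d] ∨ β *ᵥ cv = ![0, b, c, d] ∨ β *ᵥ sg 3 = ![0, b, c, d])) = true := by
    decide +kernel
  intro l l0 hl
  refine qtL_ex ?_
  revert hl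
  exact qt_all0 (P := fun l => l ≠ 0 → (qtL.any fun β =>
      decide (β *ᵥ ee 1 = l ∨ β *ᵥ cv = l ∨ β *ᵥ sg 3 = l)) = true) k l l0

theorem orb1 : ∃ β, Iso0 β ∧ β *ᵥ sg 3 = sg 1 := qtL_ex (by decide +kernel)

theorem span1 : ∀ u : V4, u 0 = 0 → u ⬝ᵥ sg 1 = 0 → ∃ i j : ZMod 3, u = i • zv + j • cv :=
  qt_all0 (by decide +kernel)

omit [Finite G] in
theorem comm_span (h : TA a) {y : G} {u v : V4} (hu : Commute y (a u)) (hv : Commute y (a v)) (i j : ZMod 3) :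
    Commute y (a (i • u + j • v)) := by
  rw [h.add, h.smul, h.smul]
  exact (hu.pow_right _).mul_right (hv.pow_right _)

theorem cop {M : Subgroup G} (hM : IsPGroup 2 M) : (Nat.card M).Coprime 3 := by
  haveI : Fact (Nat.Prime 2) := ⟨Nat.prime_two⟩
  obtain ⟨k, hk⟩ := IsPGroup.iff_card.1 hM
  rw [hk]
  exact Nat.Coprime.pow_left _ (by norm_num)

theorem Ig_le (h : St a ψ) : Ig a ≤ ψ.range := by
  rw [← h.Ig_eq]
  exact map_le_range _ _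

omit [Finite G] in
theorem Ig_cen (h : TA a) (v : V4) : Ig a ≤ 𝒩(𝒞[a v]) := by
  refine norm_of_le fun g hg => ?_
  obtain ⟨u, -, rfl⟩ := h.mem_Ig.1 hg
  exact mem_cent1.2 (h.comm u v)

/-- a non-trivial quotient of a 2-group has a centre -/
theorem cen_mod {T Z : Subgroup G} (hT : IsPGroup 2 T) (hn : T ≤ 𝒩(Z)) (hZ : ¬ T ≤ Z) :
    ∃ t ∈ T, t ∉ Z ∧ ∀ p ∈ T, t * p * t⁻¹ * p⁻¹ ∈ Z := by
  haveI : Fact (Nat.Prime 2) := ⟨Nat.prime_two⟩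
  haveI := normal_subgroupOf hn
  haveI : Nontrivial (T ⧸ Z.subgroupOf T) := by
    obtain ⟨x, hx, hx'⟩ := SetLike.not_le_iff_exists.1 hZ
    exact ⟨⟨((⟨x, hx⟩ : T) : T ⧸ Z.subgroupOf T), 1, fun e => hx' (mem_subgroupOf.1 ((QuotientGroup.eq_one_iff _).1 e))⟩⟩
  haveI := (hT.to_quotient (Z.subgroupOf T)).center_nontrivial
  obtain ⟨⟨c, hc⟩, c1⟩ := exists_ne (1 : center (T ⧸ Z.subgroupOf T))
  obtain ⟨x, rfl⟩ := QuotientGroup.mk_surjective c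
  refine ⟨x, x.2, fun hx => c1 (Subtype.ext ((QuotientGroup.eq_one_iff _).2 (mem_subgroupOf.2 hx))), fun p hp => ?_⟩
  have e := mem_center_iff.1 hc ((⟨p, hp⟩ : T) : T ⧸ Z.subgroupOf T)
  have : ((x * ⟨p, hp⟩ * x⁻¹ * (⟨p, hp⟩ : T)⁻¹ : T) : T ⧸ Z.subgroupOf T) = 1 := by
    simp only [QuotientGroup.mk_mul, QuotientGroup.mk_inv]
    rw [← e]
    group
  exact mem_subgroupOf.1 ((QuotientGroup.eq_one_iff _).1 this)

/-- the second centre modulo `Z` -/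
def Z2 (Q Z : Subgroup G) (hn : Q ≤ 𝒩(Z)) : Subgroup G where
  carrier := {q | q ∈ Q ∧ ∀ p ∈ Q, q * p * q⁻¹ * p⁻¹ ∈ Z}
  one_mem' := ⟨one_mem _, fun p _ => by simpa using one_mem Z⟩
  mul_mem' := by
    rintro x y ⟨hx, hx'⟩ ⟨hy, hy'⟩
    refine ⟨mul_mem hx hy, fun p hp => ?_⟩
    have := mul_mem (conj_mem_of_norm hn hx (hy' p hp)) (hx' p hp)
    rwa [show x * (y * p * y⁻¹ * p⁻¹) * x⁻¹ * (x * p * x⁻¹ * p⁻¹) = x * y * p * (x * y)⁻¹ * p⁻¹ by group] at this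
  inv_mem' := by
    rintro x ⟨hx, hx'⟩
    refine ⟨inv_mem hx, fun p hp => ?_⟩
    have := conj_mem_of_norm' hn hx (inv_mem (hx' p hp))
    rwa [show x⁻¹ * (x * p * x⁻¹ * p⁻¹)⁻¹ * x = x⁻¹ * p * x⁻¹⁻¹ * p⁻¹ by group] at this

omit [Finite G] in
theorem Z2_norm {Q Z L : Subgroup G} (hn : Q ≤ 𝒩(Z)) (h1 : L ≤ 𝒩(Q)) (h2 : L ≤ 𝒩(Z)) : L ≤ 𝒩(Z2 Q Z hn) := by
  refine le_norm_iff.2 fun g hg q hq => ⟨conj_mem_of_norm h1 hg hq.1, fun p hp => ?_⟩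
  have := conj_mem_of_norm h2 hg (hq.2 _ (conj_mem_of_norm' h1 hg hp))
  rwa [show g * (q * (g⁻¹ * p * g) * q⁻¹ * (g⁻¹ * p * g)⁻¹) * g⁻¹ = g * q * g⁻¹ * p * (g * q * g⁻¹)⁻¹ * p⁻¹ by
    group] at this

end OmB

open OmB

theorem OM.star {r v : G} {P P' : Subgroup G} (h : OM a ψ r v P P') {N M : Subgroup G} (hM : IsPGroup 2 M)
    (hr : M ≤ 𝒞[r]) (rN : r ∈ N) (nN : ψ.range ≤ 𝒩(N)) (nM : ψ.range ≤ 𝒩(M))
    (hp : M ⊓ 𝒞[a fv] ⊓ 𝒞[a (sg 3)] ≤ N) : M ≤ N := by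
  have st := h.toSt
  have ta := h.toTA
  have IM : Ig a ≤ 𝒩(M) := (Ig_le st).trans nM
  have k3 : Kl a M N (sg 3) := fun y hy hc =>
    hp ⟨⟨hy, mem_cent1.2 (hc fv rfl (by decide +kernel))⟩, mem_cent1.2 (hc (sg 3) rfl (by decide +kernel))⟩
  have k1 : Kl a M N (ee 1) := fun y hy hc => by
    have := h.o1 (M ⊓ 𝒞[a fv] ⊓ 𝒞[a cv]) (hM.to_le (inf_le_left.trans inf_le_left))
      ((inf_le_left.trans inf_le_left).trans hr) (norm_inf (norm_inf IM (Ig_cen ta _)) (Ig_cen ta _))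
      (inf_le_left.trans inf_le_right) inf_le_right
    exact (zpowers_le.2 rN) (this
      ⟨⟨hy, mem_cent1.2 (hc fv rfl (by decide +kernel))⟩, mem_cent1.2 (hc cv rfl (by decide +kernel))⟩)
  have k3' : Kl a M N (sg 1) := by
    obtain ⟨β, hβ, e⟩ := orb1
    exact e ▸ k3.tp st nN nM hβ
  have ez : ψ zp = a zv := by rw [← jm_named.2.2.1, st.pjm rfl]
  have ec : ψ cc = a cv := by rw [← jm_named.1, st.pjm rfl]
  have k2 : Kl a M N cv := fun y hy hc => by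
    have xq := XQ_map h.ψi xq_m
    have z3 : orderOf (ψ zp) = 3 := by rw [orderOf_injective ψ h.ψi, ord_zp]
    have cz : ψ cc ∉ zpowers (ψ zp) := by
      rw [← MonoidHom.map_zpowers]
      rintro ⟨x, hx, e⟩
      exact cc_m.2.1 (h.ψi e ▸ hx)
    refine genQ (U := M ⊓ 𝒞[ψ zp]) (X := N) xq z3 (cop (hM.to_le inf_le_left))
      (norm_inf ((map_le_range _ _).trans nM) (norm_of_le xq.Qc)) inf_le_right (fun q hq qz => ?_)
      ⟨hy, mem_cent1.2 (ez ▸ (hc zv rfl (by decide +kernel)).eq)⟩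
    rintro x ⟨⟨hx, xz⟩, xq'⟩
    obtain ⟨g, hg, w⟩ := xq.tr _ (mem_map_of_mem ψ cc_m.1) q hq cz qz
    have gL : g ∈ ψ.range := map_le_range _ _ hg
    have cz' : Commute x (ψ zp) := mem_cent1.1 xz
    have c1 : Commute (g⁻¹ * x * g) (a zv) := by
      refine comm_back ?_
      rw [← ez, mem_cent1.1 (xq.Rc hg), mul_inv_cancel_right]
      exact cz'
    have c2 : Commute (g⁻¹ * x * g) (a cv) := by
      refine comm_back ?_
      obtain ⟨k, hk⟩ := mem_zpowers_iff.1 w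
      rw [← ec, show g * ψ cc * g⁻¹ = ψ zp ^ k * q by rw [hk]; group]
      exact (cz'.zpow_right k).mul_right (mem_cent1.1 xq')
    refine back nN gL (k3' _ (conj_mem_of_norm' nM gL hx) fun u u0 ul => ?_)
    obtain ⟨i, j, rfl⟩ := span1 u u0 ul
    exact comm_span ta c1 c2 i j
  refine hypI ta (cop hM) IM fun l l0 hl => ?_
  obtain ⟨β, hβ, e | e | e⟩ := orb l l0 hl
  exacts [e ▸ k1.tp st nN nM hβ, e ▸ k2.tp st nN nM hβ, e ▸ k3.tp st nN nM hβ]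

theorem OM.Lr {r v : G} {P P' : Subgroup G} (h : OM a ψ r v P P') : ψ.range ≤ 𝒩(zpowers r) := by
  rw [norm_zp h.q8.sq]
  rintro _ ⟨γ, rfl⟩
  exact mem_cent1.2 (h.rL γ).symm

theorem OM.dich {r v : G} {P P' : Subgroup G} (h : OM a ψ r v P P') {Y : Subgroup G} (hY : IsPGroup 2 Y)
    (hr : Y ≤ 𝒞[r]) (nY : ψ.range ≤ 𝒩(Y)) : Y ≤ zpowers r ∨
      (P ≤ Y ∧ ∃ g ∈ Y, ¬ Commute g (a (ee 1) * g * (a (ee 1))⁻¹)) := by
  by_cases k : Y ⊓ 𝒞[a fv] ⊓ 𝒞[a (sg 3)] ≤ zpowers r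
  · exact .inl (h.star hY hr (mem_zpowers r) h.Lr nY k)
  · obtain ⟨g, hg, hg'⟩ := SetLike.not_le_iff_exists.1 k
    have gP : g ∈ P := h.o3 _ (hY.to_le (inf_le_left.trans inf_le_left)) ((inf_le_left.trans inf_le_left).trans hr)
      (inf_le_left.trans inf_le_right) inf_le_right hg
    refine .inr ⟨(h.gen g gP hg').trans ((closure_le _).2 ?_), g, hg.1.1, h.nc g gP hg'⟩
    rintro x (rfl | rfl)
    · exact hg.1.1
    · exact conj_mem_of_norm nY ⟨cm 0, h.c 0⟩ hg.1.1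

theorem OM.cls {r v : G} {P P' : Subgroup G} (h : OM a ψ r v P P') : P ≤ O2N (zpowers r) ∧
    (∀ q ∈ O2N (zpowers r), (∀ p ∈ O2N (zpowers r), Commute q p) → q ∈ zpowers r) ∧
    ∀ q ∈ O2N (zpowers r), ∀ p ∈ O2N (zpowers r), q * p * q⁻¹ * p⁻¹ ∈ zpowers r := by
  have r2 := h.q8.sq
  have QP := L72.O2N_isP (zpowers r)
  have Qn := L72.O2N_le (zpowers r)
  have Qr : O2N (zpowers r) ≤ 𝒞[r] := norm_zp r2 ▸ Qn
  have LQ : ψ.range ≤ 𝒩(O2N (zpowers r)) := h.Lr.trans (L72.norm_O2N _)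
  have eL : a (ee 1) ∈ ψ.range := ⟨cm 0, h.c 0⟩
  have er : Commute (a (ee 1)) r := h.c 0 ▸ (h.rL (cm 0)).symm
  have Qz : ¬ O2N (zpowers r) ≤ zpowers r := fun k => by
    have e1 := h.toGl.cen r2 h.q8.ne er fun q hq => by
      obtain ⟨n, rfl⟩ := mem_zpowers_iff.1 (k hq)
      exact er.zpow_right n
    have o3 := h.toTA.ord (u := ee 1) (by decide +kernel)
    have d := orderOf_dvd_natCard (⟨_, e1⟩ : O2N (zpowers r))
    rw [Subgroup.orderOf_mk, o3] at d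
    exact absurd (Nat.Coprime.eq_one_of_dvd (cop QP).symm d) (by norm_num)
  refine ⟨((h.dich QP Qr LQ).resolve_left Qz).1, fun q hq hc => ?_, ?_⟩
  · rcases h.dich (Y := O2N (zpowers r) ⊓ 𝒞(O2N (zpowers r))) (QP.to_le inf_le_left) (inf_le_left.trans Qr)
      (norm_inf LQ (norm_cent LQ)) with k | ⟨-, g, hg, k⟩
    · exact k ⟨hq, fun p hp => (hc p hp).symm⟩
    · exact absurd (hg.2 _ (conj_mem_of_norm LQ eL hg.1)).symm k
  · have le2 : Z2 (O2N (zpowers r)) (zpowers r) Qn ≤ O2N (zpowers r) := fun _ hx => hx.1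
    have n2 := Z2_norm Qn LQ h.Lr
    have P2 : P ≤ Z2 (O2N (zpowers r)) (zpowers r) Qn := by
      refine ((h.dich (QP.to_le le2) (le2.trans Qr) n2).resolve_left fun k => ?_).1
      obtain ⟨x, hx, xz, hc⟩ := cen_mod QP Qn Qz
      exact xz (k ⟨hx, hc⟩)
    have r2' : r ∈ Z2 (O2N (zpowers r)) (zpowers r) Qn := by
      refine ⟨L72.self_le_O2N (isP_zp r2) (mem_zpowers r), fun p hp => ?_⟩
      rw [← mem_cent1.1 (Qr hp), mul_inv_cancel_right, mul_inv_cancel]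
      exact one_mem _
    intro q hq
    exact (h.star QP Qr r2' n2 LQ ((h.o3 _ (QP.to_le (inf_le_left.trans inf_le_left))
      ((inf_le_left.trans inf_le_left).trans Qr) (inf_le_left.trans inf_le_right) inf_le_right).trans P2) hq).2

end Cfsg.Agent.S86
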