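import Cfsg.Agent.S86.SimB
import Cfsg.Agent.S86.Fs

set_option autoImplicit false

namespace Cfsg.Agent.S86

open Subgroup H49 Matrix F42
open Cfsg.Agent.L72 (O2N)

variable {G : Type*} [Group G] [Finite G] {a : V4 → G} {ψ ψ' : S6 →* G} {ρ : Fin 4 → G} {t : Fin 4 → Fin 4 → G}
  {e E : ℕ → G} {φ : S8 →* G}

namespace PfB

theorem pm_mul (σ τ : Equiv.Perm (Fin 4)) : pm (σ * τ) = pm σ * pm τ := by
  ext i j
  simp only [pm, Matrix.mul_apply, Equiv.Perm.mul_apply, mul_ite, mul_one, mul_zero, Finset.sum_ite_eq', Finset.mem_univ,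
    if_true]
  congr

theorem all_pm (h : SM a ψ) (π : Equiv.Perm (Fin 4)) : ∃ n, Ac a n (pm π) := by
  have iso : ∀ σ : Equiv.Perm (Fin 4), σ 0 = 0 → ∃ n, Ac a n (pm σ) := fun σ h0 =>
    let ⟨γ, hγ⟩ := h.toSt.iso0 (β := pm σ) ⟨sim_pm σ, by rw [pm_ee, h0]⟩
    ⟨_, hγ⟩
  by_cases h0 : π 0 = 0
  · exact iso π h0
  obtain ⟨n, hn⟩ := h.p01
  obtain ⟨n1, h1⟩ := iso (Equiv.swap 1 (π 0)) (Equiv.swap_apply_of_ne_of_ne (by decide) (Ne.symm h0))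
  obtain ⟨n2, h2⟩ := iso ((Equiv.swap 1 (π 0) * Equiv.swap 0 1)⁻¹ * π) (by
    rw [Equiv.Perm.mul_apply, Equiv.Perm.inv_eq_iff_eq, Equiv.Perm.mul_apply, Equiv.swap_apply_left,
      Equiv.swap_apply_left])
  rw [show p01 = pm (Equiv.swap 0 1) by decide +kernel] at hn
  have := (h1.mul hn).mul h2
  rw [← pm_mul, ← pm_mul, mul_inv_cancel_left] at this
  exact ⟨_, this⟩

theorem adj (h : TA a) (rf : ∀ i, Rf a (ee i) (ρ i))
    (ru : ∀ k r, Rf a (ee k) r → ∃ m : ℕ, r = a (ee k) ^ m * ρ k * (a (ee k) ^ m)⁻¹)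
    {π : Equiv.Perm (Fin 4)} {n : G} (hn : Ac a n (pm π)) :
    ∃ n, Ac a n (pm π) ∧ ∀ k, n * ρ k * n⁻¹ = ρ (π k) := by
  have h1 : ∀ j, ∃ c : ZMod 3, n * ρ (π⁻¹ j) * n⁻¹ = a (c • ee j) * ρ j * (a (c • ee j))⁻¹ := fun j => by
    have := (rf (π⁻¹ j)).cj hn (Or.inl (sim_pm π))
    rw [pm_ee, show π (π⁻¹ j) = j from π.apply_symm_apply j] at this
    obtain ⟨m, hm⟩ := ru j _ this
    exact ⟨m, by rw [hm, h.pow]⟩
  choose c hc using h1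
  refine ⟨(a c)⁻¹ * n, fun u => ?_, fun k => ?_⟩
  · rw [show (a c)⁻¹ * n * a u * ((a c)⁻¹ * n)⁻¹ = (a c)⁻¹ * (n * a u * n⁻¹) * a c by group, hn,
      (h.comm _ _).inv_left.eq, inv_mul_cancel_right]
  · have h2 := hc (π k)
    rw [show π⁻¹ (π k) = k from π.symm_apply_apply k] at h2
    have h3 := (rf (π k)).comm_a (u := c (π k) • ee (π k) - c) (by simp [ee])
    have h4 : a (c (π k) • ee (π k) - c) = (a c)⁻¹ * a (c (π k) • ee (π k)) := by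
      rw [sub_eq_neg_add, h.add, h.neg]
    calc _ = (a c)⁻¹ * (n * ρ k * n⁻¹) * a c := by group
      _ = a (c (π k) • ee (π k) - c) * ρ (π k) * (a (c (π k) • ee (π k) - c))⁻¹ := by rw [h2, h4]; group
      _ = _ := by rw [← h3.eq, mul_inv_cancel_right]

theorem tt_of (h : St a ψ) (hρ : ∀ i : Fin 3, ψ (xm i) = ρ i.succ) (i j : Fin 3) {γ : S6} (h1 : γ * γ = 1)
    (h2 : ∀ k, k ≠ i → k ≠ j → Commute γ (cm k)) (h3 : Commute γ (xm i)) (h4 : Commute γ (xm j))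
    (h5 : (γ * (xm i * cm i)) ^ 3 = 1) (h6 : (γ * (xm j * cm j)) ^ 3 = 1) : TT a ρ i.succ j.succ (ψ γ) := by
  refine ⟨by rw [← map_mul, h1, map_one], fun k => ?_, hρ i ▸ h3.map ψ, hρ j ▸ h4.map ψ, ?_, ?_⟩
  · refine Fin.cases (fun _ _ => (h.bL γ).symm) (fun k a b => ?_) k
    rw [← h.c]
    exact (h2 k (fun e => a (e ▸ rfl)) fun e => b (e ▸ rfl)).map ψ
  · rw [← hρ, ← h.c, ← map_mul, ← map_mul, ← map_pow, h5, map_one]
  · rw [← hρ, ← h.c, ← map_mul, ← map_mul, ← map_pow, h6, map_one]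

theorem md : ∀ x ∈ [((0 : Fin 3), (1 : Fin 3), 3), (0, 2, 5), (1, 2, 6)],
    (∀ k, k ≠ x.1 → k ≠ x.2.1 → Commute (tv x.2.2) (cm k)) ∧ Commute (tv x.2.2) (xm x.1) ∧
      Commute (tv x.2.2) (xm x.2.1) ∧ (tv x.2.2 * (xm x.1 * cm x.1)) ^ 3 = 1 ∧
      (tv x.2.2 * (xm x.2.1 * cm x.2.1)) ^ 3 = 1 := by
  simp only [comm_iff, cd_eq_iff, cm, xm, ym, cd_mul, cd_pow, cd_tv, cd_one]
  decide +kernel

theorem xx : ∀ i j, Commute (xm i) (xm j) := by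
  simp only [comm_iff, xm, cd_tv]
  decide +kernel

theorem tt' (h : St a ψ) (hρ : ∀ i : Fin 3, ψ (xm i) = ρ i.succ) {i j : Fin 3} {m : ℕ}
    (hx : (i, j, m) ∈ [((0 : Fin 3), (1 : Fin 3), 3), (0, 2, 5), (1, 2, 6)]) : TT a ρ i.succ j.succ (ψ (tv m)) :=
  let ⟨h2, h3, h4, h5, h6⟩ := md _ hx
  tt_of h hρ i j (tv_sq m) h2 h3 h4 h5 h6

theorem uq23 (h : St a ψ) (hρ : ∀ i : Fin 3, ψ (xm i) = ρ i.succ) {x : G} (hx : TT a ρ 2 3 x) : x = ψ (tv 6) := by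
  obtain ⟨γ, -, rfl⟩ := h.two ⟨1, by rw [pow_one, pow_two, hx.sq]⟩ (hx.cg 0 (by decide) (by decide))
  have cm' : ∀ {δ}, Commute (ψ γ) (ψ δ) → Commute γ δ := fun e => h.ψi (by rw [map_mul, map_mul, e.eq])
  refine congrArg ψ (mT (cm' ?_) (h.ψi ?_) (cm' ?_) (cm' ?_) (h.ψi ?_) (h.ψi ?_))
  · rw [h.c]; exact hx.cg 1 (by decide) (by decide)
  · rw [map_mul, hx.sq, map_one]
  · rw [hρ]; exact hx.ci
  · rw [hρ]; exact hx.cj
  · rw [map_pow, map_mul, map_mul, hρ, h.c, map_one]; exact hx.bi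
  · rw [map_pow, map_mul, map_mul, hρ, h.c, map_one]; exact hx.bj

end PfB

open PfB in
theorem SM.fb (h : SM a ψ) : ∃ ρ t, FB a ψ ρ t := by
  obtain ⟨n0, h0⟩ := h.p01
  have s0 : Sim F42.p01 := Or.inl (by decide +kernel)
  obtain ⟨ρ, ρ0, hρ⟩ : ∃ ρ : Fin 4 → G, ρ 0 = n0 * ψ (xm 0) * n0⁻¹ ∧ ∀ i : Fin 3, ψ (xm i) = ρ i.succ :=
    ⟨Fin.cons _ fun i => ψ (xm i), rfl, fun _ => rfl⟩
  have rf : ∀ i, Rf a (ee i) (ρ i) := Fin.cases (by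
    have := (h.toSt.rfx 0).cj h0 s0
    rwa [← ρ0, show F42.p01 *ᵥ ee (Fin.succ 0) = ee 0 by decide +kernel] at this) fun i => hρ i ▸ h.toSt.rfx i
  have cr : ∀ γ, Commute (ρ 0) (ψ γ) := h.toSt.rf0 (rf 0)
  have rr : ∀ i j, Commute (ρ i) (ρ j) := fun i j => by
    refine Fin.cases ?_ (fun i => ?_) i <;> refine Fin.cases ?_ (fun j => ?_) j
    · exact Commute.refl _
    · exact hρ j ▸ cr _
    · exact hρ i ▸ (cr _).symm
    · exact hρ i ▸ hρ j ▸ (xx i j).map ψ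
  have ru : ∀ k r, Rf a (ee k) r → ∃ m : ℕ, r = a (ee k) ^ m * ρ k * (a (ee k) ^ m)⁻¹ :=
    Fin.cases (fun r hr => by
      have := hr.cj (h0.inv (θ' := F42.p01) (by decide +kernel)) s0
      rw [show F42.p01 *ᵥ ee 0 = ee (Fin.succ 0) by decide +kernel] at this
      obtain ⟨m, hm⟩ := h.toSt.rfu 0 this
      refine ⟨m, ?_⟩
      rw [ρ0, show ee 0 = F42.p01 *ᵥ ee (Fin.succ 0) by decide +kernel, ← h0, conj_pow]
      calc r = n0 * (n0⁻¹ * r * n0⁻¹⁻¹) * n0⁻¹ := by group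
        _ = _ := by rw [hm]; group) fun i r hr => hρ i ▸ h.toSt.rfu i hr
  have sw : ∀ π : Equiv.Perm (Fin 4), ∃ n, Ac a n (pm π) ∧ ∀ k, n * ρ k * n⁻¹ = ρ (π k) := fun π =>
    let ⟨_, hn⟩ := all_pm h π
    adj h.toTA rf ru hn
  obtain ⟨n, hn, hk⟩ := sw (Equiv.swap 0 2 * Equiv.swap 1 3)
  have t6 : TT a ρ 2 3 (ψ (tv 6)) := tt' h.toSt hρ (i := 1) (j := 2) (by simp)
  have pf : PF a ρ (n * ψ (tv 6) * n⁻¹) := ⟨h.toTA, rf, rr, sw, t6.conj hn hk, fun x hx => by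
    have := uq23 h.toSt hρ (hx.conj (hn.inv (θ' := pm (Equiv.swap 0 2 * Equiv.swap 1 3)) (by decide +kernel))
      fun k => by
        rw [← hk ((Equiv.swap 0 2 * Equiv.swap 1 3 : Equiv.Perm (Fin 4)) k) |>.trans
          (congrArg ρ (by revert k; decide))]
        group)
    rw [← this]; group, by
    have e1 : a (ee 1) = n * ψ (cm 2) * n⁻¹ := by rw [h.c, hn, pm_ee]; rfl
    have e2 : ρ 1 = n * ψ (xm 2) * n⁻¹ := by rw [hρ, hk]; rfl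
    have e3 := congrArg ψ vq_eq.2.2.2.1
    simp only [nrm, map_mul, map_inv, map_one] at e3
    rw [e1, e2, nrm]
    simp only [conj_mul, conj_inv]
    rw [e3, mul_one, mul_inv_cancel]⟩
  obtain ⟨t, fs, -⟩ := pf.fs
  exact ⟨ρ, t, h, fs, h.ψi, h.c, hρ, fs.uq 1 2 (by decide) _ (tt' h.toSt hρ (i := 0) (j := 1) (by simp)),
    fs.uq 1 3 (by decide) _ (tt' h.toSt hρ (i := 0) (j := 2) (by simp)), fs.uq 2 3 (by decide) _ t6, h.bL, cr⟩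

end Cfsg.Agent.S86
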