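import Cfsg.Agent.S86.Defs
import Cfsg.Agent.S0765
import Cfsg.Agent.S0270
import Cfsg.Agent.S0245
import Cfsg.Agent.S0246
import Cfsg.Agent.H27.SpGen

set_option autoImplicit false

namespace Cfsg.Agent.S86

open Subgroup H49 Matrix F42
open Cfsg.Agent.L72 (O2N)

theorem psp_S8 : Nonempty (S8 ≃* Cfsg.PSp 4 (ZMod 2)) :=
  ⟨(QuotientGroup.quotientBot.symm).trans (QuotientGroup.quotientMulEquivOfEq
    (Subgroup.eq_bot_of_card_eq _ (S0246.result (ZMod.card 2) 4 (by norm_num))).symm)⟩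

theorem simple_S8 : IsSimpleGroup S8 := by
  have := S0270.result (F := ZMod 2) 4 (by norm_num) (by norm_num)
  obtain ⟨e⟩ := psp_S8
  exact e.isSimpleGroup

theorem card_S8 : Nat.card S8 = 2 ^ 16 * 3 ^ 5 * 5 ^ 2 * 7 * 17 := by
  rw [S0245.result (ZMod.card 2) 4]
  simp [Finset.prod_range_succ]

theorem v8_surj (x : Fin 4 ⊕ Fin 4 → ZMod 2) : ∃ α β, ∃ n < 64, x = v8 α β n := by
  refine ⟨x (.inl 0), x (.inr 0), enc (Sum.elim (fun i => x (.inl i.succ)) fun i => x (.inr i.succ)), enc_lt _, ?_⟩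
  funext i
  rcases i with i | i <;> refine Fin.cases ?_ (fun j => ?_) i <;> simp [v8, vc_enc]

theorem v8_inj {α β α' β' : ZMod 2} {n n' : ℕ} (hn : n < 64) (hn' : n' < 64) (h : v8 α β n = v8 α' β' n') :
    α = α' ∧ β = β' ∧ n = n' := by
  refine ⟨congrFun h (.inl 0), congrFun h (.inr 0), ?_⟩
  have : vc n = vc n' := by
    funext i
    rcases i with i | i
    · exact congrFun h (.inl i.succ)
    · exact congrFun h (.inr i.succ)
  rw [← enc_vc n hn, this, enc_vc n' hn']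

theorem S8a_add (α β α' β' : ZMod 2) {n n' : ℕ} (hn : n < 64) (hn' : n' < 64) :
    v8 α β n + v8 α' β' n' = v8 (α + α') (β + β') (n ^^^ n') := by
  funext i
  rcases i with i | i <;> refine Fin.cases ?_ (fun j => ?_) i <;> simp [v8, vc_xor n hn n' hn']

theorem S8a_form (α β α' β' : ZMod 2) {n n' : ℕ} (hn : n < 64) (hn' : n' < 64) :
    Cfsg.sympForm 4 (ZMod 2) (v8 α' β' n') (v8 α β n) = α * β' + β * α' + (bf n n' : ZMod 2) := by
  rw [H27.sympForm_neg_comm, ZMod.neg_eq_self_mod_two, ← bf_vc hn hn', ZMod.natCast_zmod_val, H27.sympForm_eq,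
    H27.sympForm_eq, Fin.sum_univ_succ]
  simp only [v8, Sum.elim_inl, Sum.elim_inr, Fin.cons_zero, Fin.cons_succ]
  rw [sub_eq_add_neg, ZMod.neg_eq_self_mod_two, add_comm (β * α')]

theorem t8_act (α β α' β' : ZMod 2) {n n' : ℕ} (hn : n < 64) (hn' : n' < 64) : (t8 α β n).1 *ᵥ v8 α' β' n' =
    if α * β' + β * α' + (bf n n' : ZMod 2) = 0 then v8 α' β' n' else v8 (α + α') (β + β') (n ^^^ n') := by
  rw [t8, H27.spT_mulVec, one_mul, S8a_form α β α' β' hn hn']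
  split_ifs with h
  · rw [h, zero_smul, add_zero]
  · rw [(by decide : ∀ c : ZMod 2, ¬ c = 0 → c = 1) _ h, one_smul, add_comm, S8a_add _ _ _ _ hn hn']

theorem conj_t8 (m : S8) {α β α' β' : ZMod 2} {n n' : ℕ} (h : m.1 *ᵥ v8 α β n = v8 α' β' n') :
    m * t8 α β n * m⁻¹ = t8 α' β' n' := by
  rw [t8, H27.conj_spT, h, t8]

theorem gen_S8 {K : Subgroup S8} (h1 : t8 1 0 0 ∈ K) (h2 : t8 0 1 0 ∈ K) (h3 : ∀ n < 64, t8 0 0 n ∈ K)
    (h4 : t8 1 0 1 ∈ K) : K = ⊤ := by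
  have step : ∀ {α β α' β' : ZMod 2} {n n' : ℕ}, n < 64 → n' < 64 → t8 α β n ∈ K → t8 α' β' n' ∈ K →
      α * β' + β * α' + (bf n n' : ZMod 2) ≠ 0 → t8 (α + α') (β + β') (n ^^^ n') ∈ K :=
    fun {α β α' β' n n'} hn hn' k k' e => by
      rw [← conj_t8 (t8 α β n) ((t8_act α β α' β' hn hn').trans (if_neg e))]
      exact mul_mem (mul_mem k k') (inv_mem k)
  have key : ∀ n < 64, n ≠ 0 → ∃ k < 64, bf k 1 = 1 ∧ ∃ l < 64, bf l (k ^^^ 1) = 1 ∧ l ^^^ (k ^^^ 1) = n := by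
    decide +kernel
  have b0 : ∀ n < 64, bf 0 n = 0 := by decide +kernel
  have k10 : ∀ n < 64, t8 1 0 n ∈ K := fun n hn => by
    by_cases h0 : n = 0
    · rw [h0]; exact h1
    obtain ⟨k, hk, e1, l, hl, e2, rfl⟩ := key n hn h0
    have s1 := step hk (by norm_num) (h3 k hk) h4 (by rw [e1]; decide)
    rw [zero_add, zero_add] at s1
    have s2 := step hl (xor_lt hk (by norm_num)) (h3 l hl) s1 (by rw [e2]; decide)
    rwa [zero_add, zero_add] at s2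
  have k11 : ∀ n < 64, t8 1 1 n ∈ K := fun n hn => by
    have := step (by norm_num) hn h2 (k10 n hn) (by rw [b0 n hn]; decide)
    rwa [Nat.zero_xor, zero_add, add_zero] at this
  have k01 : ∀ n < 64, t8 0 1 n ∈ K := fun n hn => by
    have := step (by norm_num) hn h1 (k11 n hn) (by rw [b0 n hn]; decide)
    rwa [Nat.zero_xor, zero_add, show (1 + 1 : ZMod 2) = 0 from rfl] at this
  refine H27.sp_eq_top_of_spT_mem K fun w c => ?_
  have two : ∀ c : ZMod 2, c = 0 ∨ c = 1 := by decide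
  rcases two c with rfl | rfl
  · rw [H27.spT_zero]; exact one_mem _
  obtain ⟨α, β, n, hn, rfl⟩ := v8_surj w
  rcases two α with rfl | rfl <;> rcases two β with rfl | rfl
  exacts [h3 n hn, k01 n hn, k10 n hn, k11 n hn]

/-- action of a transvection on coded vectors -/
def S8a_ac (t x : ZMod 2 × ZMod 2 × ℕ) : ZMod 2 × ZMod 2 × ℕ :=
  if t.1 * x.2.1 + t.2.1 * x.1 + (bf t.2.2 x.2.2 : ZMod 2) = 0 then x else (t.1 + x.1, t.2.1 + x.2.1, t.2.2 ^^^ x.2.2)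

/-- words in transvections -/
def S8a_W (l : List (ZMod 2 × ZMod 2 × ℕ)) : S8 := (l.map fun t => t8 t.1 t.2.1 t.2.2).prod

theorem S8a_act {l : List (ZMod 2 × ZMod 2 × ℕ)} (hl : ∀ t ∈ l, t.2.2 < 64) {x : ZMod 2 × ZMod 2 × ℕ}
    (hx : x.2.2 < 64) : (l.foldr S8a_ac x).2.2 < 64 ∧ (S8a_W l).1 *ᵥ v8 x.1 x.2.1 x.2.2 =
      v8 (l.foldr S8a_ac x).1 (l.foldr S8a_ac x).2.1 (l.foldr S8a_ac x).2.2 := by
  induction l with
  | nil => exact ⟨hx, H27.sp_one_mulVec _⟩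
  | cons t l ih =>
    obtain ⟨i1, i2⟩ := ih fun t ht => hl t (List.mem_cons_of_mem _ ht)
    have ht := hl t List.mem_cons_self
    rw [S8a_W, List.map_cons, List.prod_cons, H27.sp_mul_mulVec, ← S8a_W, i2, t8_act _ _ _ _ ht i1, List.foldr_cons]
    generalize l.foldr S8a_ac x = y at i1
    unfold S8a_ac
    split_ifs
    exacts [⟨i1, rfl⟩, ⟨xor_lt ht i1, rfl⟩]

theorem S8a_ext {l l' : List (ZMod 2 × ZMod 2 × ℕ)} (h : (∀ t ∈ l, t.2.2 < 64) ∧ (∀ t ∈ l', t.2.2 < 64) ∧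
    ∀ α β : ZMod 2, ∀ n < 64, l.foldr S8a_ac (α, β, n) = l'.foldr S8a_ac (α, β, n)) : S8a_W l = S8a_W l' :=
  H27.sp_ext fun x => by
    obtain ⟨α, β, n, hn, rfl⟩ := v8_surj x
    rw [(S8a_act h.1 (x := (α, β, n)) hn).2, (S8a_act h.2.1 (x := (α, β, n)) hn).2, h.2.2 α β n hn]

theorem S8a_mul (l l' : List (ZMod 2 × ZMod 2 × ℕ)) : S8a_W l * S8a_W l' = S8a_W (l ++ l') := by
  simp [S8a_W]

theorem S8a_t (α β : ZMod 2) (n : ℕ) : t8 α β n = S8a_W [(α, β, n)] := by simp [S8a_W]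

theorem S8a_w (l : List ℕ) : w8 l = S8a_W (l.map fun n => (0, 0, n)) := by
  rw [w8, S8a_W, List.map_map]; rfl

theorem a48_comm : Commute a48 (t8 1 0 0 * t8 0 1 0 * w8 [1, 8, 2, 16, 4, 32]) := by
  simp only [commute_iff_eq, a48, sw8, S8a_t, S8a_w, S8a_mul]
  exact S8a_ext (by decide +kernel)

theorem u8_spec : (t8 0 0 1 * t8 0 0 8 * t8 1 0 8) * (t8 0 0 1 * t8 0 0 8 * t8 1 0 8) = c28 ∧
    Commute (t8 0 0 1 * t8 0 0 8 * t8 1 0 8) sw8 ∧ Commute (t8 0 0 1 * t8 0 0 8 * t8 1 0 8) (w8 [2, 16, 4, 32]) := by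
  simp only [commute_iff_eq, c28, sw8, S8a_t, S8a_w, S8a_mul]
  exact ⟨S8a_ext (by decide +kernel), S8a_ext (by decide +kernel), S8a_ext (by decide +kernel)⟩

end Cfsg.Agent.S86
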