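import Cfsg.Agent.S86.HH
import Cfsg.Agent.S86.PfB
import Cfsg.Agent.S86.ModC
import Cfsg.Agent.S86.OA0
import Cfsg.Agent.F42.LocC0

set_option autoImplicit false

namespace Cfsg.Agent.S86

open Subgroup H49 Matrix F42
open Cfsg.Agent.L72 (O2N)

variable {G : Type*} [Group G] [Finite G] {a : V4 → G} {ψ ψ' : S6 →* G} {ρ : Fin 4 → G} {t : Fin 4 → Fin 4 → G}
  {e E : ℕ → G} {φ : S8 →* G}

namespace ZsA

/-! ### Vectors -/

/-- the matrix of `bm` -/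
def bt : M4 := !![1, 0, 0, 0; 0, 0, 0, -1; 0, -1, 0, 0; 0, 0, 1, 0]

theorem sim_sf : Sim sf := Or.inr (by decide +kernel)

theorem sf_inv : sf * (-sfᵀ) = 1 := by decide +kernel

theorem sf_vec : sf *ᵥ ee 0 = cv ∧ sf *ᵥ cv = -ee 0 ∧ sf *ᵥ zv = zv ∧ sf *ᵥ fv = -ee 1 ∧
    sf *ᵥ ee 1 = zv + -ee 1 := by decide +kernel

theorem sv0 : ∀ u : V4, sv cv u 0 = u 0 := by decide +kernel

theorem bt0 : ∀ u : V4, (bt *ᵥ u) 0 = u 0 := by decide +kernel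

theorem sf_perp : ∀ u : V4, u 0 = 0 → (sf *ᵥ u) ⬝ᵥ cv = 0 := by decide +kernel

theorem sf_sg : ∀ u : V4, u 0 = 0 → u ⬝ᵥ sg 1 = 0 → ∃ x y : ZMod 3, sf *ᵥ u = x • zv + y • ee 0 := by
  decide +kernel

theorem span4 : ∀ u : V4, u = (u 2 + u 3) • zv + (u 3 - u 2) • cv + (-u 0) • (-ee 0) + (u 1 - u 2 - u 3) • ee 1 := by
  decide +kernel

theorem cut : ∀ u : V4, u = u 0 • ee 0 + Function.update u 0 0 := by decide +kernel

theorem ind1 : ∀ i j k : ZMod 3, i • ee 0 + j • ee 1 + k • fv = 0 → i = 0 ∧ j = 0 ∧ k = 0 := by decide +kernel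

theorem ind2 : ∀ i j k : ZMod 3, i • ee 1 + j • ee 2 + k • ee 3 = 0 → i = 0 ∧ j = 0 ∧ k = 0 := by decide +kernel

theorem jm_cut (u : V4) : jm (Function.update u 0 0) = jm u := by
  simp [jm]

/-! ### The model -/

theorem jm_comm (u v : V4) : Commute (jm u) (jm v) := by
  rw [Commute, SemiconjBy, ← jm_add, ← jm_add, add_comm]

theorem jm_sw {u : V4} (h : u ⬝ᵥ cv = 0) : Commute (jm u) sw := by
  have := sw_jm u
  rw [sv_perp h, mul_inv_eq_iff_eq_mul] at this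
  exact this.symm

theorem jm_zp (u : V4) : jm u ∈ 𝒞[zp] := mem_cent1.2 (jm_named.2.2.1 ▸ jm_comm u zv)

theorem jm_Qm (u : V4) : jm u ∈ 𝒩(Qm) := norm_Qm (jm_zp u)

theorem jm_Rm {u : V4} (h : u ⬝ᵥ cv = 0) : jm u ∈ 𝒩(Rm) := norm_Rm ⟨jm_zp u, mem_cent1.2 (jm_sw h)⟩

theorem u1_nc : ¬ Commute (cm 0) u1 := by
  rw [SpF.cm0, u1, comm_iff, cd_wd, cd_wd]
  decide +kernel

/-! ### Group theory -/

omit [Finite G] in
theorem q8_cen {R : Subgroup G} {r : G} (h : T3.Q8 R r) : R ≤ 𝒞[r] := fun u hu => by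
  rcases h.el u hu with rfl | rfl | rfl
  · exact one_mem _
  · exact self_mem_cent1 _
  · exact mem_cent1.2 (mul_assoc _ _ _).symm

omit [Finite G] in
theorem q8_four {R : Subgroup G} {r u : G} (h : T3.Q8 R r) (hu : u ∈ R) : u ^ 4 = 1 := by
  have e : u ^ 4 = u * u * (u * u) := by simp only [pow_succ, pow_zero, one_mul, mul_assoc]
  rcases h.el u hu with rfl | rfl | e'
  · exact one_pow _
  · rw [e, h.sq, one_mul]
  · rw [e, e', h.sq]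

omit [Finite G] in
theorem q8_isP {R : Subgroup G} {r : G} (h : T3.Q8 R r) : IsPGroup 2 R := IsPGroup.of_card (n := 3) h.card

/-- an element of order dividing four that normalises `Q` and fixes `z` and `c` centralises `Q` -/
theorem cent_Q {z c u : G} {Q : Subgroup G} (h : XP z Q) (hc : c ∈ Q) (hcz : c ∉ zpowers z) (hu : u ∈ 𝒩(Q))
    (uz : Commute u z) (uc : Commute u c) (u4 : u ^ 4 = 1) : u ∈ 𝒞(Q) := fun q hq => by
  obtain ⟨b, hb, hbc⟩ := h.exists_b hc hcz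
  obtain ⟨cd, -, -, -, -, -, nf⟩ := h.lr_c hc hb hbc
  have h1 : u * (q⁻¹ * c * q⁻¹⁻¹ * c⁻¹) * u⁻¹ = q⁻¹ * c * q⁻¹⁻¹ * c⁻¹ :=
    lr_conj (mem_cent1.2 uz) (h.comm _ (Q.inv_mem hq) c hc)
  have h2 : u * c * u⁻¹ = c := by rw [uc.eq, mul_inv_cancel_right]
  have h3 : (u * q * u⁻¹)⁻¹ * c * (u * q * u⁻¹) = q⁻¹ * c * q := by
    have : (u * q * u⁻¹)⁻¹ * (u * c * u⁻¹) * (u * q * u⁻¹) * (u * c * u⁻¹)⁻¹ = q⁻¹ * c * q * c⁻¹ := by
      rw [inv_inv] at h1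
      rw [← h1]; group
    rw [h2] at this
    exact mul_right_cancel this
  have hd' : u * q * u⁻¹ * q⁻¹ ∈ Q := Q.mul_mem (L72.Gen.cm hu hq) (Q.inv_mem hq)
  have h4 : Commute (u * q * u⁻¹ * q⁻¹) c := by
    have : c * (u * q * u⁻¹) = u * q * u⁻¹ * (q⁻¹ * c * q) := by rw [← h3]; group
    calc u * q * u⁻¹ * q⁻¹ * c = u * q * u⁻¹ * (q⁻¹ * c * q) * q⁻¹ := by group
      _ = c * (u * q * u⁻¹ * q⁻¹) := by rw [← this]; group
  obtain ⟨i, k, e⟩ := h.cent_a hc hb hbc (fun q hq => let ⟨i, e⟩ := nf q hq; ⟨i, _, _, e⟩) hd' h4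
  generalize hd : u * q * u⁻¹ * q⁻¹ = d at e hd'
  have ud : Commute u d := e ▸ (uz.pow_right i).mul_right (uc.pow_right k)
  have step : ∀ n : ℕ, u ^ n * q * (u ^ n)⁻¹ = d ^ n * q := fun n => by
    induction n with
    | zero => simp
    | succ n ih =>
      calc u ^ (n + 1) * q * (u ^ (n + 1))⁻¹ = u * (u ^ n * q * (u ^ n)⁻¹) * u⁻¹ := by group
        _ = u * d ^ n * u⁻¹ * (u * q * u⁻¹ * q⁻¹) * q := by rw [ih]; group
        _ = _ := by rw [hd, (ud.pow_right n).eq]; group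
  have e4 := step 4
  rw [u4, one_mul, inv_one, mul_one, pow_succ, h.exp d hd', one_mul, right_eq_mul] at e4
  rw [e4, mul_inv_eq_one, mul_inv_eq_iff_eq_mul] at hd
  exact hd.symm

omit [Finite G] in
theorem map_norm {H : Subgroup S6} {γ : S6} (h : γ ∈ 𝒩(H)) : ψ γ ∈ 𝒩(H.map ψ) :=
  le_normalizer_map ψ (mem_map_of_mem ψ h)

omit [Finite G] in
theorem split (ta : TA a) (pj : ∀ u : V4, u 0 = 0 → ψ (jm u) = a u) (u : V4) :
    a u = a (ee 0) ^ (u 0).val * ψ (jm u) := by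
  rw [← jm_cut, pj _ (by simp), ← ta.smul, ← ta.add, ← cut]

omit [Finite G] in
theorem act_gen (ta : TA a) (pj : ∀ u : V4, u 0 = 0 → ψ (jm u) = a u) (cb : ∀ γ, Commute (a (ee 0)) (ψ γ)) {γ : S6}
    {f : V4 → V4} (hf : ∀ u, γ * jm u * γ⁻¹ = jm (f u)) (h0 : ∀ u, f u 0 = u 0) (u : V4) :
    ψ γ * a u * (ψ γ)⁻¹ = a (f u) := by
  rw [split ta pj u, split ta pj (f u), h0, ← hf, map_mul, map_mul, map_inv, ← mul_assoc,
    ← ((cb γ).pow_left _).eq]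
  group

omit [Finite G] in
theorem ac_pow {n : G} {θ : M4} (h : Ac a n θ) (k : ℕ) : Ac a (n ^ k) (θ ^ k) := by
  induction k with
  | zero => exact fun u => by simp
  | succ k ih => rw [pow_succ, pow_succ]; exact ih.mul h

omit [Finite G] in
theorem notin (hi : Function.Injective ψ) : ψ cc ∉ zpowers (ψ zp) := by
  rw [← MonoidHom.map_zpowers, mem_map_iff_mem hi]
  exact cc_m.2.1

/-! ### The two frames -/

section
variable (h : F4 a ψ ψ' ρ t E)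
include h

theorem pj (u : V4) (u0 : u 0 = 0) : ψ (jm u) = a u := h.toSM.toSt.pjm u0

theorem pj' (u : V4) (u0 : u 0 = 0) : ψ' (jm u) = tw a sf u := h.oe.ps.pjm h.oe.toTA u0

theorem z1 : ψ zp = a zv := jm_named.2.2.1 ▸ pj h zv rfl

theorem z2 : ψ' zp = a zv := by rw [← jm_named.2.2.1, pj' h zv rfl, tw, sf_vec.2.2.1]

theorem c1 : ψ cc = a cv := jm_named.1 ▸ pj h cv rfl

theorem c2 : ψ' cc = a (-ee 0) := by rw [← jm_named.1, pj' h cv rfl, tw, sf_vec.2.1]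

theorem x1 : XQ (a zv) (Qm.map ψ) (Rm.map ψ) (ψ sw) := z1 h ▸ XQ_map h.ψi xq_m

theorem x2 : XQ (a zv) (Qm.map ψ') (Rm.map ψ') (ψ' sw) := z2 h ▸ XQ_map h.oe.ps.ψi xq_m

omit [Finite G] in
theorem z3 : orderOf (a zv) = 3 := h.toTA.ord (by decide)

omit [Finite G] in
theorem cc' (γ : S6) : Commute (a cv) (ψ' γ) := by
  have := h.oe.ps.cb γ
  rwa [tw, sf_vec.1] at this

omit [Finite G] in
theorem bb (γ : S6) : Commute (a (-ee 0)) (ψ γ) := by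
  rw [h.toTA.neg]
  exact (h.bL γ).inv_left

theorem rf2 : Rf a (ee 0) (ψ' sw) := by
  rw [← Rf_neg, ← sf_vec.2.1, ← Rf_tw sim_sf]
  exact ⟨(x2 h).q8.sq, act_gen h.oe.toTA (pj' h) h.oe.ps.cb sw_jm sv0⟩

theorem s2 : ρ 0 * ρ 0 = 1 := (h.oe.toFS.r2 0).1

theorem Q_cen : O2N (zpowers (ρ 0)) ≤ 𝒞[ρ 0] := norm_zp (s2 h) ▸ L72.O2N_le _

theorem Q_norm : 𝒞[ρ 0] ≤ 𝒩(O2N (zpowers (ρ 0))) := norm_zp (s2 h) ▸ L72.norm_O2N _

omit [Finite G] in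
theorem I_z : Ig (tw a sf) ≤ 𝒞[a zv] := fun x hx => by
  obtain ⟨u, -, rfl⟩ := h.oe.toTA.mem_Ig.1 hx
  exact mem_cent1.2 (h.toTA.comm _ _)

theorem norm_QZ : 𝒞[a zv] ⊓ 𝒞[ρ 0] ≤ 𝒩(O2N (zpowers (ρ 0)) ⊓ 𝒞[a zv]) :=
  norm_inf (inf_le_right.trans (Q_norm h)) (norm_of_le inf_le_left)

theorem R1_le : Rm.map ψ ≤ O2N (zpowers (ρ 0)) := fun y hy => by
  refine h.oe.cz (h.oe.toLC.p3b (q8_isP (x1 h).q8) (h.s ▸ q8_cen (x1 h).q8) (fun x hx => ?_) 1 hy fun u u0 hu => ?_)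
  · obtain ⟨u, u0, rfl⟩ := h.oe.toTA.mem_Ig.1 hx
    rw [tw, split h.toTA (pj h)]
    refine mul_mem (pow_mem (cent_le_norm _ ?_) _) (map_norm (jm_Rm (sf_perp u u0)))
    rintro _ ⟨γ, -, rfl⟩
    exact (h.bL γ).symm
  · obtain ⟨x, w, e⟩ := sf_sg u u0 hu
    rw [tw, e, h.toTA.add, h.toTA.smul, h.toTA.smul]
    refine (Commute.pow_right (mem_cent1.1 ((x1 h).Rc hy)) _).mul_right (Commute.pow_right ?_ _)
    obtain ⟨γ, -, rfl⟩ := hy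
    exact (h.bL γ).symm

theorem le_R1 : O2N (zpowers (ρ 0)) ⊓ 𝒞[a zv] ≤ Rm.map ψ := by
  refine h.oe.toLC.zle ((L72.O2N_isP _).to_le inf_le_left) (inf_le_left.trans (Q_cen h))
    ((le_inf (I_z h) h.oe.toFS.Ig_le).trans (norm_QZ h)) (by rw [tw, sf_vec.2.2.1]; exact inf_le_right)
    (h.s ▸ (x1 h).q8.mem) fun y hy => ?_
  have hb : Commute y (a (ee 0)) := by
    have := mem_cent1.1 hy.2
    rw [tw, sf_vec.2.1, h.toTA.neg] at this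
    exact Commute.inv_right_iff.1 this
  obtain ⟨γ, h2, rfl⟩ := h.toSM.toSt.two (H70.isPGroup_iff_mem.1 (L72.O2N_isP _) y hy.1.1) hb
  refine mem_map_of_mem ψ (two_Rm (h.ψi ?_) (h.ψi ?_) h2)
  · rw [map_mul, map_mul, ← h.s]
    exact mem_cent1.1 (Q_cen h hy.1.1)
  · rw [map_mul, map_mul, z1 h]
    exact mem_cent1.1 hy.1.2

theorem norm_R1 : 𝒞[a zv] ⊓ 𝒞[ρ 0] ≤ 𝒩(Rm.map ψ) := by
  rw [← le_antisymm (le_R1 h) (le_inf (R1_le h) (x1 h).Rc)]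
  exact norm_QZ h

theorem R2n : Rm.map ψ' ≤ 𝒩(Rm.map ψ) := fun u hu => by
  refine norm_R1 h ⟨(x2 h).Rc hu, ?_⟩
  obtain ⟨γ, -, rfl⟩ := hu
  exact mem_cent1.2 (h.oe.ps.cr γ).symm

theorem R2c : Rm.map ψ' ≤ 𝒞(Qm.map ψ) := fun u hu => by
  have uz : Commute u (a zv) := mem_cent1.1 ((x2 h).Rc hu)
  have uc : Commute u (a cv) := by
    obtain ⟨γ, -, rfl⟩ := hu
    exact (cc' h γ).symm
  have hc : a cv ∈ Qm.map ψ := c1 h ▸ mem_map_of_mem ψ cc_m.1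
  refine cent_Q ((x1 h).xp (z3 h)) hc (c1 h ▸ z1 h ▸ notin h.ψi) (mem_norm_of_cj_le (cj_le_iff.2 ?_)) uz uc
    (q8_four (x2 h).q8 hu)
  refine map_le_iff_le_comap.2 (Qm_gen ?_ fun w hw => ?_)
  · rw [mem_comap, mem_cj, inv_inv, z1 h, uz.eq, mul_inv_cancel_right]
    exact (x1 h).zQ
  · rw [mem_comap, mem_cj, inv_inv, map_mul, map_mul, map_inv, c1 h]
    have e : u * (ψ w * a cv * (ψ w)⁻¹) * u⁻¹ = u * ψ w * u⁻¹ * (u * a cv * u⁻¹) * (u * ψ w * u⁻¹)⁻¹ := by group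
    rw [e, uc.eq, mul_inv_cancel_right]
    exact L72.Gen.cm ((x1 h).Rn (L72.Gen.cm (R2n h hu) (mem_map_of_mem ψ hw))) hc

theorem RR : Rm.map ψ' ≤ 𝒞(Rm.map ψ) := fun u hu w hw => by
  have hc : a cv ∈ Qm.map ψ := c1 h ▸ mem_map_of_mem ψ cc_m.1
  have h1 : u * w * u⁻¹ * w⁻¹ ∈ Rm.map ψ := mul_mem (L72.Gen.cm (R2n h hu) hw) (inv_mem hw)
  have h2 : u * (w * u⁻¹ * w⁻¹) ∈ 𝒞(Qm.map ψ) :=
    mul_mem (R2c h hu) (L72.Gen.cm (norm_cent (x1 h).Rn hw) (inv_mem (R2c h hu)))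
  have h3 := (x1 h).free (z3 h) h1 hc (c1 h ▸ z1 h ▸ notin h.ψi) (by
    have := h2 _ hc
    rw [show u * w * u⁻¹ * w⁻¹ = u * (w * u⁻¹ * w⁻¹) by group, ← this, mul_inv_cancel_right, mul_inv_cancel]
    exact one_mem _)
  rw [mul_inv_eq_one, mul_inv_eq_iff_eq_mul] at h3
  exact h3.symm

theorem Q2c {X : Subgroup S6} (hz : X.map ψ ≤ 𝒞[a zv]) (hR : Rm.map ψ' ≤ 𝒞(X.map ψ)) :
    X.map ψ ≤ 𝒞(Qm.map ψ') := by
  refine cent_symm (map_le_iff_le_comap.2 (Qm_gen ?_ fun w hw => ?_))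
  · rw [mem_comap, z2 h]
    exact le_cent1_iff.1 hz
  · rw [mem_comap, map_mul, map_mul, map_inv, c2 h]
    refine mul_mem (mul_mem (hR (mem_map_of_mem _ hw)) ?_) (inv_mem (hR (mem_map_of_mem _ hw)))
    rintro _ ⟨γ, -, rfl⟩
    exact (bb h γ).symm

theorem dec (g : G) (gz : Commute g (a zv)) (gr : Commute g (ψ sw)) :
    ∃ u ∈ Rm.map ψ, ∃ q ∈ Qm.map ψ', ∃ v ∈ Rm.map ψ', ∃ k : ℕ, g = u * q * v * a (ee 1) ^ k := by
  obtain ⟨q, hq, γ, rfl⟩ := h.oe.dec g (h.s ▸ gr)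
  have hz : a zv ∈ 𝒞[ρ 0] := z2 h ▸ mem_cent1.2 (h.oe.ps.cr zp).symm
  have h1 : ψ' (γ * zp * γ⁻¹ * zp⁻¹) ∈ O2N (zpowers (ρ 0)) := by
    have e : ψ' (γ * zp * γ⁻¹ * zp⁻¹) = q⁻¹ * (a zv * q * (a zv)⁻¹) := by
      rw [map_mul, map_mul, map_mul, map_inv, map_inv, z2 h]
      calc _ = q⁻¹ * (q * ψ' γ * a zv) * (ψ' γ)⁻¹ * (a zv)⁻¹ := by group
        _ = _ := by rw [gz.eq]; group
    rw [e]
    exact mul_mem (inv_mem hq) (L72.Gen.cm (Q_norm h hz) hq)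
  have h2 : Commute γ zp := by
    have := h.oe.inf h1
    rwa [mul_inv_eq_one, mul_inv_eq_iff_eq_mul] at this
  have h3 : Commute q (a zv) := by
    have := gz.mul_left (z2 h ▸ h2.map ψ').inv_left
    rwa [mul_inv_cancel_right] at this
  obtain ⟨p, hp, v, hv, k, rfl⟩ := dec_zp h2
  have h4 : ψ' (cm 0) = a zv * a (ee 1) ^ 2 := by
    rw [← jm_ee, pj' h _ rfl, tw, show ee (Fin.succ 0) = ee 1 from rfl, sf_vec.2.2.2.2, h.toTA.add, h.toTA.neg]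
    congr 1
    exact inv_eq_of_mul_eq_one_left (by rw [← pow_succ, h.toTA.cube])
  have h5 : Commute (ψ' v) (a zv) := mem_cent1.1 ((x2 h).Rc (mem_map_of_mem _ hv))
  refine ⟨q, le_R1 h ⟨hq, mem_cent1.2 h3⟩, ψ' p * a zv ^ k, mul_mem (mem_map_of_mem _ hp) (pow_mem (x2 h).zQ k), ψ' v,
    mem_map_of_mem _ hv, 2 * k, ?_⟩
  rw [map_mul, map_mul, map_pow, h4, ((h.toTA.comm _ _).pow_right 2).mul_pow, ← pow_mul, mul_assoc (ψ' p),
    ← mul_assoc (ψ' v), (h5.pow_right k).eq]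
  group

theorem b0 : ¬ Big (ψ sw * ψ' sw) := fun hb => by
  obtain ⟨σ, τ, hf⟩ := h.toSM.fb
  obtain ⟨k, -, e⟩ := h.tj.rf_uniq (by decide) (hf.fs.rf 0) (rf2 h)
  refine hf.ph3 (hb.conj (isConj_iff.2 ⟨(a (ee 0) ^ k)⁻¹, ?_⟩))
  rw [e, (hf.ps.cr sw).eq]
  calc _ = (a (ee 0) ^ k)⁻¹ * (ψ sw * a (ee 0) ^ k) * σ 0 := by group
    _ = _ := by rw [← ((h.bL sw).pow_left k).eq]; group

theorem A_le (u : V4) : a u ∈ Qm.map ψ ⊔ Qm.map ψ' ⊔ zpowers (a (ee 1)) := by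
  rw [span4 u, h.toTA.add, h.toTA.add, h.toTA.add, h.toTA.smul, h.toTA.smul, h.toTA.smul, h.toTA.smul]
  refine mul_mem (mem_sup_left (mul_mem (mem_sup_left (mul_mem (pow_mem (x1 h).zQ _) (pow_mem ?_ _)))
    (mem_sup_right (pow_mem ?_ _)))) (mem_sup_right (npow_mem_zpowers _ _))
  · exact c1 h ▸ mem_map_of_mem ψ cc_m.1
  · exact c2 h ▸ mem_map_of_mem ψ' cc_m.1

theorem three (P : Subgroup G) (hP : IsPGroup 3 P) (hA : Jg a ≤ P) (hz : P ≤ 𝒞[a zv]) :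
    P ≤ Qm.map ψ ⊔ Qm.map ψ' ⊔ zpowers (a (ee 1)) := fun p hp => by
  obtain ⟨θ, hθ, hp'⟩ := h.tj.sim p (h.tj.norm_of_le hP hA (le_normalizer hp))
  obtain ⟨k, hk⟩ := H70.isPGroup_iff_mem.1 hP p hp
  have e : θ *ᵥ zv = zv := h.toTA.injective (by rw [← hp', mem_cent1.1 (hz hp), mul_inv_cancel_right])
  obtain ⟨i, j, rfl⟩ := lin3 hθ e (h.toTA.ac_pow hp' hk)
  have a1 : Ac a (ψ bm) bt := act_gen h.toTA (pj h) h.bL bm_jm bt0
  have a2 : Ac a (ψ' bm) (sf * bt * (-sfᵀ)) := fun u => by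
    have := act_gen h.oe.toTA (pj' h) h.oe.ps.cb bm_jm bt0 ((-sfᵀ) *ᵥ u)
    rw [tw, tw, mulVec_mulVec, sf_inv, one_mulVec, mulVec_mulVec, mulVec_mulVec] at this
    exact this
  obtain ⟨u, rfl⟩ := h.tj.ac_uniq ((ac_pow a1 i).mul (ac_pow a2 j)) hp'
  exact mul_mem (mem_sup_left (mul_mem (mem_sup_left (pow_mem (mem_map_of_mem _ cc_m.2.2) _))
    (mem_sup_right (pow_mem (mem_map_of_mem _ cc_m.2.2) _)))) (A_le h u)

theorem ncj {v : V4} (hv : v ⬝ᵥ v ≠ 0) : ¬ IsConj (a zv) (a v) := fun hc => by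
  obtain ⟨g, hg⟩ := isConj_iff.1 hc
  obtain ⟨n, θ, hθ, -, e, -⟩ := h.tj.fus2 hg hg
  exact hv (e ▸ hθ.dot_eq_zero.2 (by decide))

omit [Finite G] in
theorem cjz {v : V4} (h0 : v ≠ 0) (hv : zv ⬝ᵥ zv = v ⬝ᵥ v) : IsConj (a zv) (a v) := by
  obtain ⟨θ, hθ, rfl⟩ := exists_iso (by decide) h0 hv
  obtain ⟨n, -, hn⟩ := h.tj.iso_gen h.tj.hasW_norm hθ
  exact isConj_iff.2 ⟨n, hn zv⟩

end

end ZsA

open ZsA in
theorem F4.fz (h : F4 a ψ ψ' ρ t E) : FZ (a zv) (a (ee 1)) (a cv) (a (-ee 0)) (ψ sw) (ψ' sw) (Jg a)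
    (Qm.map ψ) (Qm.map ψ') (Rm.map ψ) (Rm.map ψ') := by
  have j1 : a (ee 1) = ψ (jm (ee 1)) := (pj h _ rfl).symm
  have j2 : a (ee 1) = (ψ' (jm fv))⁻¹ := by rw [pj' h _ rfl, tw, sf_vec.2.2.2.1, h.toTA.neg, inv_inv]
  have r1 := h.toSM.toSt.rfs.1
  have r2 := rf2 h
  exact
    { z3 := z3 h
      x1 := x1 h
      x2 := x2 h
      QQ := Q2c h (x1 h).Qc (R2c h)
      R1c := Q2c h (x1 h).Rc (RR h)
      R2c := R2c h
      RR := cent_symm (RR h)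
      dec := dec h
      j3 := h.toTA.cube _
      jz := h.toTA.comm _ _
      jQ1 := j1 ▸ map_norm (jm_Qm _)
      jQ2 := j2 ▸ inv_mem (map_norm (jm_Qm _))
      jR1 := j1 ▸ map_norm (jm_Rm (by decide))
      jR2 := j2 ▸ inv_mem (map_norm (jm_Rm (by decide)))
      jm := ⟨ψ u1, mem_map_of_mem _ (subset_closure (.inl rfl)), fun hc => u1_nc (h.ψi (by
        rw [map_mul, map_mul, h.c 0]; exact hc))⟩
      b1 := h.toTA.big ind1 (r1.comm_a (by decide)) (r1.comm_a (by decide)) (r1.comm_a (by decide))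
      b2 := h.toTA.big ind2 (r2.comm_a (by decide)) (r2.comm_a (by decide)) (r2.comm_a (by decide))
      b0 := b0 h
      AX := fun x hx => by
        obtain ⟨u, rfl⟩ := h.toTA.mem_Jg.1 hx
        exact mem_cent1.2 (h.toTA.comm _ _)
      A3 := h.toTA.isP
      three := three h
      sig := h.tj.sig
      cQ := c1 h ▸ mem_map_of_mem ψ cc_m.1
      cz := c1 h ▸ z1 h ▸ notin h.ψi
      bQ := c2 h ▸ mem_map_of_mem ψ' cc_m.1
      bz := c2 h ▸ z2 h ▸ notin h.oe.ps.ψi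
      nc := ncj h (by decide)
      nb := ncj h (by decide)
      zi := h.toTA.neg zv ▸ cjz h (by decide) (by decide)
      mix := h.toTA.add cv (-ee 0) ▸ cjz h (by decide) (by decide) }

end Cfsg.Agent.S86
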