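import Cfsg.Agent.S86.Defs
import Cfsg.Agent.F42.LocR
import Cfsg.Agent.S0215
import Cfsg.Agent.T3.YLa
import Cfsg.Agent.H42.SylIn
import Cfsg.Agent.H49.Core

set_option autoImplicit false

namespace Cfsg.Agent.S86

open Subgroup H49 Matrix F42
open Cfsg.Agent.L72 (O2N)

variable {G : Type*} [Group G] [Finite G] {a : V4 → G} {ψ ψ' : S6 →* G} {ρ : Fin 4 → G} {t : Fin 4 → Fin 4 → G}
  {e E : ℕ → G} {φ : S8 →* G}

omit [Finite G] in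
theorem ZsB_big {g x : G} : Big (g * x * g⁻¹) ↔ Big x := by
  unfold Big
  rw [← cj_cent1, card_cj]

omit [Finite G] in
theorem ZsB_zp {p k : ℕ} {x : G} (h : x ^ p ^ k = 1) : IsPGroup p (zpowers x) := by
  rintro ⟨y, n, rfl⟩
  refine ⟨k, Subtype.ext ?_⟩
  change (x ^ n) ^ p ^ k = 1
  rw [← _root_.zpow_natCast, ← _root_.zpow_mul, mul_comm, _root_.zpow_mul, _root_.zpow_natCast, h, _root_.one_zpow]

section

variable {z j c b r1 r2 : G} {A Q1 Q2 R1 R2 : Subgroup G}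

theorem ZsB_inf (h : FZ z j c b r1 r2 A Q1 Q2 R1 R2) {u : G} (h1 : u ∈ R1) (h2 : u ∈ R2) : u = 1 := by
  refine h.x1.free h.z3 h1 h.cQ h.cz ?_
  have e : c * u = u * c := h.R2c h2 c h.cQ
  rw [← e, mul_inv_cancel_right, mul_inv_cancel]
  exact one_mem _

omit [Finite G] in
theorem ZsB_cm (h : FZ z j c b r1 r2 A Q1 Q2 R1 R2) {u v : G} (hu : u ∈ R1) (hv : v ∈ R2) : Commute u v :=
  (h.RR hu v hv).symm

omit [Finite G] in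
theorem ZsB_memT (h : FZ z j c b r1 r2 A Q1 Q2 R1 R2) {x : G} :
    x ∈ R1 ⊔ R2 ↔ ∃ u ∈ R1, ∃ v ∈ R2, x = u * v :=
  mem_sup_of_norm_right (norm_of_cent h.RR)

omit [Finite G] in
theorem ZsB_isP (h : FZ z j c b r1 r2 A Q1 Q2 R1 R2) : IsPGroup 2 ↥(R1 ⊔ R2) :=
  h.x1.q8.isP.to_sup_of_normal_right' h.x2.q8.isP (norm_of_cent h.RR)

theorem ZsB_ne (h : FZ z j c b r1 r2 A Q1 Q2 R1 R2) : r1 ≠ r2 := fun e =>
  h.x1.q8.ne (ZsB_inf h h.x1.q8.mem (e ▸ h.x2.q8.mem))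

omit [Finite G] in
theorem ZsB_c1 (h : FZ z j c b r1 r2 A Q1 Q2 R1 R2) {x : G} (hx : x ∈ R1 ⊔ R2) : Commute x r1 := by
  obtain ⟨u, hu, v, hv, rfl⟩ := (ZsB_memT h).1 hx
  exact (h.x1.q8.comm_r hu).mul_left (ZsB_cm h h.x1.q8.mem hv).symm

omit [Finite G] in
theorem ZsB_c2 (h : FZ z j c b r1 r2 A Q1 Q2 R1 R2) {x : G} (hx : x ∈ R1 ⊔ R2) : Commute x r2 := by
  obtain ⟨u, hu, v, hv, rfl⟩ := (ZsB_memT h).1 hx
  exact (ZsB_cm h hu h.x2.q8.mem).mul_left (h.x2.q8.comm_r hv)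

omit [Finite G] in
theorem ZsB_t2 (h : FZ z j c b r1 r2 A Q1 Q2 R1 R2) : r1 * r2 * (r1 * r2) = 1 := by
  have e := (ZsB_cm h h.x1.q8.mem h.x2.q8.mem).eq
  calc r1 * r2 * (r1 * r2) = r1 * (r2 * r1) * r2 := by group
    _ = r1 * r1 * (r2 * r2) := by rw [← e]; group
    _ = 1 := by rw [h.x1.q8.sq, h.x2.q8.sq, mul_one]

theorem ZsB_t1 (h : FZ z j c b r1 r2 A Q1 Q2 R1 R2) : r1 * r2 ≠ 1 := fun e =>
  h.x1.q8.ne (ZsB_inf h h.x1.q8.mem (by rw [eq_inv_of_mul_eq_one_left e]; exact R2.inv_mem h.x2.q8.mem))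

omit [Finite G] in
theorem ZsB_sq (h : FZ z j c b r1 r2 A Q1 Q2 R1 R2) {u v : G} (hu : u ∈ R1) (hv : v ∈ R2) :
    u * v * (u * v) = u * u * (v * v) := by
  have e := (ZsB_cm h hu hv).eq
  calc u * v * (u * v) = u * (v * u) * v := by group
    _ = u * u * (v * v) := by rw [← e]; group

omit [Finite G] in
theorem ZsB_q8 {R : Subgroup G} {r u : G} (q : T3.Q8 R r) (hu : u ∈ R) (e : u * u = 1) : u = 1 ∨ u = r := by
  rcases q.el u hu with h | h | h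
  · exact Or.inl h
  · exact Or.inr h
  · exact absurd (h.symm.trans e) q.ne

/-- if the square of `u v` lies in `R2` then `u` is central in `R1` -/
theorem ZsB_left (h : FZ z j c b r1 r2 A Q1 Q2 R1 R2) {u v : G} (hu : u ∈ R1) (hv : v ∈ R2)
    (e : u * v * (u * v) ∈ R2) : u * u = 1 := by
  rw [ZsB_sq h hu hv] at e
  exact ZsB_inf h (R1.mul_mem hu hu) ((R2.mul_mem_cancel_right (R2.mul_mem hv hv)).1 e)

/-- the involutions of `R1 R2` -/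
theorem ZsB_inv (h : FZ z j c b r1 r2 A Q1 Q2 R1 R2) {x : G} (hx : x ∈ R1 ⊔ R2) (e : x * x = 1) :
    x = 1 ∨ x = r1 ∨ x = r2 ∨ x = r1 * r2 := by
  obtain ⟨u, hu, v, hv, rfl⟩ := (ZsB_memT h).1 hx
  have e1 := ZsB_left h hu hv (e ▸ R2.one_mem)
  have e2 : v * v = 1 := by rw [ZsB_sq h hu hv, e1, one_mul] at e; exact e
  rcases ZsB_q8 h.x1.q8 hu e1 with rfl | rfl <;> rcases ZsB_q8 h.x2.q8 hv e2 with rfl | rfl <;> simp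

theorem ZsB_invB (h : FZ z j c b r1 r2 A Q1 Q2 R1 R2) {g r : G} (hb : Big r) (r2' : r * r = 1) (r1' : r ≠ 1)
    (hx : g * r * g⁻¹ ∈ R1 ⊔ R2) : g * r * g⁻¹ = r1 ∨ g * r * g⁻¹ = r2 := by
  rcases ZsB_inv h hx (by rw [show g * r * g⁻¹ * (g * r * g⁻¹) = g * (r * r) * g⁻¹ by group, r2']; group) with
    e | e | e | e
  · exact absurd (conj_eq_one_iff.1 e) r1'
  · exact Or.inl e
  · exact Or.inr e
  · exact absurd (e ▸ ZsB_big.2 hb) h.b0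

theorem ZsB_invN (h : FZ z j c b r1 r2 A Q1 Q2 R1 R2) {g : G} (hx : g * (r1 * r2) * g⁻¹ ∈ R1 ⊔ R2) :
    g * (r1 * r2) * g⁻¹ = r1 * r2 := by
  rcases ZsB_inv h hx (by
    rw [show g * (r1 * r2) * g⁻¹ * (g * (r1 * r2) * g⁻¹) = g * (r1 * r2 * (r1 * r2)) * g⁻¹ by group, ZsB_t2 h]
    group) with e | e | e | e
  · exact absurd (conj_eq_one_iff.1 e) (ZsB_t1 h)
  · exact absurd (ZsB_big.1 (e ▸ h.b1)) h.b0
  · exact absurd (ZsB_big.1 (e ▸ h.b2)) h.b0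
  · exact e

/-- `R1 R2` is a Sylow 2-subgroup of `C(z, r1)` -/
theorem ZsB_max (h : FZ z j c b r1 r2 A Q1 Q2 R1 R2) {S : Subgroup G} (hS : IsPGroup 2 S) (hT : R1 ⊔ R2 ≤ S)
    (hX : S ≤ 𝒞[z]) {g : G} (hg : g ∈ S) (hr : Commute g r1) : g ∈ R1 ⊔ R2 := by
  haveI : Fact (Nat.Prime 3) := ⟨Nat.prime_three⟩
  obtain ⟨u, hu, q, hq, v, hv, k, e⟩ := h.dec g (mem_cent1.1 (hX hg)) hr
  have uv : u * v ∈ R1 ⊔ R2 := (ZsB_memT h).2 ⟨u, hu, v, hv, rfl⟩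
  have h3 : IsPGroup 3 ↥(Q2 ⊔ zpowers j) :=
    (IsPGroup.of_card (n := 3) h.x2.card).to_sup_of_normal_left' (ZsB_zp (k := 1) h.j3) (zpowers_le.2 h.jQ2)
  have e' : (u * v)⁻¹ * g = v⁻¹ * q * v * j ^ k := by rw [e]; group
  have m3 : (u * v)⁻¹ * g ∈ Q2 ⊔ zpowers j := by
    rw [e']
    exact mul_mem (mem_sup_left (conj_mem_of_norm' h.x2.Rn hv hq)) (mem_sup_right (npow_mem_zpowers j k))
  have m2 : (u * v)⁻¹ * g ∈ S := S.mul_mem (S.inv_mem (hT uv)) hg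
  have := (Subgroup.disjoint_def.1 (IsPGroup.disjoint_of_ne 2 3 (by norm_num) _ _ hS h3)) m2 m3
  rw [← inv_mul_eq_one.1 this]
  exact uv

theorem ZsB_sqT (h : FZ z j c b r1 r2 A Q1 Q2 R1 R2) {S : Subgroup G} (hS : IsPGroup 2 S) (hT : R1 ⊔ R2 ≤ S)
    (hX : S ≤ 𝒞[z]) {s : G} (hs : s ∈ S) (h1 : s * r1 * s⁻¹ = r1 ∨ s * r1 * s⁻¹ = r2)
    (h2 : s * r2 * s⁻¹ = r1 ∨ s * r2 * s⁻¹ = r2) : s * s ∈ R1 ⊔ R2 := by
  rcases h1 with h1 | h1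
  · have := ZsB_max h hS hT hX hs (mul_inv_eq_iff_eq_mul.1 h1)
    exact mul_mem this this
  · rcases h2 with h2 | h2
    · refine ZsB_max h hS hT hX (S.mul_mem hs hs) (mul_inv_eq_iff_eq_mul.1 ?_)
      rw [show s * s * r1 * (s * s)⁻¹ = s * (s * r1 * s⁻¹) * s⁻¹ by group, h1, h2]
    · exact absurd (mul_left_cancel (mul_right_cancel (h1.trans h2.symm))) (ZsB_ne h)

/-- a 2-subgroup of `C(z)` containing `R1 R2` permutes `r1, r2` -/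
theorem ZsB_perm (h : FZ z j c b r1 r2 A Q1 Q2 R1 R2) {S : Subgroup G} (hS : IsPGroup 2 S) (hT : R1 ⊔ R2 ≤ S)
    (hX : S ≤ 𝒞[z]) {s : G} (hs : s ∈ S) :
    (s * r1 * s⁻¹ = r1 ∨ s * r1 * s⁻¹ = r2) ∧ (s * r2 * s⁻¹ = r1 ∨ s * r2 * s⁻¹ = r2) := by
  let D : Subgroup G := S ⊓ normalizer ({r1, r2} : Set G)
  have mD : ∀ s, s ∈ D ↔ s ∈ S ∧ (s * r1 * s⁻¹ = r1 ∨ s * r1 * s⁻¹ = r2) ∧
      (s * r2 * s⁻¹ = r1 ∨ s * r2 * s⁻¹ = r2) := by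
    intro s
    refine ⟨fun hs => ⟨hs.1, ?_, ?_⟩, fun hs => ⟨hs.1, mem_normalizer_fintype ?_⟩⟩
    · exact (mem_set_normalizer_iff.1 hs.2 r1).1 (Or.inl rfl)
    · exact (mem_set_normalizer_iff.1 hs.2 r2).1 (Or.inr rfl)
    · rintro n (rfl | rfl)
      · exact hs.2.1
      · exact hs.2.2
  have TD : R1 ⊔ R2 ≤ D := fun x hx => (mD x).2 ⟨hT hx, Or.inl (mul_inv_eq_iff_eq_mul.2 (ZsB_c1 h hx).eq),
    Or.inr (mul_inv_eq_iff_eq_mul.2 (ZsB_c2 h hx).eq)⟩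
  have key : ∀ g ∈ 𝒩(D), ∀ u ∈ R1 ⊔ R2, g * (u * u) * g⁻¹ ∈ R1 ⊔ R2 := by
    intro g hg u hu
    obtain ⟨m1, m2, m3⟩ := (mD _).1 (conj_mem_of_norm le_rfl hg (TD hu))
    rw [show g * (u * u) * g⁻¹ = g * u * g⁻¹ * (g * u * g⁻¹) by group]
    exact ZsB_sqT h hS hT hX m1 m2 m3
  have DS : D = S := by
    by_contra hne
    obtain ⟨g, hg, hg'⟩ := SetLike.exists_of_lt (H42.lt_inf_normalizer hS (lt_of_le_of_ne inf_le_left hne))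
    obtain ⟨u, hu, u2⟩ := h.x1.q8.exists_four
    obtain ⟨v, hv, v2⟩ := h.x2.q8.exists_four
    refine hg' ((mD g).2 ⟨hg.1, ZsB_invB h h.b1 h.x1.q8.sq h.x1.q8.ne ?_, ZsB_invB h h.b2 h.x2.q8.sq h.x2.q8.ne ?_⟩)
    · rw [← u2]; exact key g hg.2 u (mem_sup_left hu)
    · rw [← v2]; exact key g hg.2 v (mem_sup_right hv)
  exact ((mD s).1 (DS ▸ hs)).2

/-- `r1 r2` is isolated in a Sylow 2-subgroup of `C(z)` -/
theorem ZsB_iso (h : FZ z j c b r1 r2 A Q1 Q2 R1 R2) {S : Subgroup G} (hS : H42.SylIn 2 S 𝒞[z])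
    (hT : R1 ⊔ R2 ≤ S) {g : G} (hg : g ∈ 𝒞[z]) (hs : g * (r1 * r2) * g⁻¹ ∈ S) :
    g * (r1 * r2) * g⁻¹ = r1 * r2 := by
  have c12 := (ZsB_cm h h.x1.q8.mem h.x2.q8.mem).eq
  have St : S ≤ 𝒞[r1 * r2] := fun s hs => by
    refine mem_cent1.2 (mul_inv_eq_iff_eq_mul.1 ?_)
    rw [show s * (r1 * r2) * s⁻¹ = s * r1 * s⁻¹ * (s * r2 * s⁻¹) by group]
    obtain ⟨h1 | h1, h2 | h2⟩ := ZsB_perm h hS.isP hT hS.le hs
    · exact absurd (mul_left_cancel (mul_right_cancel (h1.trans h2.symm))) (ZsB_ne h)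
    · rw [h1, h2]
    · rw [h1, h2, c12]
    · exact absurd (mul_left_cancel (mul_right_cancel (h1.trans h2.symm))) (ZsB_ne h)
  generalize ht : g * (r1 * r2) * g⁻¹ = t at hs ⊢
  have t2 : t * t = 1 := by
    rw [← ht, show g * (r1 * r2) * g⁻¹ * (g * (r1 * r2) * g⁻¹) = g * (r1 * r2 * (r1 * r2)) * g⁻¹ by group,
      ZsB_t2 h]
    group
  obtain h1 | h1 := (ZsB_perm h hS.isP hT hS.le hs).1
  · have := ZsB_max h hS.isP hT hS.le hs (mul_inv_eq_iff_eq_mul.1 h1)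
    rw [← ht] at this ⊢
    exact ZsB_invN h this
  have tt : ∀ x : G, t * (t * x * t⁻¹) * t⁻¹ = x := fun x => by
    rw [show t * (t * x * t⁻¹) * t⁻¹ = t * t * x * (t * t)⁻¹ by group, t2]; group
  have h2 : t * r2 * t⁻¹ = r1 := by rw [← h1, tt]
  obtain ⟨u, hu, u2⟩ := h.x1.q8.exists_four
  have uS : u ∈ S := hT (mem_sup_left hu)
  have u'S : t * u * t⁻¹ ∈ S := S.mul_mem (S.mul_mem hs uS) (S.inv_mem hs)
  have u'2 : t * u * t⁻¹ * (t * u * t⁻¹) = r2 := by rw [← h1, ← u2]; group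
  have u'T : t * u * t⁻¹ ∈ R1 ⊔ R2 := by
    refine ZsB_max h hS.isP hT hS.le u'S ?_
    rw [← h2]
    exact (ZsB_cm h hu h.x2.q8.mem).conj t
  have cuu : Commute u (t * u * t⁻¹) := by
    obtain ⟨x, hx, y, hy, e⟩ := (ZsB_memT h).1 u'T
    rw [e] at u'2 ⊢
    refine Commute.mul_right ?_ (ZsB_cm h hu hy)
    rcases ZsB_q8 h.x1.q8 hx (ZsB_left h hx hy (u'2 ▸ h.x2.q8.mem)) with rfl | rfl
    · exact Commute.one_right u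
    · exact h.x1.q8.comm_r hu
  generalize hw : u * (t * u * t⁻¹) = w
  have wS : w ∈ S := hw ▸ S.mul_mem uS u'S
  have wt : t * w * t⁻¹ = w := by
    rw [← hw, show t * (u * (t * u * t⁻¹)) * t⁻¹ = t * u * t⁻¹ * (t * (t * u * t⁻¹) * t⁻¹) by group, tt, cuu.eq]
  have w2 : w * w = r1 * r2 := by
    rw [← hw, ← u2, ← u'2]
    calc u * (t * u * t⁻¹) * (u * (t * u * t⁻¹)) = u * ((t * u * t⁻¹) * u) * (t * u * t⁻¹) := by group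
      _ = _ := by rw [← cuu.eq]; group
  have hS' : H42.SylIn 2 S (𝒞[z] ⊓ 𝒞[r1 * r2]) := hS.of_le (le_inf hS.le St) inf_le_left
  have w4 : (g⁻¹ * w * g) ^ 2 ^ 2 = 1 := by
    rw [show (g⁻¹ * w * g) ^ 2 ^ 2 = g⁻¹ * (w * w * (w * w)) * g by
      rw [show (2 : ℕ) ^ 2 = 1 + 1 + 1 + 1 from rfl]; simp only [pow_succ, pow_zero]; group, w2, ZsB_t2 h]
    group
  have wX : g⁻¹ * w * g ∈ 𝒞[z] ⊓ 𝒞[r1 * r2] := by
    refine ⟨conj_mem_of_norm' le_normalizer hg (hS.le wS), mem_cent1.2 ?_⟩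
    have e : r1 * r2 = g⁻¹ * t * g := by rw [← ht]; group
    rw [e]
    calc g⁻¹ * w * g * (g⁻¹ * t * g) = g⁻¹ * (t * w * t⁻¹ * t) * g := by rw [wt]; group
      _ = _ := by group
  obtain ⟨k, hk, hk'⟩ := hS'.exists_conj (ZsB_zp w4) (zpowers_le.2 wX)
  have m := hk' _ (mem_zpowers _)
  obtain ⟨m1, m2⟩ := ZsB_perm h hS.isP hT hS.le m
  have m3 := ZsB_sqT h hS.isP hT hS.le m m1 m2
  rw [show k * (g⁻¹ * w * g) * k⁻¹ * (k * (g⁻¹ * w * g) * k⁻¹) = k * g⁻¹ * (w * w) * (k * g⁻¹)⁻¹ by group,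
    w2] at m3
  have m4 := ZsB_invN h m3
  have m5 : k * (r1 * r2) * k⁻¹ = r1 * r2 := mul_inv_eq_iff_eq_mul.2 (mem_cent1.1 hk.2)
  rw [← ht]
  calc g * (r1 * r2) * g⁻¹ = g * k⁻¹ * (k * (r1 * r2) * k⁻¹) * k * g⁻¹ := by group
    _ = g * k⁻¹ * (k * g⁻¹ * (r1 * r2) * (k * g⁻¹)⁻¹) * k * g⁻¹ := by rw [m4, m5]
    _ = r1 * r2 := by group

end

theorem FZ.zstar {z j c b r1 r2 : G} {A Q1 Q2 R1 R2 : Subgroup G} (h : FZ z j c b r1 r2 A Q1 Q2 R1 R2) :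
    ∃ O : Subgroup G, Odd (Nat.card O) ∧ O ≤ 𝒞[z] ∧ 𝒞[z] ≤ 𝒩(O) ∧ z ∈ O ∧
      ∀ g ∈ 𝒞[z], g * (r1 * r2) * g⁻¹ * (r1 * r2)⁻¹ ∈ O := by
  have TX : R1 ⊔ R2 ≤ 𝒞[z] := sup_le h.x1.Rc h.x2.Rc
  obtain ⟨S, hS, hT⟩ := H42.exists_sylIn (ZsB_isP h) TX
  have t0 : r1 * r2 ∈ R1 ⊔ R2 := (ZsB_memT h).2 ⟨_, h.x1.q8.mem, _, h.x2.q8.mem, rfl⟩
  let P : Sylow 2 ↥𝒞[z] := (hS.isP.comap_subtype (K := 𝒞[z])).toSylow hS.ndvd
  obtain ⟨N, hN, hodd, hc⟩ := S0215.result P ⟨r1 * r2, TX t0⟩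
    (orderOf_eq_prime (Subtype.ext (by rw [pow_two]; exact ZsB_t2 h)) fun e => ZsB_t1 h (congrArg Subtype.val e))
    (hT t0) fun g hg => Subtype.ext (ZsB_iso h hS hT g.2 hg)
  have o2 : ∀ {H : Subgroup G}, IsPi {2}ᶜ H ↔ Odd (Nat.card H) := by
    intro H
    rw [isPi_compl_singleton Nat.prime_two, Nat.two_dvd_ne_zero, Nat.odd_iff]
  refine ⟨piCoreOf {2}ᶜ 𝒞[z], o2.1 (piCoreOf_pi _ _), piCoreOf_le _ _, le_norm_piCoreOf _ _, ?_, fun g hg => ?_⟩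
  · refine le_piCoreOf (zpowers_le.2 (self_mem_cent1 z)) (norm_of_cent (cent_zpowers z).ge) (o2.2 ?_)
      (mem_zpowers z)
    rw [Nat.card_zpowers, h.z3]
    decide
  · refine le_piCoreOf (map_subtype_le N) (norm_map_subtype N) (o2.2 ?_) ⟨_, N.inv_mem (hc ⟨g, hg⟩), ?_⟩
    · rw [card_map_of_injective (subtype_injective _)]
      exact hodd
    · change (r1 * r2 * g * (r1 * r2)⁻¹ * g⁻¹)⁻¹ = _
      group

end Cfsg.Agent.S86
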