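import Cfsg.Agent.S86.ZsB
import Cfsg.Agent.S0205

set_option autoImplicit false

namespace Cfsg.Agent.S86

open Subgroup H49 Matrix F42
open Cfsg.Agent.L72 (O2N)

variable {G : Type*} [Group G] [Finite G] {a : V4 → G} {ψ ψ' : S6 →* G} {ρ : Fin 4 → G} {t : Fin 4 → Fin 4 → G}
  {e E : ℕ → G} {φ : S8 →* G}

omit [Finite G] in
theorem ZsC_sq {H : Subgroup G} {q : G} (h3 : q ^ 3 = 1) (h : q * q ∈ H) : q ∈ H :=
  T3.YLa.mem_of_pow3 h3 (n := 2) (by decide) (by rwa [pow_two])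

omit [Finite G] in
theorem ZsC_le {z r : G} {Q R O : Subgroup G} (x : XQ z Q R r) (zO : z ∈ O)
    (hO : ∀ q ∈ Q, q * r * q⁻¹ * r⁻¹ ∈ O) : Q ≤ O := by
  intro q hq
  have w := x.inv q⁻¹ (Q.inv_mem hq)
  have e := lr_conj (x.Qc hq) w
  have m := O.mul_mem (O.inv_mem (zpowers_le.2 zO w)) (hO q hq)
  rw [← e, show (q * (r * q⁻¹ * r⁻¹ * q⁻¹) * q⁻¹)⁻¹ * (q * r * q⁻¹ * r⁻¹) = q ^ 2 by group, pow_two] at m
  exact ZsC_sq (x.exp q hq) m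

omit [Finite G] in
theorem ZsC_side {z r : G} {Q Q' R P O : Subgroup G} (x : XQ z Q R r) (zQ' : z ∈ Q') (QQ : Q ≤ 𝒞(Q'))
    (Rc : R ≤ 𝒞(Q')) (PQ : P ≤ Q ⊔ Q') (RP : R ≤ 𝒩(P)) (zP : z ∈ P) (QO : Q ≤ O) (hc : O ⊓ 𝒞(P) ≤ P) :
    Q ≤ P := by
  have zP' : zpowers z ≤ P := zpowers_le.2 zP
  by_cases hP : P ≤ Q'
  · exact (le_inf QO (QQ.trans (cent_anti hP))).trans hc
  obtain ⟨p, hp, hp'⟩ := SetLike.not_le_iff_exists.1 hP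
  obtain ⟨p1, h1, p2, h2, rfl⟩ := (mem_sup_of_norm_right (norm_of_cent QQ)).1 (PQ hp)
  have hz : p1 ∉ zpowers z := fun hz => hp' (Q'.mul_mem (zpowers_le.2 zQ' hz) h2)
  have c2 : p2 * r = r * p2 := Rc x.q8.mem p2 h2
  have m := P.mul_mem (P.inv_mem (zP' (x.inv p1 h1)))
    (P.mul_mem (conj_mem_of_norm RP x.q8.mem hp) (P.inv_mem hp))
  have e : (r * p1 * r⁻¹ * p1)⁻¹ * (r * (p1 * p2) * r⁻¹ * (p1 * p2)⁻¹) = (p1 * p1)⁻¹ := by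
    calc _ = (r * p1 * r⁻¹ * p1)⁻¹ * (r * p1 * r⁻¹ * (r * p2) * r⁻¹ * (p1 * p2)⁻¹) := by group
      _ = _ := by rw [← c2]; group
  rw [e, P.inv_mem_iff] at m
  have m1 := ZsC_sq (x.exp p1 h1) m
  intro q hq
  by_cases hqz : q ∈ zpowers z
  · exact zP' hqz
  obtain ⟨g, hg, hg'⟩ := x.tr p1 h1 q hq hz hqz
  exact P.inv_mem_iff.1 ((P.mul_mem_cancel_left (conj_mem_of_norm RP hg m1)).1 (zP' hg'))

theorem FZ.normQ {z j c b r1 r2 : G} {A Q1 Q2 R1 R2 : Subgroup G} (h : FZ z j c b r1 r2 A Q1 Q2 R1 R2) :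
    𝒞[z] ≤ 𝒩(Q1 ⊔ Q2) := by
  obtain ⟨O, hodd, OX, XO, zO, hO⟩ := h.zstar
  have c12 := (ZsB_cm h h.x1.q8.mem h.x2.q8.mem).eq
  have Q1O : Q1 ≤ O := ZsC_le h.x1 zO fun q hq => by
    have e : q * r2 = r2 * q := h.R2c h.x2.q8.mem q hq
    have m := hO q (h.x1.Qc hq)
    rwa [show q * (r1 * r2) * q⁻¹ * (r1 * r2)⁻¹ = q * r1 * q⁻¹ * (q * r2) * q⁻¹ * (r1 * r2)⁻¹ by group, e,
      show q * r1 * q⁻¹ * (r2 * q) * q⁻¹ * (r1 * r2)⁻¹ = q * r1 * q⁻¹ * (r2 * r2⁻¹) * r1⁻¹ by group,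
      mul_inv_cancel, mul_one] at m
  have Q2O : Q2 ≤ O := ZsC_le h.x2 zO fun q hq => by
    have e : q * r1 = r1 * q := h.R1c h.x1.q8.mem q hq
    have m := hO q (h.x2.Qc hq)
    rwa [c12, show q * (r2 * r1) * q⁻¹ * (r2 * r1)⁻¹ = q * r2 * q⁻¹ * (q * r1) * q⁻¹ * (r2 * r1)⁻¹ by group, e,
      show q * r2 * q⁻¹ * (r1 * q) * q⁻¹ * (r2 * r1)⁻¹ = q * r2 * q⁻¹ * (r1 * r1⁻¹) * r2⁻¹ by group,
      mul_inv_cancel, mul_one] at m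
  have XP : ∀ π : Set ℕ, 𝒞[z] ≤ 𝒩(piCoreOf π O) := fun π => norm_piCoreOf π XO
  have hb : piCoreOf {3}ᶜ O = ⊥ :=
    h.sig _ ((isPi_compl_singleton_iff_coprime Nat.prime_three).1 (piCoreOf_pi _ _)) (h.AX.trans (XP _))
  have hc := cent_pcore_le (S0205.result hodd) hb
  have PO := piCoreOf_le {3} O
  have P3 : IsPGroup 3 (piCoreOf {3} O) := (piCoreOf_pi _ _).isPGroup Nat.prime_three
  have zP : z ∈ piCoreOf {3} O :=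
    le_piCoreOf (zpowers_le.2 zO) (norm_of_cent (OX.trans (cent_zpowers z).ge))
      (isPi_of_card_eq_prime Nat.prime_three (by rw [Nat.card_zpowers, h.z3])) (mem_zpowers z)
  have XP3 := XP {3}
  generalize piCoreOf {3} O = P at hc PO P3 zP XP3
  have PS : P ≤ Q1 ⊔ Q2 ⊔ zpowers j := le_sup_right.trans
    (h.three (A ⊔ P) (h.A3.to_sup_of_normal_right' P3 (h.AX.trans XP3)) le_sup_left (sup_le h.AX (PO.trans OX)))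
  have jO : j ∉ O := by
    intro jO
    obtain ⟨u, hu, hju⟩ := h.jm
    have m1 : j * u * j⁻¹ * u⁻¹ ∈ R1 := R1.mul_mem (conj_mem_of_norm le_rfl h.jR1 hu) (R1.inv_mem hu)
    have m2 : j * u * j⁻¹ * u⁻¹ ∈ O := by
      rw [show j * u * j⁻¹ * u⁻¹ = j * (u * j⁻¹ * u⁻¹) by group]
      exact O.mul_mem jO (conj_mem_of_norm XO (h.x1.Rc hu) (O.inv_mem jO))
    have hbot : R1 ⊓ O = ⊥ := (isPi_of_isPGroup Nat.prime_two h.x1.q8.isP).inf_eq_bot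
      ((isPi_compl_singleton Nat.prime_two).2 (Nat.two_dvd_ne_zero.2 (Nat.odd_iff.1 hodd)))
    have m3 : j * u * j⁻¹ * u⁻¹ = 1 := mem_bot.1 (hbot ▸ (⟨m1, m2⟩ : _ ∈ R1 ⊓ O))
    exact hju (mul_inv_eq_iff_eq_mul.1 (mul_inv_eq_one.1 m3))
  have PQ : P ≤ Q1 ⊔ Q2 := by
    intro p hp
    obtain ⟨q, hq, y, hy, rfl⟩ := (mem_sup_of_norm_left (norm_sup (zpowers_le.2 h.jQ1) (zpowers_le.2 h.jQ2))).1
      (PS hp)
    obtain ⟨n, rfl⟩ := mem_powers_iff_mem_zpowers.2 hy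
    by_cases hn : 3 ∣ n
    · obtain ⟨k, rfl⟩ := hn
      simpa only [pow_mul, h.j3, one_pow, mul_one] using hq
    · exact absurd (T3.YLa.mem_of_pow3 h.j3 hn ((O.mul_mem_cancel_left (sup_le Q1O Q2O hq)).1 (PO hp))) jO
  have e : Q1 ⊔ Q2 = P := le_antisymm (sup_le
    (ZsC_side h.x1 h.x2.zQ h.QQ h.R1c PQ (h.x1.Rc.trans XP3) zP Q1O hc)
    (ZsC_side h.x2 h.x1.zQ (cent_symm h.QQ) h.R2c (sup_comm Q1 Q2 ▸ PQ) (h.x2.Rc.trans XP3) zP Q2O hc)) PQ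
  rw [e]
  exact XP3

end Cfsg.Agent.S86
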